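import Cfsg.Agent.Lib.ThreeTransp.M24Four.Model
import Cfsg.Agent.Lib.ThreeTransp.M24Four.GroupData
import Cfsg.Agent.Lib.Components.UnitarySix.Main
import Cfsg.Agent.S0283

/-!
The projective four-dimensional unitary group over nine elements on the 126 standard points.
-/

set_option autoImplicit false
set_option linter.unusedSectionVars false
set_option maxRecDepth 100000
set_option maxHeartbeats 0
set_option Elab.async false

noncomputable section

namespace Cfsg.Agent.ThreeTransp.M24Four.Model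

open Cfsg.Agent.InvChar.Coset (FF)
open Cfsg.Agent.ThreeTransp.M22Iso (Vec Pt)
open Cfsg.Agent.MonomialMult (Nine)
open Matrix

local notation "U6" => Cfsg.Agent.Components.UnitarySix.S

/-- The point of the table with a given number. -/
def mkP (n : ℕ) : Fin 126 := ⟨n % 126, Nat.mod_lt _ (by norm_num)⟩

theorem perm_perm : ∀ i j, perm i (perm i j) = j := by decide +kernel

/-- The permutation at a point. -/
def rp (i : Fin 126) : Equiv.Perm (Fin 126) :=
  Function.Involutive.toPerm (perm i) (perm_perm i)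

theorem rp_apply (i j : Fin 126) : rp i j = perm i j := rfl

/-- The permutations of the four generators. -/
def gP (k : Fin 4) : Equiv.Perm (Fin 126) :=
  ((genWords.getD k.val []).map fun n => rp (mkP n)).prod

/-- The matrices of the four generators. -/
def gM : Fin 4 → Matrix (Fin 6) (Fin 6) FF :=
  ![Components.UnitarySix.monMat 1 (Components.UnitarySix.dk 1).1,
    Components.UnitarySix.monMat Components.UnitarySix.Model.σ1 1,
    Components.UnitarySix.monMat Components.UnitarySix.Model.σ2 1,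
    Components.UnitarySix.Model.rMat]

theorem gen_spec : ∀ k i, ∃ c : FF, gM k *ᵥ pt i = c • pt (gP k i) := by
  decide +kernel

theorem genWords_even : ∀ k : Fin 4, Even (genWords.getD k.val []).length := by decide +kernel

/-- Pairs acting alike. -/
def Rel126 : Subgroup (U6 × Equiv.Perm (Fin 126)) :=
  let M : Submonoid (U6 × Equiv.Perm (Fin 126)) :=
    { carrier := {p | ∀ i, ∃ c : FF, p.1 • pt i = c • pt (p.2 i)}
      one_mem' := fun i => ⟨1, by rw [Prod.fst_one, Prod.snd_one, one_smul, one_smul]; rfl⟩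
      mul_mem' := fun {a b} ha hb i => by
        obtain ⟨c, hc⟩ := hb i
        obtain ⟨d, hd⟩ := ha (b.2 i)
        refine ⟨c * d, ?_⟩
        rw [Prod.fst_mul, mul_smul, hc, Components.UnitarySix.smul_def, Matrix.mulVec_smul,
          ← Components.UnitarySix.smul_def, hd, smul_smul]
        rfl }
  { M with
    inv_mem' := fun {p} h => by
      have e : p⁻¹ = p ^ (orderOf p - 1) := by
        rw [inv_eq_iff_mul_eq_one, ← pow_succ', Nat.sub_add_cancel (orderOf_pos p), pow_orderOf_eq_one]
      show p⁻¹ ∈ M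
      rw [e]
      exact pow_mem h _ }

theorem rel_spec {p : U6 × Equiv.Perm (Fin 126)} (h : p ∈ Rel126) (i : Fin 126) :
    ∃ c : FF, p.1 • pt i = c • pt (p.2 i) := h i

/-- The generated pairs. -/
def Pairs : Subgroup (U6 × Equiv.Perm (Fin 126)) :=
  Subgroup.closure (Set.range fun k => (Components.UnitarySix.Model.g k, gP k))

theorem pairs_le : Pairs ≤ Rel126 := (Subgroup.closure_le _).2 fun _ ⟨k, hk⟩ => hk ▸ fun i => by
  obtain ⟨c, hc⟩ := gen_spec k i
  refine ⟨c, ?_⟩
  rw [← hc, Components.UnitarySix.smul_def]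
  fin_cases k <;> exact Cfsg.Agent.Classical.Unitary.suMk_mulVec _ _ _ _

/-- The permutation group. -/
def M0 : Subgroup (Equiv.Perm (Fin 126)) := Subgroup.closure (Set.range gP)

theorem gP_mem (k : Fin 4) : gP k ∈ M0 := Subgroup.subset_closure ⟨k, rfl⟩

theorem map_snd : Pairs.map (MonoidHom.snd _ _) = M0 := by
  rw [Pairs, MonoidHom.map_closure, ← Set.range_comp]; rfl

theorem map_fst : Pairs.map (MonoidHom.fst _ _) = Components.UnitarySix.Model.M := by
  rw [Pairs, Components.UnitarySix.Model.M, Components.UnitarySix.Model.Mhat, MonoidHom.map_closure,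
    MonoidHom.map_closure, ← Set.range_comp, ← Set.range_comp]
  rfl

/-- The elements act by linear maps. -/
theorem linear {m : Equiv.Perm (Fin 126)} (hm : m ∈ M0) :
    ∃ g : U6, ∀ i, ∃ c : FF, g • pt i = c • pt (m i) := by
  rw [← map_snd] at hm
  obtain ⟨p, hp, rfl⟩ := hm
  exact ⟨p.1, rel_spec (pairs_le hp)⟩

theorem snd_eq_one {p : U6 × Equiv.Perm (Fin 126)} (hp : p ∈ Pairs) {l : FF}
    (hl : ∀ x : Vec, p.1 • x = l • x) : p.2 = 1 := by
  refine Equiv.ext fun i => ?_
  obtain ⟨c, hc⟩ := rel_spec (pairs_le hp) i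
  rw [hl] at hc
  have hl0 : l ≠ 0 := fun e =>
    Components.UnitarySix.smul_e_ne_zero p.1 0 (by rw [hl, e, zero_smul])
  have hc0 : c ≠ 0 := (pt_std _).1.smul_ne ((pt_std i).1.smul hl0) hc
  have := pt_inj i (p.2 i) (c⁻¹ * l) (by rw [mul_smul, hc, inv_smul_smul₀ hc0])
  exact this.symm

theorem gP_ne_one : gP 0 ≠ 1 := fun h =>
  absurd (congrArg (fun f : Equiv.Perm (Fin 126) => f) h) (by decide +kernel)

theorem iso : Nonempty (M0 ≃* Cfsg.PSU 4 Nine 3) := by
  let f1 : Pairs →* Components.UnitarySix.Model.M :=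
    ((MonoidHom.fst _ _).comp Pairs.subtype).codRestrict _ fun p => map_fst ▸ ⟨p.1, p.2, rfl⟩
  let f2 : Pairs →* M0 :=
    ((MonoidHom.snd _ _).comp Pairs.subtype).codRestrict _ fun p => map_snd ▸ ⟨p.1, p.2, rfl⟩
  have hs1 : Function.Surjective f1 := fun m => by
    obtain ⟨p, hp, e⟩ := map_fst.symm.le m.2
    exact ⟨⟨p, hp⟩, Subtype.ext e⟩
  have hs2 : Function.Surjective f2 := fun m => by
    obtain ⟨p, hp, e⟩ := map_snd.symm.le m.2
    exact ⟨⟨p, hp⟩, Subtype.ext e⟩
  have hker : f1.ker ≤ f2.ker := fun p hp => Subtype.ext (snd_eq_one p.2 (l := 1) fun x => by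
    have h1 : p.1.1 = 1 := congrArg Subtype.val hp
    show p.1.1 • x = _
    rw [h1, one_smul, one_smul])
  let φ : Components.UnitarySix.Model.M →* M0 := MonoidHom.liftOfSurjective f1 hs1 ⟨f2, hker⟩
  have hφ : ∀ p, φ (f1 p) = f2 p := fun p =>
    MonoidHom.liftOfRightInverse_comp_apply _ _ _ ⟨f2, hker⟩ p
  have hsurj : Function.Surjective φ := fun m => by
    obtain ⟨p, rfl⟩ := hs2 m
    exact ⟨f1 p, hφ p⟩
  obtain ⟨-, ⟨ι⟩⟩ := Components.UnitarySix.trip_M
  haveI : IsSimpleGroup (Cfsg.PSU 4 Nine 3) :=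
    Cfsg.Agent.S0283.result Components.UnitarySix.hF9 4 (by norm_num) (by omega)
  haveI := ι.toEquiv.nontrivial
  haveI : IsSimpleGroup (↥Components.UnitarySix.Model.M ⧸
      Subgroup.center ↥Components.UnitarySix.Model.M) := ι.isSimpleGroup
  have hle : Subgroup.center ↥Components.UnitarySix.Model.M ≤ φ.ker := by
    intro x hx
    obtain ⟨p, rfl⟩ := hs1 x
    rw [← Components.UnitarySix.Model.ker_eq_center, Components.UnitarySix.Model.ker_ψ,
      Subgroup.mem_subgroupOf] at hx
    obtain ⟨l, hl⟩ := Components.UnitarySix.mem_center_S.1 hx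
    rw [MonoidHom.mem_ker, hφ]
    exact Subtype.ext (snd_eq_one p.2 hl)
  let χ := QuotientGroup.lift (Subgroup.center ↥Components.UnitarySix.Model.M) φ hle
  have hχs : Function.Surjective χ := fun m => by
    obtain ⟨x, rfl⟩ := hsurj m
    exact ⟨QuotientGroup.mk x, rfl⟩
  have hχi : Function.Injective χ := by
    rw [← MonoidHom.ker_eq_bot_iff]
    refine ((MonoidHom.normal_ker χ).eq_bot_or_eq_top).resolve_right fun h => gP_ne_one ?_
    obtain ⟨x, hx⟩ := hχs ⟨gP 0, gP_mem 0⟩
    have h1 : χ x = 1 := (h.ge (Subgroup.mem_top x) :)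
    rw [hx] at h1
    exact congrArg Subtype.val h1
  exact ⟨(MulEquiv.ofBijective χ ⟨hχi, hχs⟩).symm.trans ι⟩

theorem card_M0 : Nat.card M0 = 3265920 := by
  obtain ⟨e⟩ := iso
  rw [Nat.card_congr e.toEquiv]
  exact Components.UnitarySix.card_psu

theorem isSimple : IsSimpleGroup M0 := by
  obtain ⟨e⟩ := iso
  haveI : IsSimpleGroup (Cfsg.PSU 4 Nine 3) :=
    Cfsg.Agent.S0283.result Components.UnitarySix.hF9 4 (by norm_num) (by omega)
  haveI := e.toEquiv.nontrivial
  exact e.isSimpleGroup

/-- Every step of a tree leads from an earlier point to the next. -/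
def pointOK : List ℕ → List (ℕ × ℕ × ℕ) → Bool
  | seen, [] => (List.range 126).all seen.elem
  | seen, (p, q, k) :: r =>
    Nat.blt p 126 && (seen.elem q && (Nat.blt k 4 &&
      (decide (gP (Fin.ofNat 4 k) (mkP q) = mkP p) && pointOK (p :: seen) r)))

theorem point_ok : pointOK [P0.val] pointTree = true := by decide +kernel

theorem transitive (i : Fin 126) : ∃ m ∈ M0, m P0 = i := by
  have key : ∀ (r : List (ℕ × ℕ × ℕ)) (seen : List ℕ), pointOK seen r = true →
      (∀ p ∈ seen, ∃ m ∈ M0, m P0 = mkP p) → ∀ p < 126, ∃ m ∈ M0, m P0 = mkP p := by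
    intro r
    induction r with
    | nil =>
      intro seen h hs p hp
      simp only [pointOK, List.all_eq_true, List.mem_range] at h
      exact hs p (by simpa using h p hp)
    | cons e r ih =>
      obtain ⟨p, q, k⟩ := e
      intro seen h hs
      simp only [pointOK, Bool.and_eq_true, decide_eq_true_eq] at h
      obtain ⟨-, hq, -, he, hr⟩ := h
      refine ih _ hr fun x hx => ?_
      rcases List.mem_cons.1 hx with rfl | hx
      · obtain ⟨m, hm, hmq⟩ := hs q (by simpa using hq)
        exact ⟨_, mul_mem (gP_mem _) hm, by rw [Equiv.Perm.mul_apply, hmq, he]⟩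
      · exact hs x hx
  obtain ⟨m, hm, e⟩ := key _ _ point_ok (fun p hp => ⟨1, one_mem _, by
    rw [List.mem_singleton.1 hp]; exact Fin.ext (Nat.mod_eq_of_lt P0.isLt).symm⟩) i.val i.isLt
  exact ⟨m, hm, e.trans (Fin.ext (Nat.mod_eq_of_lt i.isLt))⟩

/-- Two elements of the stabiliser of the base point with no other common fixed point. -/
theorem two_fixers : gP 2 P0 = P0 ∧ (gP 3).symm (gP 1 (gP 3 P0)) = P0 ∧
    ∀ i, gP 2 i = i → (gP 3).symm (gP 1 (gP 3 i)) = i → i = P0 := by
  decide +kernel

/-- Commuting with the group means fixing every point. -/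
theorem centraliser {c : Equiv.Perm (Fin 126)} (h : ∀ m ∈ M0, Commute c m) : c = 1 := by
  obtain ⟨h1, h2, h3⟩ := two_fixers
  have hc : ∀ m ∈ M0, m P0 = P0 → m (c P0) = c P0 := fun m hm e => by
    have := congrArg (fun f : Equiv.Perm (Fin 126) => f P0) (h m hm).eq
    simp only [Equiv.Perm.mul_apply, e] at this
    exact this.symm
  have hb := hc ((gP 3)⁻¹ * gP 1 * gP 3) (mul_mem (mul_mem (inv_mem (gP_mem 3)) (gP_mem 1)) (gP_mem 3)) h2
  have e := h3 _ (hc _ (gP_mem 2) h1) hb
  refine Equiv.ext fun i => ?_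
  obtain ⟨m, hm, rfl⟩ := transitive i
  have := congrArg (fun f : Equiv.Perm (Fin 126) => f P0) (h m hm).eq
  simp only [Equiv.Perm.mul_apply, e] at this
  exact this

end Cfsg.Agent.ThreeTransp.M24Four.Model
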