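import Cfsg.Agent.Lib.ThreeTransp.M24Four.Model
import Cfsg.Agent.Lib.ThreeTransp.M22Iso.Semilinear

/-!
Semilinear similarities fixing the lines through the base point.
-/

set_option autoImplicit false
set_option linter.unusedSectionVars false
set_option maxRecDepth 100000

namespace Cfsg.Agent.ThreeTransp.M24Four.Semi

open Cfsg.Agent.ThreeTransp.M22Iso (Vec Pt Sim τ Std)
open Cfsg.Agent.Forms
open Cfsg.Agent.Classical.Unitary
open Cfsg.Agent.InvChar.Coset (FF)
open Model (p0 pt P0 Near Off)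

local notation "H" => Cfsg.hermForm 6 FF 2

/-- A vector in the last four coordinates. -/
def four (a b c d : FF) : Vec := ![0, 0, a, b, c, d]

theorem four_ok :
    ∀ v ∈ [four 1 1 0 0, four 0 0 1 1, four 1 0 1 0, four 0 1 0 1, four 1 1 1 1, four 1 FF.w 0 0,
      four 1 1 FF.w FF.w, four 1 FF.w 1 1],
      Pt v ∧ H v p0 = 0 ∧ Off v := by decide +kernel

theorem p0_four_ok : Pt (p0 + four 0 0 1 1) ∧ H (p0 + four 0 0 1 1) p0 = 0 ∧ Pt p0 := by
  decide +kernel

theorem x_ok : Pt (![FF.w, FF.w2, 0, 0, 0, 0] : Vec) ∧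
    H (![FF.w, FF.w2, 0, 0, 0, 0] : Vec) p0 = 1 := by decide +kernel

theorem perp_formula : ∀ v : Vec, H v p0 = 0 →
    v = v 0 • p0 + ((v 2 + FF.w * (v 2 + v 3 + v 4 + v 5)) • four 1 1 0 0 +
      ((FF.w * (v 2 + v 3 + v 4 + v 5)) • four 1 FF.w 0 0 +
        (v 4 • four 0 0 1 1 + (v 4 + v 5) • four 0 1 0 1))) := by
  decide +kernel

theorem perp_basis (v : Vec) (h : H v p0 = 0) : ∃ a b c d e : FF,
    v = a • p0 + (b • four 1 1 0 0 + (c • four 1 FF.w 0 0 + (d • four 0 0 1 1 + e • four 0 1 0 1))) :=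
  ⟨_, _, _, _, _, perp_formula v h⟩

theorem w_cases : ∀ a : FF, a = 0 ∨ a = 1 ∨ a = FF.w ∨ a = FF.w2 := by decide +kernel

theorem line_point : ∀ v : Vec, Pt v → H v p0 = 0 → Off v →
    ∃ i, ∃ k l : FF, Near P0 i ∧ k ≠ 0 ∧ v + l • p0 = k • pt i := by
  intro v hv h0 ho
  obtain ⟨l, hl⟩ := Finset.card_eq_one.1 (Model.line_std v hv h0 ho)
  have hs : Std (v + l • p0) := by
    have := Finset.mem_singleton_self l
    rw [← hl, Finset.mem_filter] at this
    exact this.2
  have hp0 : H p0 p0 = 0 := p0_four_ok.2.2.2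
  have hH : H (v + l • p0) p0 = 0 := by simp [H_add_left, H_smul_left, h0, hp0]
  have hO : Off (v + l • p0) := fun k e => ho (k + l) (by
    rw [add_smul, ← e, add_assoc, M22Iso.vec_add_self, add_zero])
  have hP : Pt (v + l • p0) := ⟨fun e => hO 0 (by rw [e, zero_smul]), by
    simp [H_add_left, M22Iso.H_add_right4, H_smul_left, H_smul_right, hv.2, h0,
      M22Iso.H_comm_zero.1 h0, hp0]⟩
  obtain ⟨i, k, hik⟩ := Model.pt_cover _ hP hs
  have hk : k ≠ 0 := (Model.pt_std i).1.smul_ne hP hik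
  refine ⟨i, k, l, ⟨fun e => hO k (by rw [hik, ← e, Model.pt_P0]), (Model.perp_iff P0 i).1 ?_⟩, hk, hik⟩
  rw [hik, H_smul_left] at hH
  rw [Model.pt_P0]
  exact M22Iso.H_comm_zero.1 ((mul_eq_zero.1 hH).resolve_left hk)

variable (S : Sim) {μ : FF} (hp : S.T p0 = μ • p0)
include hp

/-- Fixing the lines of the standard points gives all of them. -/
theorem line_ext (h : ∀ i, Near P0 i → ∃ c β : FF, S.T (pt i) = c • pt i + β • p0) :
    ∀ v, Pt v → H v p0 = 0 → Off v → ∃ c β : FF, S.T v = c • v + β • p0 := by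
  intro v hv h0 ho
  obtain ⟨i, k, l, hi, hk, e⟩ := line_point v hv h0 ho
  obtain ⟨c, β, hc⟩ := h i hi
  have hv' : v = k • pt i + l • p0 := by
    rw [← e, add_assoc, M22Iso.vec_add_self, add_zero]
  refine ⟨S.σ k * c * k⁻¹, S.σ k * β + S.σ l * μ + S.σ k * c * k⁻¹ * l, ?_⟩
  conv_lhs => rw [hv']
  rw [S.add, S.smul, S.smul, hc, hp]
  funext i'
  have e' := congrFun e i'
  simp only [Pi.add_apply, Pi.smul_apply, smul_eq_mul] at e' ⊢
  have hk' : k⁻¹ * k = 1 := inv_mul_cancel₀ hk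
  linear_combination (-(S.σ k * c * k⁻¹)) * e' - S.σ k * c * pt i i' * hk'

/-- The multiplier on a line is not zero. -/
theorem coeff_ne {v : Vec} (ho : Off v) {c β : FF} (h : S.T v = c • v + β • p0) : c ≠ 0 := by
  intro hc
  rw [hc, zero_smul, zero_add] at h
  by_cases hμ : μ = 0
  · rw [hμ, zero_smul, ← S.map_zero] at hp
    exact p0_four_ok.2.2.1 (S.T.injective hp)
  · refine ho (S.σ.symm (β * μ⁻¹)) (S.T.injective ?_)
    rw [h, S.smul, hp, RingEquiv.apply_symm_apply, smul_smul, mul_assoc, inv_mul_cancel₀ hμ, mul_one]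

/-- A similarity fixing the lines through the base point is linear. -/
theorem sigma_id (h : ∀ v, Pt v → H v p0 = 0 → Off v → ∃ c β : FF, S.T v = c • v + β • p0) :
    ∀ a, S.σ a = a := by
  have g := fun v hv => h v (four_ok v hv).1 (four_ok v hv).2.1 (four_ok v hv).2.2
  obtain ⟨c1, b1, h1⟩ := g (four 1 1 0 0) (by simp)
  obtain ⟨c2, b2, h2⟩ := g (four 0 0 1 1) (by simp)
  obtain ⟨c3, b3, h3⟩ := g (four 1 1 1 1) (by simp)
  obtain ⟨c4, b4, h4⟩ := g (four 1 1 FF.w FF.w) (by simp)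
  have hc2 : c2 ≠ 0 := coeff_ne S hp (four_ok _ (by simp)).2.2 h2
  have e3 : four 1 1 1 1 = four 1 1 0 0 + four 0 0 1 1 := by decide +kernel
  have e4 : four 1 1 FF.w FF.w = four 1 1 0 0 + FF.w • four 0 0 1 1 := by decide +kernel
  have q3 := h3
  rw [e3, S.add, h1, h2] at q3
  have q4 := h4
  rw [e4, S.add, S.smul, h1, h2] at q4
  have a1 := congrFun q3 2
  have a2 := congrFun q3 4
  have b1' := congrFun q4 2
  have b2' := congrFun q4 4
  simp [four, p0] at a1 a2 b1' b2'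
  have hw : S.σ FF.w = FF.w := by
    have : S.σ FF.w * c2 = FF.w * c2 := by
      linear_combination b2' - FF.w * b1' + FF.w * a1 - FF.w * a2
    exact mul_right_cancel₀ hc2 this
  intro a
  rcases w_cases a with rfl | rfl | rfl | rfl
  · exact _root_.map_zero _
  · exact map_one _
  · exact hw
  · rw [show FF.w2 = FF.w * FF.w by decide, map_mul, hw]

/-- A similarity fixing every point next to the base point is the identity or the transvection. -/
theorem id_or_tau (hμ : ∀ a, S.σ a = a)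
    (h : ∀ v, Pt v → H v p0 = 0 → ∃ c : FF, S.T v = c • v) :
    (∀ v, Pt v → ∃ c : FF, S.T v = c • v) ∨ ∀ v, Pt v → ∃ c : FF, S.T v = c • τ p0 v := by
  have g := fun v hv => h v (four_ok v hv).1 (four_ok v hv).2.1
  obtain ⟨c1, h1⟩ := g (four 1 1 0 0) (by simp)
  obtain ⟨c2, h2⟩ := g (four 0 0 1 1) (by simp)
  obtain ⟨c3, h3⟩ := g (four 1 0 1 0) (by simp)
  obtain ⟨c4, h4⟩ := g (four 0 1 0 1) (by simp)
  obtain ⟨c5, h5⟩ := g (four 1 1 1 1) (by simp)
  obtain ⟨c6, h6⟩ := g (four 1 FF.w 0 0) (by simp)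
  obtain ⟨c7, h7⟩ := g (four 1 FF.w 1 1) (by simp)
  obtain ⟨c8, h8⟩ := h _ p0_four_ok.1 p0_four_ok.2.1
  have e5 : four 1 1 1 1 = four 1 1 0 0 + four 0 0 1 1 := by decide +kernel
  have e5' : four 1 1 1 1 = four 1 0 1 0 + four 0 1 0 1 := by decide +kernel
  have e7 : four 1 FF.w 1 1 = four 1 FF.w 0 0 + four 0 0 1 1 := by decide +kernel
  have q5 := h5
  rw [e5, S.add, h1, h2] at q5
  have q5' := h5
  rw [e5', S.add, h3, h4] at q5'
  have q7 := h7
  rw [e7, S.add, h6, h2] at q7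
  have q8 := h8
  rw [S.add, hp, h2] at q8
  have a1 := congrFun q5 2
  have a2 := congrFun q5 4
  have a3 := congrFun q5' 3
  have a4 := congrFun q7 2
  have a5 := congrFun q7 4
  have a6 := congrFun q8 0
  have a7 := congrFun q8 4
  simp [four, p0] at a1 a2 a3 a4 a5 a6 a7
  obtain ⟨l, hl⟩ : ∃ l, l = c1 := ⟨_, rfl⟩
  have hperp : ∀ v, H v p0 = 0 → S.T v = l • v := by
    intro v hv
    obtain ⟨a, b, c, d, e, rfl⟩ := perp_basis v hv
    simp only [S.add, S.smul, hμ, hp, h1, h2, h4, h6, smul_add, smul_smul]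
    have m1 : μ = l := by linear_combination a6 - a7 + a2 - a1 - hl
    have m2 : c2 = l := by linear_combination a2 - a1 - hl
    have m4 : c4 = l := by linear_combination a3 - a1 - hl
    have m6 : c6 = l := by linear_combination a4 - a5 + a2 - a1 - hl
    rw [m1, m2, m4, m6, ← hl]
    simp only [mul_comm l]
  have hl0 : l ≠ 0 := by
    intro e
    have := hperp p0 p0_four_ok.2.2.2
    rw [e, zero_smul, ← S.map_zero] at this
    exact p0_four_ok.2.2.1 (S.T.injective this)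
  obtain ⟨x, hx⟩ : ∃ x : Vec, x = ![FF.w, FF.w2, 0, 0, 0, 0] := ⟨_, rfl⟩
  have hxP : Pt x ∧ H x p0 = 1 := hx ▸ x_ok
  obtain ⟨y, hy⟩ : ∃ y, y = l⁻¹ • S.T x := ⟨_, rfl⟩
  have hTx : S.T x = l • y := by rw [hy, smul_inv_smul₀ hl0]
  have hyv : ∀ v, H v p0 = 0 → H (y + x) v = 0 := by
    intro v hv
    have hf := S.form x v
    rw [hμ, hTx, hperp v hv, H_smul_left, H_smul_right, ← mul_assoc, ← pow_succ',
      M22Iso.cube _ hl0, one_mul] at hf
    rw [H_add_left, hf]
    exact M22Iso.add_self _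
  obtain ⟨r, hr⟩ : ∃ r, y + x = r • p0 := by
    obtain ⟨u, hu⟩ : ∃ u, u = y + x := ⟨_, rfl⟩
    rw [← hu] at hyv ⊢
    have k1 := hyv p0 p0_four_ok.2.2.2
    have k2 := hyv (four 1 1 0 0) (four_ok _ (by simp)).2.1
    have k3 := hyv (four 0 0 1 1) (four_ok _ (by simp)).2.1
    have k4 := hyv (four 0 1 0 1) (four_ok _ (by simp)).2.1
    have k6 := hyv (four 1 FF.w 0 0) (four_ok _ (by simp)).2.1
    simp [Cfsg.hermForm, Fin.sum_univ_six, four, p0] at k1 k2 k3 k4 k6
    have u3 : u 3 = 0 := by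
      have h3 : u 3 * (1 + FF.w ^ 2) = 0 := by linear_combination k2 + k6 - M22Iso.add_self (u 2)
      exact (mul_eq_zero.1 h3).resolve_right (by decide)
    have u2 : u 2 = 0 := by linear_combination k2 - u3
    have u5 : u 5 = 0 := by linear_combination k4 - u3
    have u4 : u 4 = 0 := by linear_combination k3 - u5
    have u1 : u 1 = u 0 := by linear_combination k1 - M22Iso.add_self (u 0)
    refine ⟨u 0, funext fun i => ?_⟩
    fin_cases i <;> simp [p0, u1, u2, u3, u4, u5]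
  have hyx : y = x + r • p0 := by
    rw [← hr, add_comm y x, ← add_assoc, M22Iso.vec_add_self, zero_add]
  have hiso : H y y = 0 := by
    have hf := S.form x x
    rw [hμ, hTx, H_smul_left, H_smul_right, hxP.1.2, ← mul_assoc, ← pow_succ', M22Iso.cube _ hl0,
      one_mul] at hf
    exact hf
  rw [hyx] at hiso
  simp [H_add_left, M22Iso.H_add_right4, H_smul_left, H_smul_right, hxP.1.2, hxP.2,
    show H p0 x = 1 from by rw [← M22Iso.H_conj4, hxP.2, one_pow], p0_four_ok.2.2.2] at hiso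
  have hr01 : r = 0 ∨ r = 1 := (show ∀ r : FF, r + r ^ 2 = 0 → r = 0 ∨ r = 1 by decide) r
    (by linear_combination hiso)
  have hall : ∀ v, S.T v = l • (v + (H v p0 * r) • p0) := by
    intro v
    have h0 : H (v + H v p0 • x) p0 = 0 := by
      rw [H_add_left, H_smul_left, hxP.2, mul_one]; exact M22Iso.add_self _
    have h1 := hperp _ h0
    rw [S.add, S.smul, hμ, hTx, hyx] at h1
    funext i
    have h1i := congrFun h1 i
    simp only [Pi.add_apply, Pi.smul_apply, smul_eq_mul] at h1i ⊢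
    linear_combination h1i - M22Iso.add_self (H v p0 * l * r * p0 i)
  rcases hr01 with rfl | rfl
  · exact Or.inl fun v _ => ⟨l, by rw [hall, mul_zero, zero_smul, add_zero]⟩
  · exact Or.inr fun v _ => ⟨l, by rw [hall, mul_one]; rfl⟩

end Cfsg.Agent.ThreeTransp.M24Four.Semi
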