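import Cfsg.Agent.Lib.ThreeTransp.M24Four.Naming
import Cfsg.Agent.Lib.ThreeTransp.M24Four.Semi
import Cfsg.Agent.Lib.ThreeTransp.M24Four.Perms
import Cfsg.Agent.Lib.ThreeTransp.M24Tetrad.Count

/-!
In a group of type M(24) the elements centralising a product of four commuting members and fixing
the tetrad of the four: semilinear maps on the local space.
-/

set_option autoImplicit false
set_option linter.unusedSectionVars false
set_option maxRecDepth 10000

noncomputable section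

namespace Cfsg.Agent.ThreeTransp.M24Four

open Cfsg.Agent.ThreeTransp
open Cfsg.Agent.ThreeTransp.Factor (nb Hd Sd Dq mem_Hd Rel)
open Cfsg.Agent.GenA.Tower (pr pr_mk pr_mul pr_inv pr_mem pr_inj pr_comm pr_nb image_nb_pr)
open Cfsg.Agent.ThreeTransp.M22Iso (Vec Pt Sim τ)
open Cfsg.Agent.Forms
open Cfsg.Agent.Classical.Unitary
open Cfsg.Agent.InvChar.Coset (FF)
open Matrix
open Model (p0 pt perm P0 Near Off)

local notation "H" => Cfsg.hermForm 6 FF 2

universe u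

variable {G : Type u} [Group G]

/-- The centraliser of the product in the commutator subgroup. -/
abbrev CC (z : G) : Subgroup G := commutator G ⊓ Cz z

variable [Finite G] {D : Set G} {z : G}

/-- The action of the centraliser in the commutator subgroup on the tetrads. -/
def Φ (X : Ctx D) : ↥(CC z) →* Equiv.Perm (Tet D z) :=
  (act X).comp (Subgroup.inclusion inf_le_right)

theorem Φ_mem (X : Ctx D) (g : ↥(CC z)) {s : Tet D z} {x : G} (hx : x ∈ s.1) :
    (g : G) * x * (g : G)⁻¹ ∈ (Φ X g s).1 := act_mem X _ hx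

theorem Φ_eq_of_mem (X : Ctx D) (g : ↥(CC z)) {s t : Tet D z} {x : G} (hx : x ∈ s.1)
    (hy : (g : G) * x * (g : G)⁻¹ ∈ t.1) : Φ X g s = t := act_eq_of_mem X _ hx hy

theorem setting (X : Ctx D) : M24Seven.Setting D := ⟨X.grp, X.prim, X.typ⟩

theorem Quad.four {a b c d : G} (q : Quad D z a b c d) : M24Tetrad.Four D a b c d :=
  ⟨q.mA, q.tri.hb, ⟨q.tri.hc, q.tri.hbc⟩, ⟨⟨q.hd, q.hdb⟩, q.hdc⟩⟩

/-- Ordered tetrads are conjugate in the commutator subgroup. -/
theorem exists_map (X : Ctx D) {a b c d a' b' c' d' : G} (q : Quad D z a b c d)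
    (q' : Quad D z a' b' c' d') : ∃ g ∈ CC z, g * a * g⁻¹ = a' ∧ g * b * g⁻¹ = b' ∧
      g * c * g⁻¹ = c' ∧ g * d * g⁻¹ = d' := by
  obtain ⟨g, hg, h1, h2, h3, h4⟩ := M24Tetrad.four_trans_centralizer (setting X) q.four q'.four
    (w := z) (by rw [← q.prod]; simp only [mul_assoc]) (by rw [← q'.prod]; simp only [mul_assoc])
  rcases M24.Triple.mem_or X.grp X.prim q.mA g with h | h
  · exact ⟨g, ⟨h, mem_Cz.2 hg⟩, h1, h2, h3, h4⟩
  · have key : ∀ x, Commute a x → g * a * x * (g * a)⁻¹ = g * x * g⁻¹ := fun x hx => by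
      rw [_root_.mul_inv_rev, inv X q.mA, show g * a * x * (a * g⁻¹) = g * (a * x * a) * g⁻¹ by group,
        hx.eq, mul_assoc x a a, sq X q.mA, mul_one]
    refine ⟨g * a, ⟨h, mem_Cz.2 (hg.mul_left (q.commute_z (Set.mem_insert _ _)))⟩, ?_, ?_, ?_, ?_⟩ <;>
      rw [key _ (q.commute (Set.mem_insert _ _) (by simp))] <;> assumption

/-- Coordinates at a given ordered tetrad. -/
theorem exists_at' (X : Ctx D) {t : Tet D z} {a b c d : G} (q : Quad D z a b c d)
    (e : t.1 = {a, b, c, d}) :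
    ∃ L : At D z t, L.a = a ∧ L.b = b ∧ L.c = c ∧ L.d = d := by
  obtain ⟨K, hK⟩ := exists_chart_at X q.tri ⟨⟨q.hd, q.hdb⟩, q.hdc⟩
  exact ⟨⟨a, b, c, d, q, e, K, hK⟩, rfl, rfl, rfl, rfl⟩

/-- The similarity of a matrix of the unitary group. -/
def simSU (g : Cfsg.SU 6 FF 2) : Sim where
  T :=
    { toFun := fun v => mat g *ᵥ v
      invFun := fun v => mat g⁻¹ *ᵥ v
      left_inv := fun v => by
        show mat g⁻¹ *ᵥ (mat g *ᵥ v) = v
        rw [mulVec_mulVec, ← mat_mul, inv_mul_cancel, mat_one, one_mulVec]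
      right_inv := fun v => by
        show mat g *ᵥ (mat g⁻¹ *ᵥ v) = v
        rw [mulVec_mulVec, ← mat_mul, mul_inv_cancel, mat_one, one_mulVec] }
  σ := RingEquiv.refl FF
  add u v := mulVec_add _ u v
  smul c v := mulVec_smul _ c v
  form u v := SU_H g u v

theorem ff_aut (σ : FF ≃+* FF) (a : FF) : σ (σ a) = a := by
  have hw : σ FF.w = FF.w ∨ σ FF.w = FF.w2 := by
    rcases Semi.w_cases (σ FF.w) with h | h | h | h
    · exact absurd (σ.injective (h.trans (_root_.map_zero σ).symm)) (by decide)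
    · exact absurd (σ.injective (h.trans (map_one σ).symm)) (by decide)
    · exact Or.inl h
    · exact Or.inr h
  have hw2 : σ FF.w2 = σ FF.w * σ FF.w := by
    rw [← map_mul]; congr 1
  rcases Semi.w_cases a with rfl | rfl | rfl | rfl
  · simp
  · simp
  · rcases hw with h | h
    · rw [h, h]
    · rw [h, hw2, h]; decide
  · rcases hw with h | h
    · rw [hw2, h, show FF.w * FF.w = FF.w2 by decide, hw2, h]; decide
    · rw [hw2, h, show FF.w2 * FF.w2 = FF.w by decide, h]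

/-- A linear similarity is a matrix. -/
theorem exists_matrix (S : Sim) (hσ : ∀ a, S.σ a = a) :
    ∃ A : Matrix (Fin 6) (Fin 6) FF, (∀ v, A *ᵥ v = S.T v) ∧ A.det ^ 3 = 1 ∧
      ∀ u v, H (A *ᵥ u) (A *ᵥ v) = H u v := by
  let f : Vec →ₗ[FF] Vec :=
    { toFun := S.T
      map_add' := S.add
      map_smul' := fun c v => by rw [S.smul, hσ]; rfl }
  have hA : ∀ v, LinearMap.toMatrix' f *ᵥ v = S.T v := fun v => LinearMap.toMatrix'_mulVec f v
  refine ⟨_, hA, M22Iso.cube _ fun h0 => ?_, fun u v => by rw [hA, hA, S.form, hσ]⟩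
  obtain ⟨v, hv, h⟩ := Matrix.exists_mulVec_eq_zero_iff.2 h0
  rw [hA, ← S.map_zero] at h
  exact hv (S.T.injective h)

namespace At

variable {t : Tet D z} (L : At D z t)

theorem commute_gen (X : Ctx D) {k : G} (hk : k ∈ Subgroup.closure (N3 D L.a L.b L.c)) :
    Commute k L.a ∧ Commute k L.b ∧ Commute k L.c := by
  induction hk using Subgroup.closure_induction with
  | mem x hx => exact ⟨hx.1.1.2.2.symm, hx.1.2.2.2.symm, hx.2.2.2.symm⟩
  | one => exact ⟨Commute.one_left _, Commute.one_left _, Commute.one_left _⟩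
  | mul p q _ _ hp hq => exact ⟨hp.1.mul_left hq.1, hp.2.1.mul_left hq.2.1, hp.2.2.mul_left hq.2.2⟩
  | inv p _ hp => exact ⟨hp.1.inv_left, hp.2.1.inv_left, hp.2.2.inv_left⟩

/-- The similarity of an element fixing the fourth and permuting the other three. -/
theorem exists_T (X : Ctx D) {g : G} (hd : g * L.d * g⁻¹ = L.d)
    (hN : N3 D (g * L.a * g⁻¹) (g * L.b * g⁻¹) (g * L.c * g⁻¹) = N3 D L.a L.b L.c) :
    ∃ S : Sim, (∀ v, Pt v → g * L.K.f v * g⁻¹ = L.K.f (S.T v)) ∧ ∃ μ : FF, S.T p0 = μ • p0 := by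
  let K' : Chart D L.a L.b L.c := L.K.conj g fun x => by
    have := N3_conj X g L.a L.b L.c x
    rwa [hN] at this
  obtain ⟨S, hS⟩ := M22Iso.Coord.exists_sim L.K K'
  refine ⟨S, hS, ?_⟩
  have h := hS p0 pt_p0
  rw [show K'.f p0 = g * L.K.f p0 * g⁻¹ from rfl, L.hK, hd] at h
  obtain ⟨c, hc⟩ := (L.K.eq_iff p0 _ pt_p0 (S.pt pt_p0)).1 (L.hK.trans h)
  exact ⟨c, hc⟩

theorem N3_swap (X : Ctx D) {g : G} (ha : g * L.a * g⁻¹ = L.b) (hb : g * L.b * g⁻¹ = L.a)
    (hc : g * L.c * g⁻¹ = L.c) :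
    N3 D (g * L.a * g⁻¹) (g * L.b * g⁻¹) (g * L.c * g⁻¹) = N3 D L.a L.b L.c := by
  rw [ha, hb, hc, N3, N3, Set.inter_comm (nb D L.b) (nb D L.a)]

theorem mem_θ (X : Ctx D) {i : Fin 126} (h : Near P0 i) {x : G} (hx : x ∈ (L.θ X i).1) :
    ∃ l : FF, x = L.K.f (pt i + l • p0) := by
  rw [θ, dif_pos h] at hx
  rcases hx with h | h | h | h
  exacts [⟨0, by simpa using h⟩, ⟨1, by simpa using h⟩, ⟨_, h⟩, ⟨_, h⟩]

theorem T_lines (X : Ctx D) (g : ↥(CC z)) {S : Sim}
    (hS : ∀ v, Pt v → (g : G) * L.K.f v * (g : G)⁻¹ = L.K.f (S.T v)) {i j : Fin 126}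
    (hi : Near P0 i) (hj : Near P0 j) (h : Φ X g (L.θ X i) = L.θ X j) :
    ∃ c β : FF, S.T (pt i) = c • pt j + β • p0 := by
  have hm := Φ_mem X g (L.θ_self X hi)
  rw [h, hS _ (Model.pt_std i).1] at hm
  obtain ⟨l, hl⟩ := L.mem_θ X hj hm
  obtain ⟨hP, -, -⟩ := off_pt (Model.pt_std j).1 (near_spec hj).1 (near_spec hj).2 l
  obtain ⟨k, hk⟩ := (L.K.eq_iff _ _ hP (S.pt (Model.pt_std i).1)).1 hl.symm
  exact ⟨k, k * l, by rw [hk, smul_add, smul_smul]⟩

/-- A product of common neighbours. -/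
theorem exists_ac (X : Ctx D) :
    L.a * L.c ∈ Subgroup.closure (N3 D L.a L.b L.c) := by
  have q := L.q
  have T : M24.Triple.Tri D L.a L.c L.b :=
    ⟨q.mA, q.tri.hc, q.tri.hb, Cover.mem_nb_symm q.mB q.tri.hbc⟩
  have hb' := base X
  have hg := M24.Facts.grp X.grp X.prim X.typ q.mA
  obtain ⟨l, hlen, hl, hp⟩ := M23.Pair.exists_six hg
    (M24.Triple.rel_local X.grp hb' X.prim (rel7 X) X.typ.1 T) (pr_mem T.hb)
    (M24.Triple.gamma_mem X.grp hb' X.prim (rel7 X) X.typ.1 T)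
    (M24.Triple.local_hyp X.grp hb' X.prim (rel7 X) X.typ.1 T)
  have lift : ∀ r : List (Sd D L.a),
      (∀ x ∈ r, x ∈ nb (Dq D L.a) (pr D L.a L.c) ∩ nb (Dq D L.a) (pr D L.a L.b)) →
      ∃ P ∈ Subgroup.closure (N3 D L.a L.b L.c), P ∈ Hd D L.a ∧ pr D L.a P = r.prod ∧
        (Even r.length → P ∈ commutator G) ∧ (¬Even r.length → P * L.a ∈ commutator G) := by
    intro r
    induction r with
    | nil =>
      exact fun _ => ⟨1, one_mem _, one_mem _, by rw [pr_mk (one_mem _)]; rfl,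
        fun _ => one_mem _, fun h => absurd (by simp) h⟩
    | cons x r ih =>
      intro hr
      obtain ⟨P, h1, h2, h3, h4, h5⟩ := ih fun y hy => hr y (List.mem_cons_of_mem _ hy)
      obtain ⟨hxc, hxb⟩ := hr x List.mem_cons_self
      obtain ⟨y, hy, rfl⟩ : x ∈ pr D L.a '' nb D L.a := by rw [image_nb_pr]; exact hxc.1
      have hyN : y ∈ N3 D L.a L.b L.c :=
        ⟨⟨hy, (pr_nb X.grp (hb'.sep L.a q.mA) q.tri.hb hy).1 hxb⟩,
          (pr_nb X.grp (hb'.sep L.a q.mA) q.tri.hc hy).1 hxc⟩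
      refine ⟨y * P, mul_mem (Subgroup.subset_closure hyN) h1, mul_mem (mem_Hd hy) h2, ?_, ?_, ?_⟩
      · rw [List.prod_cons, ← h3, pr_mul (mem_Hd hy) h2]
      · intro he
        rw [List.length_cons, Nat.even_add_one] at he
        have hya : y * L.a ∈ commutator G :=
          (M24.Triple.mem_or X.grp X.prim q.mA y).resolve_left (sgn X y hy.1)
        have := mul_mem hya ((commutator G).inv_mem (h5 he))
        have hPa : (P * L.a)⁻¹ = L.a * P⁻¹ := by rw [_root_.mul_inv_rev, inv X q.mA]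
        rw [hPa, show y * L.a * (L.a * P⁻¹) = y * (L.a * L.a) * P⁻¹ by group, sq X q.mA, mul_one]
          at this
        rcases M24.Triple.mem_or X.grp X.prim q.mA (y * P) with h | h
        · exact h
        · exfalso
          have hPP : P * P ∈ commutator G := by
            rcases M24.Triple.mem_or X.grp X.prim q.mA P with hP | hP
            · exact mul_mem hP hP
            · have hca : Commute L.a P := Factor.Hd_commute h2
              have := mul_mem hP hP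
              rwa [show P * L.a * (P * L.a) = P * P * (L.a * L.a) by
                rw [mul_assoc P L.a, ← mul_assoc L.a P, hca.eq]; group, sq X q.mA, mul_one] at this
          have h6 : y * P ∈ commutator G := by
            have := mul_mem this hPP
            rwa [show y * P⁻¹ * (P * P) = y * P by group] at this
          have := mul_mem ((commutator G).inv_mem h6) h
          rw [show (y * P)⁻¹ * (y * P * L.a) = L.a by group] at this
          exact sgn X L.a q.mA this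
      · intro he
        rw [List.length_cons, Nat.even_add_one, not_not] at he
        have hya : y * L.a ∈ commutator G :=
          (M24.Triple.mem_or X.grp X.prim q.mA y).resolve_left (sgn X y hy.1)
        have hca : Commute L.a P := Factor.Hd_commute h2
        rw [mul_assoc, ← hca.eq, ← mul_assoc]
        exact mul_mem hya (h4 he)
  obtain ⟨P, hP, hPH, hPp, hPe, -⟩ := lift l hl
  have hPc : P ∈ commutator G := hPe (by rw [hlen]; decide)
  rw [hp] at hPp
  have hpc : pr D L.a (P * L.c) = 1 := by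
    rw [pr_mul hPH (mem_Hd q.tri.hc), hPp, Classes.sq hg (pr_mem T.hb)]
  rcases M24.Local.pr_eq_one X.grp X.prim X.typ q.mA (mul_mem hPH (mem_Hd q.tri.hc)) hpc with e | e
  · have : P = L.c := (mul_eq_one_iff_eq_inv.1 e).trans (inv X q.mC)
    exact absurd (this ▸ hPc) (sgn X _ q.mC)
  · have : L.a * L.c = P := by rw [← e, mul_assoc, sq X q.mC, mul_one]
    exact this ▸ hP

/-- An exchange of two of the four with a linear similarity does not exist. -/
theorem no_linear_swap (X : Ctx D) {g : G} (ha : g * L.a * g⁻¹ = L.b) (hb : g * L.b * g⁻¹ = L.a)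
    (hc : g * L.c * g⁻¹ = L.c) {S : Sim}
    (hS : ∀ v, Pt v → g * L.K.f v * g⁻¹ = L.K.f (S.T v)) (hσ : ∀ a, S.σ a = a) : False := by
  obtain ⟨A, hA, hdet, hform⟩ := exists_matrix S hσ
  have hpres : ∀ u v, H ((A * A * A) *ᵥ u) ((A * A * A) *ᵥ v) = H u v := fun u v => by
    simp only [← mulVec_mulVec, hform]
  have hdet3 : (A * A * A).det = 1 := by
    rw [Matrix.det_mul, Matrix.det_mul, ← hdet]; ring
  obtain ⟨k, hk, hke⟩ := L.K.realise X.grp (suMk (A * A * A) hdet3 hpres)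
  obtain ⟨ka, kb, kc⟩ := L.commute_gen X hk
  obtain ⟨h, hh⟩ : ∃ h, h = k⁻¹ * (g * g * g) := ⟨_, rfl⟩
  have c3 : ∀ x, h * x * h⁻¹ = k⁻¹ * (g * (g * (g * x * g⁻¹) * g⁻¹) * g⁻¹) * k := fun x => by
    rw [hh]; group
  have hcent : ∀ x ∈ N3 D L.a L.b L.c, h * x * h⁻¹ = x := by
    intro x hx
    obtain ⟨v, hv, rfl⟩ := L.K.cover' hx
    rw [c3, hS _ hv, hS _ (S.pt hv), hS _ (S.pt (S.pt hv))]
    have := hke v hv
    rw [suMk_mulVec, ← mulVec_mulVec, ← mulVec_mulVec, hA, hA, hA] at this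
    rw [← this]; group
  have ha' : h * L.a * h⁻¹ = L.b := by
    rw [c3, ha, hb, ha, kb.inv_left.eq]; group
  have hc' : h * L.c * h⁻¹ = L.c := by
    rw [c3, hc, hc, hc, kc.inv_left.eq]; group
  have hfix : ∀ P ∈ Subgroup.closure (N3 D L.a L.b L.c), h * P * h⁻¹ = P := by
    intro P hP
    induction hP using Subgroup.closure_induction with
    | mem x hx => exact hcent x hx
    | one => group
    | mul p q _ _ hp hq =>
      rw [show h * (p * q) * h⁻¹ = h * p * h⁻¹ * (h * q * h⁻¹) by group, hp, hq]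
    | inv p _ hp => rw [show h * p⁻¹ * h⁻¹ = (h * p * h⁻¹)⁻¹ by group, hp]
  have := hfix _ (L.exists_ac X)
  rw [show h * (L.a * L.c) * h⁻¹ = h * L.a * h⁻¹ * (h * L.c * h⁻¹) by group, ha', hc'] at this
  exact L.q.tri.hb.2.1 (mul_right_cancel this)

/-- An exchange of two of the four moves a neighbouring tetrad. -/
theorem no_swap_fixing (X : Ctx D) (g : ↥(CC z)) (ha : (g : G) * L.a * (g : G)⁻¹ = L.b)
    (hb : (g : G) * L.b * (g : G)⁻¹ = L.a) (hc : (g : G) * L.c * (g : G)⁻¹ = L.c)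
    (hd : (g : G) * L.d * (g : G)⁻¹ = L.d) (hfix : ∀ u, Adj t u → Φ X g u = u) : False := by
  obtain ⟨S, hS, μ, hμ⟩ := L.exists_T X hd (L.N3_swap X ha hb hc)
  refine L.no_linear_swap X ha hb hc hS (Semi.sigma_id S hμ (Semi.line_ext S hμ fun i hi => ?_))
  exact L.T_lines X g hS hi hi (hfix _ (L.adj_θ X hi))

/-- An exchange of two of the four is outside the unitary group. -/
theorem swap_outer (X : Ctx D) (g : ↥(CC z)) (ha : (g : G) * L.a * (g : G)⁻¹ = L.b)
    (hb : (g : G) * L.b * (g : G)⁻¹ = L.a) (hc : (g : G) * L.c * (g : G)⁻¹ = L.c)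
    (hd : (g : G) * L.d * (g : G)⁻¹ = L.d) (e : Fin 126 ≃ Tet D z) (he0 : e P0 = t)
    (hθ : ∀ i, Near P0 i → e i = L.θ X i) {m : Equiv.Perm (Fin 126)} (hm : m ∈ Model.M0)
    (hmg : ∀ i, Φ X g (e i) = e (m i)) : False := by
  obtain ⟨S, hS, μ, hμ⟩ := L.exists_T X hd (L.N3_swap X ha hb hc)
  obtain ⟨w, hw⟩ := Model.linear hm
  have hadj : ∀ {i}, Near P0 i → Φ X g (e i) = e (m i) ∧ Near P0 (m i) := by
    intro i hi
    refine ⟨hmg i, ?_⟩
    have h0 : Φ X g t = t := Φ_eq_of_mem X g (L.tet_mem (Or.inr (Or.inr (Or.inr rfl))))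
      (by rw [hd]; exact L.tet_mem (Or.inr (Or.inr (Or.inr rfl))))
    have h1 : Adj t (Φ X g (e i)) := by
      conv_lhs => rw [← h0]
      exact act_adj X _ (hθ i hi ▸ L.adj_θ X hi)
    obtain ⟨j, hj, hje⟩ := L.θ_surj X h1
    rw [← hθ j hj, hmg] at hje
    exact (e.injective hje) ▸ hj
  have hm0 : m P0 = P0 := e.injective (by
    rw [← hmg, he0]
    exact Φ_eq_of_mem X g (L.tet_mem (Or.inr (Or.inr (Or.inr rfl))))
      (by rw [hd]; exact L.tet_mem (Or.inr (Or.inr (Or.inr rfl)))))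
  obtain ⟨c0, hc0⟩ := hw P0
  rw [hm0, Model.pt_P0, Components.UnitarySix.smul_def] at hc0
  have back : ∀ {x y : Vec} {c : FF}, c ≠ 0 → mat w *ᵥ x = c • y → mat w⁻¹ *ᵥ y = c⁻¹ • x := by
    intro x y c hc h
    rw [← inv_smul_smul₀ hc y, ← h, mulVec_smul, mulVec_mulVec, ← mat_mul, inv_mul_cancel,
      mat_one, one_mulVec]
  have hc00 : c0 ≠ 0 := pt_p0.smul_ne (pt_p0.mat w) hc0
  obtain ⟨U, hU⟩ : ∃ U, U = S.trans (simSU w⁻¹) := ⟨_, rfl⟩
  have hUT : ∀ v, U.T v = mat w⁻¹ *ᵥ S.T v := fun v => by rw [hU]; rfl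
  have hUσ : ∀ a, U.σ a = S.σ a := fun a => by rw [hU]; rfl
  have hUp : U.T p0 = (μ * c0⁻¹) • p0 := by
    rw [hUT, hμ, mulVec_smul, back hc00 hc0, smul_smul]
  refine L.no_linear_swap X ha hb hc hS fun a => ?_
  rw [← hUσ]
  refine Semi.sigma_id U hUp (Semi.line_ext U hUp fun i hi => ?_) a
  obtain ⟨h1, hmi⟩ := hadj hi
  rw [hθ i hi, hθ (m i) hmi] at h1
  obtain ⟨c, β, hcβ⟩ := L.T_lines X g hS hi hmi h1
  obtain ⟨c', hc'⟩ := hw i
  rw [Components.UnitarySix.smul_def] at hc'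
  have hc'0 : c' ≠ 0 := (Model.pt_std _).1.smul_ne ((Model.pt_std i).1.mat w) hc'
  refine ⟨c * c'⁻¹, β * c0⁻¹, ?_⟩
  rw [hUT, hcβ, mulVec_add, mulVec_smul, mulVec_smul, back hc'0 hc', back hc00 hc0, smul_smul,
    smul_smul]

end At

namespace Model

/-- Points with the same neighbours next to the base point are paired by its reflection. -/
theorem far_pair : ∀ i j, i ≠ P0 → ¬Near P0 i → j ≠ P0 → ¬Near P0 j →
    (∀ k, Near P0 k → (Near k i ↔ Near k j)) → j = i ∨ j = perm P0 i := by decide +kernel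

end Model

/-- An element fixing a tetrad and its neighbours acts as an involution. -/
theorem Φ_sq (X : Ctx D) (g : ↥(CC z)) {t : Tet D z} (e : Fin 126 ≃ Tet D z) (he0 : e P0 = t)
    (hconj : ∀ i j, rr X (e i) (e j) = e (perm i j)) (h0 : Φ X g t = t)
    (hfix : ∀ i, Near P0 i → Φ X g (e i) = e i) : ∀ u, Φ X g (Φ X g u) = u := by
  have hadj : ∀ {i j : Fin 126}, Adj (e i) (e j) ↔ Near i j := by
    intro i j
    refine ⟨fun h => ⟨fun e' => h.1 (by rw [e']), e.injective (by rw [← hconj, rr_adj X h])⟩,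
      fun h => ?_⟩
    by_contra hn
    have h1 := rr_comm_apply X hn
    rw [hconj, h.2] at h1
    have h2 := congrArg (rr X (e j)) h1
    rw [rr_rr, rr_self] at h2
    exact h.1 (e.injective h2).symm
  intro u
  obtain ⟨i, rfl⟩ := e.surjective u
  by_cases hi : i = P0
  · rw [hi, he0, h0, h0]
  by_cases hn : Near P0 i
  · rw [hfix i hn, hfix i hn]
  -- a far point moves only within its pair
  obtain ⟨f, hf⟩ : ∃ f, f = fun j => e.symm (Φ X g (e j)) := ⟨_, rfl⟩
  have hfe : ∀ j, Φ X g (e j) = e (f j) := fun j => by simp [hf]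
  have hfar : ∀ j, j ≠ P0 → ¬Near P0 j → f j ≠ P0 ∧ ¬Near P0 (f j) ∧
      ∀ k, Near P0 k → (Near k j ↔ Near k (f j)) := by
    intro j hj hnj
    have hne : f j ≠ P0 := fun h => hj (e.injective ((Φ X g).injective (by
      rw [hfe, h, he0, h0])))
    refine ⟨hne, fun h => ?_, fun k hk => ?_⟩
    · have h' := hfix _ h
      rw [← hfe] at h'
      have h'' : e (f j) = e j := by rw [← hfe]; exact (Φ X g).injective h'
      exact hnj (e.injective h'' ▸ h)
    · rw [← hadj, ← hadj, ← hfe]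
      conv_rhs => rw [← hfix k hk]
      exact ⟨fun h => act_adj X _ h, fun h => by
        have := act_adj X (Subgroup.inclusion inf_le_right g)⁻¹ h
        simpa [Φ, ← Equiv.Perm.mul_apply] using this⟩
  obtain ⟨a1, a2, a3⟩ := hfar i hi hn
  obtain ⟨b1, b2, b3⟩ := hfar (f i) a1 a2
  rw [hfe, hfe]
  congr 1
  have e1 := Model.far_pair i (f i) hi hn a1 a2 a3
  have e2 := Model.far_pair i (f (f i)) hi hn b1 b2 fun k hk => (a3 k hk).trans (b3 k hk)
  rcases e2 with e2 | e2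
  · exact e2
  rcases e1 with e1 | e1
  · rw [e1, e1]
  · have : f (f i) = f i := e2.trans e1.symm
    have h' : Φ X g (e (f i)) = Φ X g (e i) := by rw [hfe, hfe, this]
    have h'' := e.injective ((Φ X g).injective h')
    rw [h'', h'']

namespace At

variable {t : Tet D z} (L : At D z t)

theorem diag_line : ∀ δ : FF, δ ≠ 0 → ∀ i, Near P0 i → ∃ β : FF,
    (![δ * pt i 0, δ * pt i 1, pt i 2, pt i 3, pt i 4, pt i 5] : Vec) = pt i + β • p0 := by
  decide +kernel

theorem diag_pres : ∀ δ : FF, δ ≠ 0 → ∀ u v : FF, (δ * u) * (δ * v) ^ 2 = u * v ^ 2 := by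
  decide +kernel

/-- A cycle on three of the four acting trivially on the tetrads. -/
theorem exists_three_cycle (X : Ctx D) (e : Fin 126 ≃ Tet D z) (he0 : e P0 = t)
    (hθ : ∀ i, Near P0 i → e i = L.θ X i)
    (hconj : ∀ i j, rr X (e i) (e j) = e (perm i j)) :
    ∃ g : ↥(CC z), Φ X g = 1 ∧ (g : G) * L.a * (g : G)⁻¹ = L.b ∧
      (g : G) * L.b * (g : G)⁻¹ = L.c ∧ (g : G) * L.c * (g : G)⁻¹ = L.a ∧
      (g : G) * L.d * (g : G)⁻¹ = L.d := by
  have q := L.q
  obtain ⟨g0, hg0, k1, k2, k3, k4⟩ := exists_map X q q.swap'.swap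
  obtain ⟨g1, hg1⟩ : ∃ g1, g1 = g0 * g0 := ⟨_, rfl⟩
  have c2 : ∀ x, g1 * x * g1⁻¹ = g0 * (g0 * x * g0⁻¹) * g0⁻¹ := fun x => by rw [hg1]; group
  have A1 : g1 * L.a * g1⁻¹ = L.b := by rw [c2, k1, k3]
  have B1 : g1 * L.b * g1⁻¹ = L.c := by rw [c2, k2, k1]
  have C1 : g1 * L.c * g1⁻¹ = L.a := by rw [c2, k3, k2]
  have D1 : g1 * L.d * g1⁻¹ = L.d := by rw [c2, k4, k4]
  have hN0 : N3 D (g0 * L.a * g0⁻¹) (g0 * L.b * g0⁻¹) (g0 * L.c * g0⁻¹) = N3 D L.a L.b L.c := by
    rw [k1, k2, k3]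
    ext x
    simp only [N3, Set.mem_inter_iff]
    tauto
  obtain ⟨S, hS, μ, hμ⟩ := L.exists_T X k4 hN0
  obtain ⟨A, hA, hdet, hform⟩ := exists_matrix (S.trans S) fun a => ff_aut S.σ a
  have hδ : A.det ≠ 0 := fun h => by rw [h] at hdet; simp at hdet
  obtain ⟨B, hB⟩ : ∃ B : Matrix (Fin 6) (Fin 6) FF,
      B = Matrix.diagonal ![A.det, A.det, 1, 1, 1, 1] := ⟨_, rfl⟩
  have hBv : ∀ v : Vec, B *ᵥ v = ![A.det * v 0, A.det * v 1, v 2, v 3, v 4, v 5] := by
    intro v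
    funext i
    rw [hB, Matrix.mulVec_diagonal]
    fin_cases i <;> simp
  have hBdet : (A * B).det = 1 := by
    rw [Matrix.det_mul, hB, Matrix.det_diagonal]
    simp [Fin.prod_univ_six]
    linear_combination hdet
  have hBform : ∀ u v, H ((A * B) *ᵥ u) ((A * B) *ᵥ v) = H u v := by
    intro u v
    rw [← mulVec_mulVec, ← mulVec_mulVec, hform, hBv, hBv]
    simp only [Cfsg.hermForm, Fin.sum_univ_six]
    simp [diag_pres _ hδ]
  obtain ⟨k, hk, hke⟩ := L.K.realise X.grp (suMk (A * B) hBdet hBform)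
  obtain ⟨ka, kb, kc⟩ := L.commute_gen X hk
  have kd : Commute k L.d := by
    have h := hke p0 pt_p0
    have hAp : A *ᵥ p0 = (S.σ μ * μ) • p0 := by
      rw [hA, Sim.trans_apply, hμ, S.smul, hμ, smul_smul]
    rw [suMk_mulVec, ← mulVec_mulVec, hBv,
      show (![A.det * p0 0, A.det * p0 1, p0 2, p0 3, p0 4, p0 5] : Vec) = A.det • p0 by
        funext i; fin_cases i <;> simp [p0],
      mulVec_smul, hAp, smul_smul] at h
    have hne : A.det * (S.σ μ * μ) ≠ 0 := by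
      refine mul_ne_zero hδ fun h0 => ?_
      rw [h0, zero_smul, hA] at hAp
      exact ((S.trans S).pt pt_p0).1 hAp
    rw [L.K.smul_eq pt_p0 hne, L.hK] at h
    exact mul_inv_eq_iff_eq_mul.1 h
  have hkz : Commute k z := by
    rw [← q.prod]; exact ((ka.mul_right kb).mul_right kc).mul_right kd
  obtain ⟨k', hk'C, hk'eq⟩ : ∃ k' ∈ CC z, ∀ x, (x ∈ N3 D L.a L.b L.c ∨ x = L.a ∨ x = L.b ∨
      x = L.c ∨ x = L.d) → k'⁻¹ * x * k' = k⁻¹ * x * k := by
    rcases M24.Triple.mem_or X.grp X.prim q.mA k with h | h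
    · exact ⟨k, ⟨h, mem_Cz.2 hkz⟩, fun x _ => rfl⟩
    · refine ⟨k * L.a, ⟨h, mem_Cz.2 (hkz.mul_left (q.commute_z (Set.mem_insert _ _)))⟩,
        fun x hx => ?_⟩
      have hxa : Commute (k⁻¹ * x * k) L.a := by
        have hx' : Commute x L.a := by
          rcases hx with hx | rfl | rfl | rfl | rfl
          exacts [hx.1.1.2.2.symm, Commute.refl _, q.cab.symm, q.cac.symm, q.cad.symm]
        exact (ka.inv_left.mul_left hx').mul_left ka
      rw [_root_.mul_inv_rev, show L.a⁻¹ * k⁻¹ * x * (k * L.a) = L.a⁻¹ * (k⁻¹ * x * k * L.a) by group,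
        hxa.eq, ← mul_assoc, inv_mul_cancel, one_mul]
  have hg1C : g1 ∈ CC z := hg1 ▸ mul_mem hg0 hg0
  obtain ⟨g', hg'⟩ : ∃ g' : ↥(CC z), (g' : G) = k'⁻¹ * g1 :=
    ⟨⟨_, mul_mem (inv_mem hk'C) hg1C⟩, rfl⟩
  have cj : ∀ x, (g' : G) * x * (g' : G)⁻¹ = k'⁻¹ * (g1 * x * g1⁻¹) * k' := fun x => by
    rw [hg']; group
  have kfix : ∀ x, (x = L.a ∨ x = L.b ∨ x = L.c ∨ x = L.d) → k'⁻¹ * x * k' = x := by
    intro x hx
    rw [hk'eq x (Or.inr hx)]
    have : Commute k x := by rcases hx with rfl | rfl | rfl | rfl <;> assumption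
    rw [mul_assoc, ← this.eq, inv_mul_cancel_left]
  have Aa : (g' : G) * L.a * (g' : G)⁻¹ = L.b := by rw [cj, A1, kfix _ (by simp)]
  have Bb : (g' : G) * L.b * (g' : G)⁻¹ = L.c := by rw [cj, B1, kfix _ (by simp)]
  have Cc : (g' : G) * L.c * (g' : G)⁻¹ = L.a := by rw [cj, C1, kfix _ (by simp)]
  have Dd : (g' : G) * L.d * (g' : G)⁻¹ = L.d := by rw [cj, D1, kfix _ (by simp)]
  have htt : Φ X g' t = t := Φ_eq_of_mem X g' (L.tet_mem (Or.inl rfl))
    (by rw [Aa]; exact L.tet_mem (Or.inr (Or.inl rfl)))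
  have hfix : ∀ i, Near P0 i → Φ X g' (e i) = e i := by
    intro i hi
    rw [hθ i hi]
    refine Φ_eq_of_mem X g' (L.θ_self X hi) ?_
    have hg1f : g1 * L.K.f (pt i) * g1⁻¹ = L.K.f (A *ᵥ pt i) := by
      rw [c2, hS _ (Model.pt_std i).1, hS _ (S.pt (Model.pt_std i).1), hA, Sim.trans_apply]
    have hAN : L.K.f (A *ᵥ pt i) ∈ N3 D L.a L.b L.c :=
      L.fmem (by rw [hA]; exact (S.trans S).pt (Model.pt_std i).1)
    obtain ⟨β, hβ⟩ := diag_line A.det⁻¹ (inv_ne_zero hδ) i hi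
    obtain ⟨hP, -, -⟩ := off_pt (Model.pt_std i).1 (near_spec hi).1 (near_spec hi).2 β
    have hk2 : k * L.K.f (pt i + β • p0) * k⁻¹ = L.K.f (A *ᵥ pt i) := by
      rw [hke _ hP, suMk_mulVec, ← mulVec_mulVec, hBv, ← hβ]
      congr 2
      funext j
      fin_cases j <;> simp [← mul_assoc, mul_inv_cancel₀ hδ]
    rw [cj, hg1f, hk'eq _ (Or.inl hAN), ← hk2,
      show k⁻¹ * (k * L.K.f (pt i + β • p0) * k⁻¹) * k = L.K.f (pt i + β • p0) by group]
    exact L.θ_mem X hi β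
  have hsq := Φ_sq X g' e he0 hconj htt hfix
  refine ⟨(g' * g') * (g' * g'), ?_, ?_, ?_, ?_, ?_⟩
  · refine Equiv.ext fun u => ?_
    simp only [map_mul, Equiv.Perm.mul_apply, hsq, Equiv.Perm.one_apply]
  all_goals
    simp only [Subgroup.coe_mul]
    have c4 : ∀ x, ((g' : G) * g' * ((g' : G) * g')) * x * ((g' : G) * g' * ((g' : G) * g'))⁻¹ =
        g' * (g' * (g' * ((g' : G) * x * (g' : G)⁻¹) * (g' : G)⁻¹) * (g' : G)⁻¹) * (g' : G)⁻¹ :=
      fun x => by group
    simp only [c4, Aa, Bb, Cc, Dd]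

end At

end Cfsg.Agent.ThreeTransp.M24Four
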