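import Cfsg.Agent.Lib.ThreeTransp.M24Four.Chart
import Cfsg.Agent.Lib.ThreeTransp.M24.Graph

/-!
In a group of type M(24) a member outside a set of twenty-four commuting members commutes with two
or eight of them.
-/

set_option autoImplicit false
set_option linter.unusedSectionVars false

namespace Cfsg.Agent.ThreeTransp.M24Four

open Cfsg.Agent.ThreeTransp
open Cfsg.Agent.ThreeTransp.Factor (nb)
open Cfsg.Agent.ThreeTransp.M22Iso (Vec Pt)
open Cfsg.Agent.Forms
open Cfsg.Agent.Classical.Unitary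
open Cfsg.Agent.InvChar.Coset (FF)

local notation "H" => Cfsg.hermForm 6 FF 2

universe u

variable {G : Type u} [Group G] [Finite G] {D : Set G} (X : Ctx D)
include X

theorem le_width {E : Set G} (hE : E ⊆ D) (hc : ∀ x ∈ E, ∀ y ∈ E, Commute x y) :
    E.ncard ≤ 24 := by
  rw [← M24.Local.width X.grp X.prim X.typ]
  refine le_csSup ⟨Nat.card G, ?_⟩ ⟨E, hE, Set.toFinite _, hc, rfl⟩
  rintro n ⟨E', -, -, -, rfl⟩
  exact (Set.ncard_le_ncard (Set.subset_univ E') (Set.toFinite _)).trans (Set.ncard_univ _).le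

/-- Twenty-one commuting common neighbours of a triple: five of them commute with a further one. -/
theorem five_of_plane {a b c : G} (T : M24.Triple.Tri D a b c) {E : Set G}
    (hE : E ⊆ N3 D a b c) (hc : ∀ x ∈ E, ∀ y ∈ E, Commute x y) (h21 : E.ncard = 21) {x : G}
    (hx : x ∈ N3 D a b c) (hxE : x ∉ E) : {y | y ∈ E ∧ Commute x y}.ncard = 5 := by
  classical
  obtain ⟨K⟩ := exists_chart X T
  set P : Set Vec := {v | Pt v ∧ K.f v ∈ E}
  have hPs : ∀ v ∈ P, ∀ r : FF, r ≠ 0 → r • v ∈ P := fun v hv r hr =>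
    ⟨hv.1.smul hr, by rw [K.smul_eq hv.1 hr]; exact hv.2⟩
  have himg : K.f '' P = E := by
    ext y
    constructor
    · rintro ⟨v, hv, rfl⟩; exact hv.2
    · intro hy
      obtain ⟨v, hv, rfl⟩ := K.cover' (hE hy)
      exact ⟨v, ⟨hv, hy⟩, rfl⟩
  have hP : P.ncard = 63 := by rw [K.card_image (fun v hv => hv.1) hPs, himg, h21]
  set S : Submodule FF Vec := Submodule.span FF P
  have horth : ∀ v ∈ P, ∀ w ∈ P, H v w = 0 := fun v hv w hw =>
    (K.comm_iff v w hv.1 hw.1).1 (hc _ hv.2 _ hw.2)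
  have horthS : ∀ v ∈ P, ∀ w ∈ S, H v w = 0 := by
    intro v hv w hw
    induction hw using Submodule.span_induction with
    | mem w hw => exact horth v hv w hw
    | zero => exact H_zero_right M22Iso.hF4 v
    | add p q _ _ hp hq => rw [M22Iso.H_add_right4, hp, hq, add_zero]
    | smul r p _ hp => rw [H_smul_right, hp, mul_zero]
  have hiso : ∀ v ∈ S, ∀ w ∈ S, H v w = 0 := by
    intro v hv w hw
    induction hv using Submodule.span_induction with
    | mem v hv => exact horthS v hv w hw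
    | zero => exact H_zero_left w
    | add p q _ _ hp hq => rw [H_add_left, hp, hq, add_zero]
    | smul r p _ hp => rw [H_smul_left, hp, mul_zero]
  -- the span has nothing else
  have hSP : ∀ w ∈ S, w ≠ 0 → w ∈ P := by
    intro w hw h0
    have hp : Pt w := ⟨h0, hiso w hw w hw⟩
    refine ⟨hp, ?_⟩
    by_contra hn
    have hy := K.mem' hp
    set big : Set G := insert (K.f w) (insert a (insert b (insert c E)))
    have hsub : big ⊆ D := by
      rintro q (rfl | rfl | rfl | rfl | hq)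
      exacts [hy.1.1.1, T.ha, T.hb.1, T.hc.1, (hE hq).1.1.1]
    have hcom : ∀ p ∈ big, ∀ q ∈ big, Commute p q := by
      have e0 : ∀ q ∈ E, Commute (K.f w) q := fun q hq => by
        obtain ⟨v, hv, rfl⟩ := K.cover' (hE hq)
        exact (K.comm_iff w v hp hv).2 (hiso w hw v (Submodule.subset_span ⟨hv, hq⟩))
      rintro p (rfl | rfl | rfl | rfl | hp') q (rfl | rfl | rfl | rfl | hq)
      exacts [Commute.refl _, hy.1.1.2.2.symm, hy.1.2.2.2.symm, hy.2.2.2.symm, e0 q hq,
        hy.1.1.2.2, Commute.refl _, T.hb.2.2, T.hc.2.2, (hE hq).1.1.2.2,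
        hy.1.2.2.2, T.hb.2.2.symm, Commute.refl _, T.hbc.2.2, (hE hq).1.2.2.2,
        hy.2.2.2, T.hc.2.2.symm, T.hbc.2.2.symm, Commute.refl _, (hE hq).2.2.2,
        (e0 p hp').symm, (hE hp').1.1.2.2.symm, (hE hp').1.2.2.2.symm, (hE hp').2.2.2.symm,
        hc p hp' q hq]
    have hne : c ∉ E ∧ b ∉ insert c E ∧ a ∉ insert b (insert c E) ∧
        K.f w ∉ insert a (insert b (insert c E)) := by
      refine ⟨fun h => (hE h).2.2.1 rfl, ?_, ?_, ?_⟩
      · rintro (rfl | h)
        exacts [T.hbc.2.1 rfl, (hE h).1.2.2.1 rfl]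
      · rintro (rfl | rfl | h)
        exacts [T.hb.2.1 rfl, T.hc.2.1 rfl, (hE h).1.1.2.1 rfl]
      · rintro (e | e | e | h)
        exacts [hy.1.1.2.1 e, hy.1.2.2.1 e, hy.2.2.1 e, hn h]
    have := le_width X hsub hcom
    rw [Set.ncard_insert_of_notMem hne.2.2.2, Set.ncard_insert_of_notMem hne.2.2.1,
      Set.ncard_insert_of_notMem hne.2.1, Set.ncard_insert_of_notMem hne.1, h21] at this
    omega
  have hSset : (S : Set Vec) = insert 0 P := by
    ext v
    refine ⟨fun hv => ?_, ?_⟩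
    · by_cases h : v = 0
      exacts [Or.inl h, Or.inr (hSP v hv h)]
    · rintro (rfl | hv)
      exacts [zero_mem S, Submodule.subset_span hv]
  have hScard : Nat.card S = 64 := by
    show Nat.card (S : Set Vec) = 64
    rw [Nat.card_coe_set_eq, hSset, Set.ncard_insert_of_notMem (fun h => h.1.1 rfl), hP]
  obtain ⟨xv, hxv, rfl⟩ := K.cover' hx
  let φ : S →+ FF := AddMonoidHom.mk' (fun v => H (v : Vec) xv) fun p q => by
    simp [H_add_left]
  have hnz : ∃ v : S, φ v ≠ 0 := by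
    by_contra h
    push Not at h
    refine hxE ?_
    -- it commutes with all of them
    have hall : ∀ q ∈ E, Commute (K.f xv) q := fun q hq => by
      obtain ⟨v, hv, rfl⟩ := K.cover' (hE hq)
      exact ((K.comm_iff v xv hv hxv).2 (h ⟨v, Submodule.subset_span ⟨hv, hq⟩⟩)).symm
    by_contra hn
    set big : Set G := insert (K.f xv) (insert a (insert b (insert c E)))
    have hsub : big ⊆ D := by
      rintro q (rfl | rfl | rfl | rfl | hq)
      exacts [hx.1.1.1, T.ha, T.hb.1, T.hc.1, (hE hq).1.1.1]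
    have hcom : ∀ p ∈ big, ∀ q ∈ big, Commute p q := by
      rintro p (rfl | rfl | rfl | rfl | hp') q (rfl | rfl | rfl | rfl | hq)
      exacts [Commute.refl _, hx.1.1.2.2.symm, hx.1.2.2.2.symm, hx.2.2.2.symm, hall q hq,
        hx.1.1.2.2, Commute.refl _, T.hb.2.2, T.hc.2.2, (hE hq).1.1.2.2,
        hx.1.2.2.2, T.hb.2.2.symm, Commute.refl _, T.hbc.2.2, (hE hq).1.2.2.2,
        hx.2.2.2, T.hc.2.2.symm, T.hbc.2.2.symm, Commute.refl _, (hE hq).2.2.2,
        (hall p hp').symm, (hE hp').1.1.2.2.symm, (hE hp').1.2.2.2.symm, (hE hp').2.2.2.symm,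
        hc p hp' q hq]
    have hne : c ∉ E ∧ b ∉ insert c E ∧ a ∉ insert b (insert c E) ∧
        K.f xv ∉ insert a (insert b (insert c E)) := by
      refine ⟨fun h => (hE h).2.2.1 rfl, ?_, ?_, ?_⟩
      · rintro (rfl | h)
        exacts [T.hbc.2.1 rfl, (hE h).1.2.2.1 rfl]
      · rintro (rfl | rfl | h)
        exacts [T.hb.2.1 rfl, T.hc.2.1 rfl, (hE h).1.1.2.1 rfl]
      · rintro (e | e | e | h)
        exacts [hx.1.1.2.1 e, hx.1.2.2.1 e, hx.2.2.1 e, hn h]
    have := le_width X hsub hcom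
    rw [Set.ncard_insert_of_notMem hne.2.2.2, Set.ncard_insert_of_notMem hne.2.2.1,
      Set.ncard_insert_of_notMem hne.2.1, Set.ncard_insert_of_notMem hne.1, h21] at this
    omega
  obtain ⟨v₀, hv₀⟩ := hnz
  have hsurj : Function.Surjective φ := fun r => ⟨(r * (φ v₀)⁻¹) • v₀, by
    show H ((r * (φ v₀)⁻¹) • (v₀ : Vec)) xv = r
    rw [H_smul_left]
    show r * (φ v₀)⁻¹ * φ v₀ = r
    rw [mul_assoc, inv_mul_cancel₀ hv₀, mul_one]⟩
  have hker : Nat.card φ.ker = 16 := by
    have h1 := φ.ker.card_mul_index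
    rw [AddSubgroup.index_ker, AddMonoidHom.range_eq_top.2 hsurj, Nat.card_congr
      AddSubgroup.topEquiv.toEquiv, hScard, show Nat.card FF = 4 by simp [show Fintype.card FF = 4 from rfl]] at h1
    omega
  set P' : Set Vec := {v | v ∈ P ∧ H v xv = 0}
  have hk : insert 0 P' = Subtype.val '' (φ.ker : Set S) := by
    ext v
    constructor
    · rintro (rfl | hv)
      · exact ⟨0, zero_mem _, rfl⟩
      · exact ⟨⟨v, Submodule.subset_span hv.1⟩, hv.2, rfl⟩
    · rintro ⟨⟨w, hw⟩, hk, rfl⟩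
      by_cases h : w = 0
      exacts [Or.inl h, Or.inr ⟨hSP w hw h, hk⟩]
  have hP' : P'.ncard = 15 := by
    have h := congrArg Set.ncard hk
    rw [Set.ncard_insert_of_notMem (fun h => h.1.1.1 rfl),
      Set.ncard_image_of_injective _ Subtype.val_injective, ← Nat.card_coe_set_eq] at h
    change P'.ncard + 1 = Nat.card φ.ker at h
    omega
  have h5 := K.card_image (P := P') (fun v hv => hv.1.1) (fun v hv r hr =>
    ⟨hPs v hv.1 r hr, by rw [H_smul_left, hv.2, mul_zero]⟩)
  have himg' : K.f '' P' = {y | y ∈ E ∧ Commute (K.f xv) y} := by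
    ext y
    constructor
    · rintro ⟨v, hv, rfl⟩
      exact ⟨hv.1.2, ((K.comm_iff v xv hv.1.1 hxv).2 hv.2).symm⟩
    · rintro ⟨hy, hcy⟩
      obtain ⟨v, hv, rfl⟩ := K.cover' (hE hy)
      exact ⟨v, ⟨⟨hv, hy⟩, (K.comm_iff v xv hv hxv).1 hcy.symm⟩, rfl⟩
  rw [himg', hP'] at h5
  omega

/-- A member outside twenty-four commuting members commutes with two or eight of them. -/
theorem two_or_eight {E : Finset G} (hE : ↑E ⊆ D) (hc : ∀ x ∈ E, ∀ y ∈ E, Commute x y)
    (h24 : E.card = 24) {x : G} (hx : x ∈ D) (hxE : x ∉ E) :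
    {y | y ∈ E ∧ Commute x y}.ncard = 2 ∨ {y | y ∈ E ∧ Commute x y}.ncard = 8 := by
  classical
  haveI := Fintype.ofFinite G
  let k : G → ℕ := fun x => (E.filter fun y => Commute x y).card
  have hk : ∀ x, {y | y ∈ E ∧ Commute x y}.ncard = k x := fun x => by
    show _ = (E.filter fun y => Commute x y).card
    rw [← Set.ncard_coe_finset]
    congr 1
    ext y; simp
  set O : Finset G := (Finset.univ.filter fun x => x ∈ D) \ E with hO
  -- at most two, or eight
  have dich : ∀ x ∈ O, k x ≤ 2 ∨ k x = 8 := by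
    intro x hx
    simp only [hO, Finset.mem_sdiff, Finset.mem_filter, Finset.mem_univ, true_and] at hx
    by_cases h : k x ≤ 2
    · exact Or.inl h
    right
    obtain ⟨a, ha, b, hb, c, hcm, hab, hac, hbc⟩ := Finset.two_lt_card.1
      (show 2 < (E.filter fun y => Commute x y).card by show 2 < k x; omega)
    simp only [Finset.mem_filter] at ha hb hcm
    have T : M24.Triple.Tri D a b c := ⟨hE ha.1, ⟨hE hb.1, hab.symm, hc a ha.1 b hb.1⟩,
      ⟨hE hcm.1, hac.symm, hc a ha.1 c hcm.1⟩, ⟨hE hcm.1, hbc.symm, hc b hb.1 c hcm.1⟩⟩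
    have hxne : ∀ e ∈ E, x ≠ e := fun e he h => hx.2 (h ▸ he)
    have hxN : x ∈ N3 D a b c := ⟨⟨⟨hx.1, hxne a ha.1, ha.2.symm⟩,
      ⟨hx.1, hxne b hb.1, hb.2.symm⟩⟩, ⟨hx.1, hxne c hcm.1, hcm.2.symm⟩⟩
    set E' : Finset G := E \ {a, b, c} with hE'
    have habc : ({a, b, c} : Finset G).card = 3 := by simp [hab, hac, hbc]
    have hs3 : ({a, b, c} : Finset G) ⊆ E := by
      simp [Finset.insert_subset_iff, ha.1, hb.1, hcm.1]
    have hcard : E'.card = 21 := by rw [hE', Finset.card_sdiff_of_subset hs3, h24, habc]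
    have h5 := five_of_plane X T (E := (E' : Set G)) (fun y hy => by
        simp only [hE', Finset.coe_sdiff, Finset.coe_insert, Finset.coe_singleton, Set.mem_sdiff,
          Finset.mem_coe, Set.mem_insert_iff, Set.mem_singleton_iff, not_or] at hy
        exact ⟨⟨⟨hE hy.1, hy.2.1, hc a ha.1 y hy.1⟩, ⟨hE hy.1, hy.2.2.1, hc b hb.1 y hy.1⟩⟩,
          ⟨hE hy.1, hy.2.2.2, hc c hcm.1 y hy.1⟩⟩)
      (fun p hp q hq => hc p (Finset.mem_sdiff.1 hp).1 q (Finset.mem_sdiff.1 hq).1)
      (by rw [Set.ncard_coe_finset, hcard]) hxN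
      (fun h => hxne x (Finset.mem_sdiff.1 h).1 rfl)
    rw [show {y | y ∈ (E' : Set G) ∧ Commute x y} =
        ↑((E.filter fun y => Commute x y) \ {a, b, c}) by
        ext y; simp [hE']; tauto, Set.ncard_coe_finset, Finset.card_sdiff_of_subset (by
          simp [Finset.insert_subset_iff, ha.1, hb.1, hcm.1, ha.2, hb.2, hcm.2]), habc] at h5
    show (E.filter fun y => Commute x y).card = 8
    omega
  -- counting
  have hnb : ∀ e ∈ E, (O.filter fun x => Commute x e).card = 31648 := by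
    intro e he
    have hset : ↑(O.filter fun x => Commute x e) = nb D e \ ↑(E.erase e) := by
      ext y
      simp only [hO, Finset.coe_filter, Finset.mem_sdiff, Finset.mem_filter, Finset.mem_univ,
        true_and, Set.mem_setOf_eq, Set.mem_sdiff, Finset.coe_erase, Set.mem_singleton_iff,
        Finset.mem_coe]
      constructor
      · rintro ⟨⟨hy, hyE⟩, hcy⟩
        exact ⟨⟨hy, fun h => hyE (h ▸ he), hcy.symm⟩, fun h => hyE h.1⟩
      · rintro ⟨⟨hy, hne, hcy⟩, hn⟩
        exact ⟨⟨hy, fun h => hn ⟨h, hne⟩⟩, hcy.symm⟩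
    rw [← Set.ncard_coe_finset, hset, Set.ncard_sdiff, Set.ncard_coe_finset,
      M24.Graph.ncard_nb X.grp X.prim X.typ (hE he), Finset.card_erase_of_mem he, h24]
    intro y hy
    simp only [Finset.coe_erase, Set.mem_sdiff, Finset.mem_coe, Set.mem_singleton_iff] at hy
    exact ⟨hE hy.1, hy.2, hc e he y hy.1⟩
  have hnb2 : ∀ e ∈ E, ∀ e' ∈ E, e ≠ e' →
      (O.filter fun x => Commute x e ∧ Commute x e').card = 3488 := by
    intro e he e' he' hne
    have hset : ↑(O.filter fun x => Commute x e ∧ Commute x e') =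
        (nb D e ∩ nb D e') \ ↑((E.erase e).erase e') := by
      ext y
      simp only [hO, Finset.coe_filter, Finset.mem_sdiff, Finset.mem_filter, Finset.mem_univ,
        true_and, Set.mem_setOf_eq, Set.mem_sdiff, Finset.coe_erase, Set.mem_singleton_iff,
        Finset.mem_coe, Set.mem_inter_iff]
      constructor
      · rintro ⟨⟨hy, hyE⟩, hcy, hcy'⟩
        exact ⟨⟨⟨hy, fun h => hyE (h ▸ he), hcy.symm⟩, ⟨hy, fun h => hyE (h ▸ he'), hcy'.symm⟩⟩,
          fun h => hyE h.1.1⟩
      · rintro ⟨⟨⟨hy, n1, hcy⟩, ⟨-, n2, hcy'⟩⟩, hn⟩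
        exact ⟨⟨hy, fun h => hn ⟨⟨h, n1⟩, n2⟩⟩, hcy.symm, hcy'.symm⟩
    rw [← Set.ncard_coe_finset, hset, Set.ncard_sdiff, Set.ncard_coe_finset,
      M24.Graph.ncard_one X.grp X.prim X.typ (hE he) ⟨hE he', hne.symm, hc e he e' he'⟩,
      Finset.card_erase_of_mem (Finset.mem_erase.2 ⟨hne.symm, he'⟩), Finset.card_erase_of_mem he,
      h24]
    intro y hy
    simp only [Finset.coe_erase, Set.mem_sdiff, Finset.mem_coe, Set.mem_singleton_iff] at hy
    exact ⟨⟨hE hy.1.1, hy.1.2, hc e he y hy.1.1⟩, ⟨hE hy.1.1, hy.2, hc e' he' y hy.1.1⟩⟩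
  have hsum1 : ∑ x ∈ O, k x = 24 * 31648 := by
    simp only [k, Finset.card_filter]
    rw [Finset.sum_comm, Finset.sum_congr rfl fun e he => by rw [← Finset.card_filter, hnb e he],
      Finset.sum_const, h24, smul_eq_mul]
  have hsum2 : ∑ x ∈ O, k x * k x = 24 * (31648 + 23 * 3488) := by
    simp only [k, Finset.card_filter, Finset.sum_mul_sum, ← ite_and, mul_ite, mul_one, mul_zero]
    rw [Finset.sum_comm]
    rw [show 24 * (31648 + 23 * 3488) = ∑ _e ∈ E, (31648 + 23 * 3488) by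
      rw [Finset.sum_const, h24, smul_eq_mul]]
    refine Finset.sum_congr rfl fun e he => ?_
    rw [Finset.sum_comm, ← Finset.add_sum_erase E _ he]
    congr 1
    · rw [← hnb e he, Finset.card_filter]
      exact Finset.sum_congr rfl fun y _ => by simp
    · rw [Finset.sum_congr rfl (g := fun _ => 3488) fun e' he' => ?_, Finset.sum_const,
        Finset.card_erase_of_mem he, h24, smul_eq_mul]
      rw [← hnb2 e he e' (Finset.mem_erase.1 he').2 (Finset.mem_erase.1 he').1.symm,
        Finset.card_filter]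
      exact Finset.sum_congr rfl fun y _ => by simp [and_comm]
  have hOc : O.card = 306912 := by
    rw [hO, Finset.card_sdiff_of_subset (fun y hy => by simp [hE hy]), h24, ← Set.ncard_coe_finset,
      show (↑(Finset.univ.filter fun x : G => x ∈ D) : Set G) = D by ext; simp,
      M24.Graph.ncard_class X.grp X.prim X.typ]
  have hnn : ∀ x ∈ O, (0 : ℤ) ≤ ((k x : ℤ) - 2) * ((k x : ℤ) - 8) := by
    intro x hx
    rcases dich x hx with h | h
    · exact mul_nonneg_of_nonpos_of_nonpos (by omega) (by omega)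
    · rw [h]; norm_num
  have hzero : ∑ x ∈ O, ((k x : ℤ) - 2) * ((k x : ℤ) - 8) = 0 := by
    have h1 : (∑ x ∈ O, (k x : ℤ)) = 24 * 31648 := by exact_mod_cast hsum1
    have h2 : (∑ x ∈ O, (k x : ℤ) * k x) = 24 * (31648 + 23 * 3488) := by exact_mod_cast hsum2
    rw [Finset.sum_congr rfl fun x _ => show ((k x : ℤ) - 2) * ((k x : ℤ) - 8) =
      (k x : ℤ) * k x - 10 * k x + 16 by ring, Finset.sum_add_distrib, Finset.sum_sub_distrib,
      ← Finset.mul_sum, h1, h2, Finset.sum_const, hOc, nsmul_eq_mul]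
    norm_num
  have hxO : x ∈ O := by simp [hO, hx, hxE]
  have h := (Finset.sum_eq_zero_iff_of_nonneg hnn).1 hzero x hxO
  rw [hk]
  rcases mul_eq_zero.1 h with h | h
  · left; omega
  · right; omega

end Cfsg.Agent.ThreeTransp.M24Four
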