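import Cfsg.Agent.Lib.ThreeTransp.M24Four.ModelData

/-!
Finite checks on the 126 standard points.
-/

set_option autoImplicit false
set_option maxRecDepth 100000
set_option maxHeartbeats 0

namespace Cfsg.Agent.ThreeTransp.M24Four.Model

open Cfsg.Agent.ThreeTransp.M22Iso (Vec Pt τ Std)
open Cfsg.Agent.InvChar.Coset (FF)

local notation "H" => Cfsg.hermForm 6 FF 2

/-- The base vector. -/
def p0 : Vec := ![1, 1, 0, 0, 0, 0]

theorem pt_P0 : pt P0 = p0 := by decide +kernel

theorem pt_std : ∀ i, Pt (pt i) ∧ Std (pt i) := by decide +kernel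

theorem pt_cover : ∀ v : Vec, Pt v → Std v → ∃ i, ∃ c : FF, v = c • pt i := by decide +kernel

theorem pt_inj : ∀ i j, ∀ c : FF, pt j = c • pt i → i = j := by decide +kernel

theorem perm_spec : ∀ i j, ∃ c : FF, τ (pt i) (pt j) = c • pt (perm i j) := by decide +kernel

theorem perp_iff : ∀ i j, H (pt i) (pt j) = 0 ↔ perm i j = j := by decide +kernel

/-- Not a multiple of the base vector. -/
def Off (v : Vec) : Prop := ∀ c : FF, v ≠ c • p0

instance (v : Vec) : Decidable (Off v) := Fintype.decidableForallFintype

/-- Exactly one standard vector on the line. -/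
def OneStd (v : Vec) : Prop :=
  ((Finset.univ : Finset FF).filter fun l => Std (v + l • p0)).card = 1

instance (v : Vec) : Decidable (OneStd v) := inferInstanceAs (Decidable (_ = _))

theorem line_std : ∀ v : Vec, Pt v → H v p0 = 0 → Off v → OneStd v := by decide +kernel

theorem near_closed : ∀ i j, Near P0 i → Near P0 j → Near P0 (perm i j) := by decide +kernel

theorem near_card : (Finset.univ.filter fun i => Near P0 i).card = 45 := by decide +kernel

end Cfsg.Agent.ThreeTransp.M24Four.Model
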