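import Cfsg.Agent.Lib.ThreeTransp.M24Four.SetData
import Cfsg.Agent.Lib.ThreeTransp.M24Four.Model

/-!
Sets of points next to the base point that meet each line in two points and are closed under the
transvections of their members: there are forty of them, all alike.
-/

set_option autoImplicit false
set_option linter.unusedSectionVars false
set_option maxRecDepth 100000
set_option maxHeartbeats 0

noncomputable section

namespace Cfsg.Agent.ThreeTransp.M24Four.Cert

open Model (perm permN P0 Near)

/-- The five letters inside the local group. -/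
def sPts : List ℕ := [12, 68, 9, 61, 49]

/-- The action of a word. -/
def wordN (w : List ℕ) (y : ℕ) : ℕ := w.foldl (fun y s => permN (sPts.getD s 0) y) y

/-- Putting a point in fails. -/
def badIn (x : ℕ) (I O : List ℕ) : Bool :=
  lines.any (fun l => l.elem x && Nat.ble 2 (l.filter I.elem).length) ||
    I.any fun a => O.elem (permN x a) || O.elem (permN a x)

/-- Leaving a point out fails. -/
def badOut (x : ℕ) (I O : List ℕ) : Bool :=
  lines.any (fun l => l.elem x && Nat.ble 3 (l.filter O.elem).length) ||
    I.any fun a => I.any fun b => Nat.beq (permN a b) x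

/-- The finished sets are standard. -/
def leafOK (I : List ℕ) : Bool :=
  setWords.any fun w => (I.map (wordN w)).all X0.elem && X0.all (I.map (wordN w)).elem

/-- The search. -/
def search : List ℕ → List ℕ → List ℕ → Bool
  | [], I, _ => leafOK I
  | x :: r, I, O => (badIn x I O || search r (x :: I) O) && (badOut x I O || search r I (x :: O))

theorem search_ok : search searchOrder [] [] = true := by decide +kernel

theorem order_ok : searchOrder.Nodup ∧ ∀ i : Fin 126, Near P0 i → i.val ∈ searchOrder := by
  decide +kernel

theorem lines_ok : ∀ l ∈ lines, l.Nodup ∧ l.length = 5 ∧ ∀ x ∈ l, x < 126 := by decide +kernel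

theorem permN_lt : ∀ i j : Fin 126, permN i j < 126 := by decide +kernel

theorem permN_invol : ∀ i j : Fin 126, permN i (permN i j) = j.val := by decide +kernel

theorem setWords_lt : ∀ w ∈ setWords, ∀ s ∈ w, sPts.getD s 0 < 126 := by decide +kernel

theorem permN_inj {a i j : ℕ} (ha : a < 126) (hi : i < 126) (hj : j < 126)
    (h : permN a i = permN a j) : i = j := by
  have h1 := permN_invol ⟨a, ha⟩ ⟨i, hi⟩
  have h2 := permN_invol ⟨a, ha⟩ ⟨j, hj⟩
  simp only [h] at h1
  exact h1.symm.trans h2

theorem wordN_inj : ∀ (w : List ℕ), (∀ s ∈ w, sPts.getD s 0 < 126) → ∀ {i j : ℕ}, i < 126 → j < 126 →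
    wordN w i = wordN w j → i = j
  | [], _, _, _, _, _, h => h
  | s :: w, hw, i, j, hi, hj, h => by
    have hs := hw s List.mem_cons_self
    refine permN_inj hs hi hj (wordN_inj w (fun t ht => hw t (List.mem_cons_of_mem _ ht)) ?_ ?_ h)
    · exact permN_lt ⟨_, hs⟩ ⟨i, hi⟩
    · exact permN_lt ⟨_, hs⟩ ⟨j, hj⟩

variable (S : ℕ → Prop) [DecidablePred S]
  (h2 : ∀ l ∈ lines, (l.filter fun x => decide (S x)).length = 2)
  (hcl : ∀ a b, S a → S b → S (permN a b))
include h2 hcl

theorem search_sound : ∀ (r I O : List ℕ), r.Nodup → (∀ x ∈ r, x ∉ I ∧ x ∉ O) →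
    (∀ x ∈ I, S x) → (∀ x ∈ O, ¬S x) → search r I O = true →
    ∃ I' : List ℕ, leafOK I' = true ∧ (∀ x ∈ I', S x) ∧
      ∀ x, (x ∈ r ∨ x ∈ I) → S x → x ∈ I'
  | [], I, O, _, _, hI, _, h => ⟨I, h, hI, fun x hx _ => hx.resolve_left List.not_mem_nil⟩
  | x :: r, I, O, hn, hd, hI, hO, h => by
    obtain ⟨hxr, hn'⟩ := List.nodup_cons.1 hn
    obtain ⟨hxI, hxO⟩ := hd x List.mem_cons_self
    simp only [search, Bool.and_eq_true, Bool.or_eq_true] at h
    by_cases hS : S x
    · rcases h.1 with hb | hb
      · exfalso
        simp only [badIn, Bool.or_eq_true, List.any_eq_true, Bool.and_eq_true] at hb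
        rcases hb with ⟨l, hl, hxl, hle⟩ | ⟨a, ha, hp⟩
        · have hsub : (x :: l.filter I.elem).Subperm (l.filter fun y => decide (S y)) := by
            refine List.Nodup.subperm (List.nodup_cons.2 ⟨fun hm => hxI ?_,
              (lines_ok l hl).1.filter _⟩) fun y hy => ?_
            · simpa using (List.mem_filter.1 hm).2
            · rcases List.mem_cons.1 hy with rfl | hy
              · exact List.mem_filter.2 ⟨by simpa using hxl, decide_eq_true hS⟩
              · obtain ⟨hy1, hy2⟩ := List.mem_filter.1 hy
                exact List.mem_filter.2 ⟨hy1, decide_eq_true (hI y (by simpa using hy2))⟩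
          have := hsub.length_le
          rw [h2 l hl, List.length_cons] at this
          simp only [Nat.ble_eq] at hle
          omega
        · rcases hp with hp | hp
          · exact hO _ (by simpa using hp) (hcl _ _ hS (hI a ha))
          · exact hO _ (by simpa using hp) (hcl _ _ (hI a ha) hS)
      · obtain ⟨I', h1, h2', h3⟩ := search_sound r (x :: I) O hn' (fun y hy =>
          ⟨fun e => by
            rcases List.mem_cons.1 e with rfl | e
            exacts [hxr hy, (hd y (List.mem_cons_of_mem _ hy)).1 e],
           (hd y (List.mem_cons_of_mem _ hy)).2⟩)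
          (fun y hy => by rcases List.mem_cons.1 hy with rfl | hy; exacts [hS, hI y hy]) hO hb
        refine ⟨I', h1, h2', fun y hy => h3 y ?_⟩
        rcases hy with hy | hy
        · rcases List.mem_cons.1 hy with rfl | hy
          exacts [Or.inr List.mem_cons_self, Or.inl hy]
        · exact Or.inr (List.mem_cons_of_mem _ hy)
    · rcases h.2 with hb | hb
      · exfalso
        simp only [badOut, Bool.or_eq_true, List.any_eq_true, Bool.and_eq_true] at hb
        rcases hb with ⟨l, hl, hxl, hle⟩ | ⟨a, ha, b, hb', he⟩
        · have hsub : (x :: l.filter O.elem).Subperm (l.filter fun y => !decide (S y)) := by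
            refine List.Nodup.subperm (List.nodup_cons.2 ⟨fun hm => hxO ?_,
              (lines_ok l hl).1.filter _⟩) fun y hy => ?_
            · simpa using (List.mem_filter.1 hm).2
            · rcases List.mem_cons.1 hy with rfl | hy
              · exact List.mem_filter.2 ⟨by simpa using hxl, by simpa using hS⟩
              · obtain ⟨hy1, hy2⟩ := List.mem_filter.1 hy
                exact List.mem_filter.2 ⟨hy1, by simpa using hO y (by simpa using hy2)⟩
          have := hsub.length_le
          rw [List.length_cons] at this
          simp only [Nat.ble_eq] at hle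
          have hlen := List.length_eq_length_filter_add (fun y => decide (S y)) (l := l)
          rw [h2 l hl, (lines_ok l hl).2.1] at hlen
          omega
        · exact hS (Nat.eq_of_beq_eq_true he ▸ hcl _ _ (hI a ha) (hI b hb'))
      · obtain ⟨I', h1, h2', h3⟩ := search_sound r I (x :: O) hn' (fun y hy =>
          ⟨(hd y (List.mem_cons_of_mem _ hy)).1, fun e => by
            rcases List.mem_cons.1 e with rfl | e
            exacts [hxr hy, (hd y (List.mem_cons_of_mem _ hy)).2 e]⟩)
          hI (fun y hy => by rcases List.mem_cons.1 hy with rfl | hy; exacts [hS, hO y hy]) hb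
        refine ⟨I', h1, h2', fun y hy hSy => h3 y ?_ hSy⟩
        rcases hy with hy | hy
        · rcases List.mem_cons.1 hy with rfl | hy
          exacts [absurd hSy hS, Or.inl hy]
        · exact Or.inr hy

/-- Such a set is a translate of the standard one. -/
theorem exists_word (hlt : ∀ x, S x → x < 126) :
    ∃ w ∈ setWords, ∀ i : Fin 126, Near P0 i → (S i.val ↔ wordN w i.val ∈ X0) := by
  obtain ⟨I, hleaf, hI, hall⟩ := search_sound S h2 hcl searchOrder [] [] order_ok.1
    (fun x _ => ⟨List.not_mem_nil, List.not_mem_nil⟩) (by simp) (by simp) search_ok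
  simp only [leafOK, List.any_eq_true, Bool.and_eq_true, List.all_eq_true] at hleaf
  obtain ⟨w, hw, hin, hout⟩ := hleaf
  refine ⟨w, hw, fun i hi => ⟨fun h => ?_, fun h => ?_⟩⟩
  · simpa using hin _ (List.mem_map.2 ⟨_, hall _ (Or.inl (order_ok.2 i hi)) h, rfl⟩)
  · have := hout _ h
    simp only [List.elem_eq_mem, decide_eq_true_eq, List.mem_map] at this
    obtain ⟨a, ha, e⟩ := this
    rw [← wordN_inj w (setWords_lt w hw) (hlt a (hI a ha)) i.isLt e]
    exact hI a ha

end Cfsg.Agent.ThreeTransp.M24Four.Cert
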