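import Cfsg.Agent.Lib.ThreeTransp.M24Four.CertData
import Cfsg.Agent.Lib.ThreeTransp.M24Four.Sets

/-!
The checks of the coset certificate.
-/

set_option autoImplicit false
set_option linter.unusedSectionVars false
set_option maxRecDepth 100000
set_option maxHeartbeats 0
set_option Elab.async false

noncomputable section

namespace Cfsg.Agent.ThreeTransp.M24Four.Cert

open Cfsg.Agent.CosetCert
open Model (perm permN P0 Near)

/-- The certificate. -/
def C : CosetCert.Cert := ⟨7, rels, [[0], [1], [2], [3], [4], [5]], facts, size⟩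

theorem all_ok : rangeOK C 0 size = true := by decide +kernel

theorem stepOK_all : ∀ i < C.N, stepOK C i = true := fun i hi =>
  rangeOK_spec C size 0 all_ok i (Nat.zero_le _) (by simpa [C] using hi)

theorem first_M : fM (C.F.get 0) = 1 := by decide +kernel

/-- The point of a letter. -/
def ptsF (x : ℕ) : Fin 126 := ⟨pts.getD x 0 % 126, Nat.mod_lt _ (by norm_num)⟩

/-- The word of a point. -/
def wordOf (x : ℕ) : List ℕ := ((wordTable.find? fun p => Nat.beq p.1 x).map Prod.snd).getD []

/-- The first half of a word. -/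
def halfOf (x : ℕ) : List ℕ := (wordOf x).take ((wordOf x).length / 2)

/-- The middle letter of a word. -/
def midOf (x : ℕ) : ℕ := (wordOf x).getD ((wordOf x).length / 2) 0

theorem words_ok : ∀ i : Fin 126, Near P0 i →
    wordOf i.val = halfOf i.val ++ midOf i.val :: (halfOf i.val).reverse ∧
    midOf i.val < 5 ∧ (∀ s ∈ halfOf i.val, s < 5) ∧
    (halfOf i.val).foldr (fun s y => perm (ptsF s) y) (ptsF (midOf i.val)) = i := by decide +kernel

theorem letters_ok : (∀ s, s < 5 → Near P0 (ptsF s)) ∧ ptsF 5 = P0 ∧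
    (∀ s, s < 5 → sPts.getD s 0 = (ptsF s).val) := by decide +kernel

/-- The pair relator. -/
def pairRel (i x : ℕ) : List ℕ :=
  let b := i :: wordOf x
  if permN (ptsF i).val x == x then b ++ b else b ++ b ++ b

/-- The relators of the seven letters. -/
def relsBuilt : List (List ℕ) :=
  (List.range 7).map (fun i => [i, i]) ++ [[5, 6, 5, 6, 5, 6]] ++
    pairs.map (fun p => pairRel p.1 p.2) ++
    [5 :: (frameLine.map wordOf).flatten]

theorem rels_eq : rels = relsBuilt := by decide +kernel

theorem pairs_ok : ∀ p ∈ pairs, p.1 < 7 ∧ ∃ i : Fin 126, Near P0 i ∧ i.val = p.2 ∧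
    ptsF p.1 ≠ i ∧ (p.1 = 6 → (perm (ptsF 6) i = i ↔ p.2 ∈ X0)) := by decide +kernel

theorem frameLine_ok : ∃ l ∈ lines, l = frameLine := by decide +kernel

theorem lines_near' : ∀ l ∈ lines, ∀ x ∈ l, Near P0 (⟨x % 126, Nat.mod_lt _ (by norm_num)⟩) ∧
    ∀ y ∈ l, x ≠ y → Near (⟨x % 126, Nat.mod_lt _ (by norm_num)⟩ : Fin 126)
      ⟨y % 126, Nat.mod_lt _ (by norm_num)⟩ := by decide +kernel

theorem lines_near : ∀ l ∈ lines, ∀ x ∈ l, ∀ y ∈ l, ∀ i j : Fin 126, i.val = x → j.val = y →
    Near P0 i ∧ (i ≠ j → Near i j) := by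
  intro l hl x hx y hy i j hi hj
  have h := lines_near' l hl x hx
  have ei : (⟨x % 126, Nat.mod_lt _ (by norm_num)⟩ : Fin 126) = i :=
    Fin.ext (by simp [← hi, Nat.mod_eq_of_lt i.isLt])
  have ej : (⟨y % 126, Nat.mod_lt _ (by norm_num)⟩ : Fin 126) = j :=
    Fin.ext (by simp [← hj, Nat.mod_eq_of_lt j.isLt])
  rw [ei] at h
  refine ⟨h.1, fun hne => ?_⟩
  have h2 := h.2 y hy (fun e => hne (Fin.ext (hi.trans (e.trans hj.symm))))
  rwa [ej] at h2

theorem setWords_lt5 : ∀ w ∈ setWords, ∀ s ∈ w, s < 5 := by decide +kernel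

theorem setWords_sep : ∀ k l : Fin 40, k ≠ l → ∃ i : Fin 126, Near P0 i ∧
    (wordN (setWords.getD k.val []) i.val ∈ X0) ≠ (wordN (setWords.getD l.val []) i.val ∈ X0) := by
  simp only [ne_eq, eq_iff_iff]
  decide +kernel

theorem setWords_length : setWords.length = 40 := by decide +kernel

theorem some_outside : (ptsF 1).val ∉ X0 := by decide +kernel

/-- The orbit of the second letter under the five. -/
def orbitList : List (ℕ × ℕ × ℕ) := [(60, 68, 0), (59, 68, 2), (7, 68, 3), (13, 68, 4), (12, 60, 1), (47, 60, 3), (14, 60, 4), (9, 59, 1), (69, 59, 4), (17, 7, 0), (61, 7, 1), (49, 13, 1), (2, 13, 2), (0, 12, 2), (45, 12, 3), (55, 47, 0), (56, 47, 2), (8, 47, 4), (1, 14, 2), (53, 14, 3), (52, 9, 3), (58, 9, 4), (51, 69, 2), (65, 69, 3), (4, 17, 2), (15, 61, 4), (11, 2, 0), (63, 2, 3), (62, 0, 3), (50, 0, 4), (54, 45, 2), (6, 45, 4), (16, 55, 4), (44, 56, 1), (66, 8, 3), (10, 1, 0), (67, 1, 1), (64, 52, 4), (46, 58, 3), (57, 65, 0), (3, 65, 1), (43, 4, 4), (5, 16, 2), (48, 44, 4)]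

/-- Every step of the orbit leads from an earlier point to the next. -/
def orbitOK : List ℕ → List (ℕ × ℕ × ℕ) → Bool
  | seen, [] => (List.range 126).all fun i => !(Nat.beq (permN 42 i) i && !(Nat.beq i 42)) || seen.elem i
  | seen, (p, q, k) :: r =>
    Nat.blt p 126 && (Nat.blt q 126 && (seen.elem q && (Nat.blt k 5 &&
      (Nat.beq (permN (ptsF k).val q) p && orbitOK (p :: seen) r))))

theorem orbit_ok : orbitOK [(ptsF 1).val] orbitList = true := by decide +kernel

theorem P0_val : P0.val = 42 := rfl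

/-- The rows of a fibre. -/
def row (p : Fin 126) (k : ℕ) : ℕ := Nat.land (Nat.shiftRight (fibres.get p.val) (20 * k)) 1048575

/-- A fact links two rows by a letter. -/
def link (j c c' x : ℕ) : Bool :=
  Nat.blt j size && (Nat.beq (fX (facts.get j)) x &&
    ((Nat.beq (fU (facts.get j)) c && Nat.beq (fV (facts.get j)) c') ||
      (Nat.beq (fV (facts.get j)) c && Nat.beq (fU (facts.get j)) c')))

theorem base_row : row P0 0 = 0 := by decide +kernel

theorem base_ok : ∀ k : Fin 3, ∀ s : Fin 5,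
    link (baseFacts.getD (5 * k.val + s.val) 0) (row P0 k) (row P0 k) s = true := by decide +kernel

/-- Every step of the tree leads from an earlier fibre to the next. -/
def treeOK : List ℕ → List (ℕ × ℕ × ℕ × List ℕ) → Bool
  | seen, [] => (List.range 126).all seen.elem
  | seen, (p, q, x, ids) :: r =>
    Nat.blt p 126 && (Nat.blt q 126 && (seen.elem q && (Nat.blt x 7 &&
      (Nat.beq (permN (ptsF x).val q) p && ((List.range 3).all (fun k =>
        let c := ids.getD k 0
        Nat.blt (c % 4) 3 &&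
          link (c / 4) (Nat.land (Nat.shiftRight (fibres.get p) (20 * k)) 1048575)
            (Nat.land (Nat.shiftRight (fibres.get q) (20 * (c % 4))) 1048575) x) &&
        treeOK (p :: seen) r)))))

theorem tree_ok : treeOK [P0.val] order = true := by decide +kernel

theorem cells_ok : ∀ p : Fin 126, ∀ x : Fin 7,
    let c := cellFacts.get (7 * p.val + x.val)
    c % 4 < 3 ∧ link (c / 4) (row p 0) (row (perm (ptsF x) p) (c % 4)) x = true := by
  decide +kernel

theorem perm_conj : ∀ x : Fin 7, ∀ i j : Fin 126,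
    perm (perm (ptsF x) i) j = perm (ptsF x) (perm i (perm (ptsF x) j)) := by decide +kernel

end Cfsg.Agent.ThreeTransp.M24Four.Cert
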