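import Cfsg.Agent.Lib.ThreeTransp.M24.Triple
import Cfsg.Agent.Lib.ThreeTransp.M24.Sign
import Cfsg.Agent.Lib.ThreeTransp.M22Iso.Local
import Cfsg.Agent.GenA.Tower.Main23

/-!
In a group of type M(24): coordinates on the members commuting with three commuting members.
-/

set_option autoImplicit false
set_option linter.unusedSectionVars false

namespace Cfsg.Agent.ThreeTransp.M24Four

open Cfsg.Agent.ThreeTransp
open Cfsg.Agent.ThreeTransp.Factor (nb Hd mem_Hd Sd Dq Rel)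
open Cfsg.Agent.GenA.Tower (pr pr_mk pr_mul pr_inv pr_mem pr_inj pr_comm pr_nb image_nb_pr)
open Cfsg.Agent.ThreeTransp.M22Iso (Coord Vec Pt τ)
open Cfsg.Agent.Forms
open Cfsg.Agent.Classical.Unitary
open Cfsg.Agent.InvChar.Coset (FF)
open Matrix
open Cfsg.Agent.GroupStructure3.ThreeTransUnitary (tr tr_mulVec three_class rank_one_iff)

local notation "H" => Cfsg.hermForm 6 FF 2

universe u

variable {G : Type u} [Group G]

/-- The hypotheses. -/
structure Ctx (D : Set G) : Prop where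
  grp : Cfsg.IsThreeTranspositionGroup D
  prim : Cfsg.IsPrimitiveUnderConj D
  typ : Cfsg.IsOfTypeM24 G D

/-- The common neighbours of three members. -/
abbrev N3 (D : Set G) (a b c : G) : Set G := nb D a ∩ nb D b ∩ nb D c

/-- Coordinates on the common neighbours. -/
abbrev Chart (D : Set G) (a b c : G) : Type u := Coord (insert a (N3 D a b c)) a

theorem nb_insert {D : Set G} (a b c : G) :
    nb (insert a (N3 D a b c)) a = N3 D a b c := by
  ext x
  constructor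
  · rintro ⟨hx, hne, -⟩
    exact (Set.mem_insert_iff.1 hx).resolve_left hne
  · exact fun h => ⟨Set.mem_insert_of_mem _ h, h.1.1.2.1, h.1.1.2.2⟩

theorem conj_inj {g x y : G} (h : g * x * g⁻¹ = g * y * g⁻¹) : x = y :=
  mul_left_cancel (mul_right_cancel h)

section Basic

variable {D : Set G} {a b c : G} (K : Chart D a b c)

theorem Chart.mem' {v : Vec} (hv : Pt v) : K.f v ∈ N3 D a b c := by
  have h := K.mem v hv
  rwa [nb_insert] at h

theorem Chart.cover' {x : G} (hx : x ∈ N3 D a b c) : ∃ v, Pt v ∧ K.f v = x :=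
  K.cover x (by rwa [nb_insert])

theorem Chart.inD {v : Vec} (hv : Pt v) : K.f v ∈ D := (K.mem' hv).1.1.1

/-- Coordinates moved by an element preserving the common neighbourhood. -/
def Chart.conj (g : G) {a' b' c' : G}
    (hg : ∀ x, x ∈ N3 D a b c ↔ g * x * g⁻¹ ∈ N3 D a' b' c') : Chart D a' b' c' where
  f v := g * K.f v * g⁻¹
  mem v hv := by rw [nb_insert]; exact (hg _).1 (K.mem' hv)
  cover x hx := by
    rw [nb_insert] at hx
    have e : x = g * (g⁻¹ * x * g) * g⁻¹ := by group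
    obtain ⟨v, hv, h⟩ := K.cover' ((hg _).2 (e ▸ hx))
    exact ⟨v, hv, by rw [h]; exact e.symm⟩
  eq_iff v w hv hw := ⟨fun h => (K.eq_iff v w hv hw).1 (conj_inj h),
    fun h => by rw [(K.eq_iff v w hv hw).2 h]⟩
  comm_iff v w hv hw := Basic.commute_conj.trans (K.comm_iff v w hv hw)
  line u v hu hv := by rw [← K.line u v hu hv]; group

theorem Chart.conj_f (g : G) {a' b' c' : G}
    (hg : ∀ x, x ∈ N3 D a b c ↔ g * x * g⁻¹ ∈ N3 D a' b' c') (v : Vec) :
    (K.conj g hg).f v = g * K.f v * g⁻¹ := rfl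

/-- Matrices of determinant one are realised by products of common neighbours. -/
theorem Chart.realise (hD : Cfsg.IsThreeTranspositionGroup D) (g : Cfsg.SU 6 FF 2) :
    ∃ h ∈ Subgroup.closure (N3 D a b c), ∀ v, Pt v → h * K.f v * h⁻¹ = K.f (mat g *ᵥ v) := by
  have hg : g ∈ Subgroup.closure {g : Cfsg.SU 6 FF 2 |
      (((g : Matrix.SpecialLinearGroup (Fin 6) FF) : Matrix (Fin 6) (Fin 6) FF) - 1).rank = 1} := by
    rw [(three_class M22Iso.hF4 (n := 6) (by omega)).2.2]; exact Subgroup.mem_top g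
  induction hg using Subgroup.closure_induction'' with
  | mem t ht =>
    obtain ⟨w, hw, hw0, rfl⟩ := (rank_one_iff M22Iso.hF4 t).1 ht
    have hp : Pt w := ⟨hw0, hw⟩
    refine ⟨K.f w, Subgroup.subset_closure (K.mem' hp), fun v hv => ?_⟩
    rw [Classes.inv hD (K.inD hp), M22Iso.mat_tr, K.line w v hp hv]
  | inv_mem t ht =>
    obtain ⟨w, hw, hw0, rfl⟩ := (rank_one_iff M22Iso.hF4 t).1 ht
    have hp : Pt w := ⟨hw0, hw⟩
    refine ⟨K.f w, Subgroup.subset_closure (K.mem' hp), fun v hv => ?_⟩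
    rw [inv_eq_of_mul_eq_one_right (GroupStructure3.ThreeTransUnitary.tr_sq M22Iso.hF4 hw),
      Classes.inv hD (K.inD hp), M22Iso.mat_tr, K.line w v hp hv]
  | one =>
    exact ⟨1, one_mem _, fun v _ => by rw [mat_one, Matrix.one_mulVec, one_mul, inv_one, mul_one]⟩
  | mul p q _ _ hp hq =>
    obtain ⟨h, hh, he⟩ := hp
    obtain ⟨k, hk, hke⟩ := hq
    refine ⟨h * k, mul_mem hh hk, fun v hv => ?_⟩
    rw [mul_mulVec, ← he _ (hv.mat q), ← hke v hv]
    group

end Basic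

/-- The transvection at `v + (v, w) w` maps `v` to a multiple of `w`. -/
theorem tau_link {v w : Vec} (hv : Pt v) (hw : Pt w) (h : H v w ≠ 0) :
    Pt (v + H v w • w) ∧ τ (v + H v w • w) v = H v w • w := by
  have hwv : H w v = H v w ^ 2 := (M22Iso.H_conj4 v w).symm
  have hvw : H v (v + H v w • w) = 1 := by
    rw [M22Iso.H_add_right4, H_smul_right, hv.2, zero_add, ← pow_succ, M22Iso.cube _ h]
  refine ⟨⟨fun e => ?_, ?_⟩, ?_⟩
  · rw [e, H_zero_right M22Iso.hF4] at hvw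
    exact zero_ne_one hvw
  · simp only [H_add_left, M22Iso.H_add_right4, H_smul_left, H_smul_right, hv.2, hw.2, hwv,
      mul_zero, add_zero, zero_add]
    rw [← pow_succ, show H v w * H v w ^ 2 = H v w ^ 3 by ring, M22Iso.cube _ h]
    exact M22Iso.add_self 1
  · rw [τ, hvw, one_smul, ← add_assoc, M22Iso.vec_add_self, zero_add]

theorem common_scalar : ∀ a b c d : FF, a ≠ 0 → c ≠ 0 →
    ∃ l : FF, l ≠ 0 ∧ a + l ^ 2 * b ≠ 0 ∧ c + l ^ 2 * d ≠ 0 := by decide +kernel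

/-- A point orthogonal to neither of two points. -/
theorem exists_both {v w : Vec} (hv : Pt v) (hw : Pt w) :
    ∃ u, Pt u ∧ H v u ≠ 0 ∧ H u w ≠ 0 := by
  have flip : ∀ {u : Vec}, H w u ≠ 0 → H u w ≠ 0 := fun h e => h (M22Iso.H_comm_zero.1 e)
  by_cases hi : ∃ i, v i ≠ 0 ∧ w i ≠ 0
  · obtain ⟨i, hvi, hwi⟩ := hi
    obtain ⟨k, hk⟩ : ∃ k : Fin 6, i ≠ k := ⟨i + 1, (show ∀ j : Fin 6, j ≠ j + 1 by decide) i⟩
    obtain ⟨l, hl, h1, h2⟩ := common_scalar (v i) (v k) (w i) (w k) hvi hwi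
    refine ⟨M22Iso.pl i k l, M22Iso.pl_pt hk hl, ?_, flip ?_⟩ <;> rw [M22Iso.H_pl] <;> assumption
  · push Not at hi
    obtain ⟨i, hvi⟩ := Function.ne_iff.1 hv.1
    obtain ⟨j, hwj⟩ := Function.ne_iff.1 hw.1
    have hwi : w i = 0 := hi i hvi
    have hij : i ≠ j := fun e => hwj (e ▸ hwi)
    have hvj : v j = 0 := by by_contra e; exact hwj (hi j e)
    refine ⟨M22Iso.pl i j 1, M22Iso.pl_pt hij one_ne_zero, ?_, flip ?_⟩ <;> rw [M22Iso.H_pl]
    · simpa [hvj] using hvi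
    · simpa [hwi] using hwj

variable [Finite G] {D : Set G} (X : Ctx D)
include X

theorem base : M24.Base D := M24.Local.base X.grp X.prim X.typ

theorem rel7 : Rel 7 D := Factor.M24_rel X.grp X.prim X.typ

theorem sgn : ∀ x ∈ D, x ∉ commutator G := M24.Sign.not_mem_commutator X.grp X.prim X.typ

theorem sq {x : G} (hx : x ∈ D) : x * x = 1 := Classes.sq X.grp hx

theorem inv {x : G} (hx : x ∈ D) : x⁻¹ = x := Classes.inv X.grp hx

variable {a b c : G} (T : M24.Triple.Tri D a b c)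
include T

theorem mem_nb_q : pr D a b ∈ Dq D a ∧ pr D a c ∈ nb (Dq D a) (pr D a b) :=
  ⟨pr_mem T.hb, (pr_nb X.grp ((base X).sep a T.ha) T.hb T.hc).2 T.hbc⟩

/-- The double projection. -/
noncomputable def pp (D : Set G) (a b x : G) : Sd (Dq D a) (pr D a b) :=
  pr (Dq D a) (pr D a b) (pr D a x)

theorem pr_into {x : G} (hx : x ∈ N3 D a b c) :
    pr D a x ∈ nb (Dq D a) (pr D a b) ∧ pr D a x ∈ nb (Dq D a) (pr D a c) :=
  ⟨(pr_nb X.grp ((base X).sep a T.ha) T.hb hx.1.1).2 hx.1.2,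
    (pr_nb X.grp ((base X).sep a T.ha) T.hc hx.1.1).2 hx.2⟩

theorem sep_q : Factor.Sep (Dq D a) (pr D a b) :=
  GenA.Tower.M23.sep (M24.Facts.grp X.grp X.prim X.typ T.ha) (M24.Facts.prim X.grp X.prim X.typ T.ha)
    (M24.Facts.m23 X.grp X.prim X.typ T.ha) (mem_nb_q X T).1

theorem pp_into {x : G} (hx : x ∈ N3 D a b c) :
    pp D a b x ∈ nb (Dq (Dq D a) (pr D a b)) (pp D a b c) :=
  (pr_nb (M24.Facts.grp X.grp X.prim X.typ T.ha) (sep_q X T) (mem_nb_q X T).2 (pr_into X T hx).1).2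
    (pr_into X T hx).2

theorem pp_surj {Y : Sd (Dq D a) (pr D a b)}
    (hY : Y ∈ nb (Dq (Dq D a) (pr D a b)) (pp D a b c)) : ∃ x ∈ N3 D a b c, pp D a b x = Y := by
  have hY1 : Y ∈ pr (Dq D a) (pr D a b) '' nb (Dq D a) (pr D a b) := by
    rw [image_nb_pr]; exact hY.1
  obtain ⟨y, hy, rfl⟩ := hY1
  have hy1 : y ∈ pr D a '' nb D a := by rw [image_nb_pr]; exact hy.1
  obtain ⟨x, hx, rfl⟩ := hy1
  have hxb : x ∈ nb D b := (pr_nb X.grp ((base X).sep a T.ha) T.hb hx).1 hy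
  have hyc : pr D a x ∈ nb (Dq D a) (pr D a c) :=
    (pr_nb (M24.Facts.grp X.grp X.prim X.typ T.ha) (sep_q X T) (mem_nb_q X T).2 hy).1 hY
  exact ⟨x, ⟨⟨hx, hxb⟩, (pr_nb X.grp ((base X).sep a T.ha) T.hc hx).1 hyc⟩, rfl⟩

theorem pp_inj {x y : G} (hx : x ∈ N3 D a b c) (hy : y ∈ N3 D a b c)
    (h : pp D a b x = pp D a b y) : x = y :=
  pr_inj ((base X).sep a T.ha) hx.1.1 hy.1.1
    (pr_inj (sep_q X T) (pr_into X T hx).1 (pr_into X T hy).1 h)

theorem pp_comm {x y : G} (hx : x ∈ N3 D a b c) (hy : y ∈ N3 D a b c) :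
    Commute (pp D a b x) (pp D a b y) ↔ Commute x y :=
  (pr_comm (M24.Facts.grp X.grp X.prim X.typ T.ha) (pr_into X T hx).1 (pr_into X T hy).1).trans
    (pr_comm X.grp hx.1.1 hy.1.1)

theorem conj_mem_N3 {x y : G} (hx : x ∈ N3 D a b c) (hy : y ∈ N3 D a b c) :
    x * y * x ∈ N3 D a b c := by
  have key : ∀ e, x ∈ nb D e → y ∈ nb D e → x * y * x ∈ nb D e := fun e hxe hye => by
    have h := Cover.conj_nb X.grp x hye
    rwa [inv X hxe.1, ← hxe.2.2.eq, mul_assoc, sq X hxe.1, mul_one] at h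
  exact ⟨⟨key a hx.1.1 hy.1.1, key b hx.1.2 hy.1.2⟩, key c hx.2 hy.2⟩

theorem pp_conj {x y : G} (hx : x ∈ N3 D a b c) (hy : y ∈ N3 D a b c) :
    pp D a b (x * y * x) = pp D a b x * pp D a b y * pp D a b x := by
  have hx1 := mem_Hd hx.1.1
  have hy1 := mem_Hd hy.1.1
  have hx2 := mem_Hd (pr_into X T hx).1
  have hy2 := mem_Hd (pr_into X T hy).1
  rw [pp, pr_mul (mul_mem hx1 hy1) hx1, pr_mul hx1 hy1, pr_mul (mul_mem hx2 hy2) hx2,
    pr_mul hx2 hy2]
  rfl

theorem m22_q : Cfsg.IsOfTypeM22 (Sd (Dq D a) (pr D a b)) (Dq (Dq D a) (pr D a b)) :=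
  GenA.Tower.M23.t22 (M24.Facts.grp X.grp X.prim X.typ T.ha)
    (M24.Facts.prim X.grp X.prim X.typ T.ha) (M24.Facts.m23 X.grp X.prim X.typ T.ha) (mem_nb_q X T).1

theorem grp_q : Cfsg.IsThreeTranspositionGroup (Dq (Dq D a) (pr D a b)) :=
  GenA.Tower.M23.grp (M24.Facts.grp X.grp X.prim X.typ T.ha)
    (M24.Facts.prim X.grp X.prim X.typ T.ha) (M24.Facts.m23 X.grp X.prim X.typ T.ha) (mem_nb_q X T).1

theorem prim_q : Cfsg.IsPrimitiveUnderConj (Dq (Dq D a) (pr D a b)) :=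
  GenA.Tower.M23.prim (M24.Facts.grp X.grp X.prim X.typ T.ha)
    (M24.Facts.prim X.grp X.prim X.typ T.ha) (M24.Facts.m23 X.grp X.prim X.typ T.ha) (mem_nb_q X T).1

theorem ppc_mem : pp D a b c ∈ Dq (Dq D a) (pr D a b) := pr_mem (mem_nb_q X T).2

/-- Coordinates exist. -/
theorem exists_chart : Nonempty (Chart D a b c) := by
  classical
  obtain ⟨C⟩ := M22Iso.exists_coord (grp_q X T) (m22_q X T) (ppc_mem X T)
  have key : ∀ v, ∃ x, Pt v → x ∈ N3 D a b c ∧ pp D a b x = C.f v := fun v => by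
    by_cases hv : Pt v
    · obtain ⟨x, hx, e⟩ := pp_surj X T (C.mem v hv)
      exact ⟨x, fun _ => ⟨hx, e⟩⟩
    · exact ⟨1, fun h => absurd h hv⟩
  choose f hf using key
  refine ⟨⟨f, fun v hv => by rw [nb_insert]; exact (hf v hv).1, ?_, ?_, ?_, ?_⟩⟩
  · intro x hx
    rw [nb_insert] at hx
    obtain ⟨v, hv, e⟩ := C.cover _ (pp_into X T hx)
    exact ⟨v, hv, pp_inj X T (hf v hv).1 hx ((hf v hv).2.trans e)⟩
  · intro v w hv hw
    rw [← C.eq_iff v w hv hw, ← (hf v hv).2, ← (hf w hw).2]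
    exact ⟨fun h => by rw [h], pp_inj X T (hf v hv).1 (hf w hw).1⟩
  · intro v w hv hw
    rw [← C.comm_iff v w hv hw, ← (hf v hv).2, ← (hf w hw).2, pp_comm X T (hf v hv).1 (hf w hw).1]
  · intro u v hu hv
    refine pp_inj X T (conj_mem_N3 X T (hf u hu).1 (hf v hv).1) (hf _ (hv.tau hu.2)).1 ?_
    rw [(hf _ (hv.tau hu.2)).2, pp_conj X T (hf u hu).1 (hf v hv).1, (hf u hu).2, (hf v hv).2,
      C.line u v hu hv]

/-- The common neighbourhood has 693 members. -/
theorem ncard_N3 : (N3 D a b c).ncard = 693 := by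
  rw [← M22.ncard_nb (grp_q X T) (prim_q X T) (m22_q X T) (ppc_mem X T)]
  refine Set.ncard_congr (fun x _ => pp D a b x) (fun x hx => pp_into X T hx)
    (fun x y hx hy h => pp_inj X T hx hy h) fun Y hY => ?_
  obtain ⟨x, hx, e⟩ := pp_surj X T hY
  exact ⟨x, hx, e⟩

/-- What centralises three members and their common neighbours is generated by them. -/
theorem centraliser_cases {g : G} (ha : Commute g a) (hb : Commute g b) (hc : Commute g c)
    (h : ∀ x ∈ N3 D a b c, Commute g x) :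
    g = 1 ∨ g = a ∨ g = b ∨ g = c ∨ g = a * b ∨ g = a * c ∨ g = b * c ∨ g = a * b * c := by
  have g23 := M24.Facts.grp X.grp X.prim X.typ T.ha
  have p23 := M24.Facts.prim X.grp X.prim X.typ T.ha
  have t23 := M24.Facts.m23 X.grp X.prim X.typ T.ha
  have hZ := X.typ.1
  have mA : ∀ {k : G}, Commute k a → k ∈ Hd D a := fun {k} hk =>
    M24.mem_Hd_of_commute X.grp (base X) X.prim hZ T.ha hk
  have cq : ∀ {k x : G}, Commute k a → x ∈ nb D a → Commute k x →
      Commute (pr D a k) (pr D a x) := fun {k x} hk hx hkx => by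
    show pr D a k * pr D a x = pr D a x * pr D a k
    rw [← pr_mul (mA hk) (mem_Hd hx), ← pr_mul (mem_Hd hx) (mA hk), hkx.eq]
  have mB : ∀ {k : G}, Commute k a → Commute k b → pr D a k ∈ Hd (Dq D a) (pr D a b) :=
    fun {k} hk hkb => by
    rw [← GenA.Tower.M23.centralizer_eq g23 p23 t23 (mem_nb_q X T).1, M23.Pair.mem_cent]
    exact (cq hk T.hb hkb).symm
  -- kills the projection
  have last : ∀ k : G, Commute k a → Commute k b → pp D a b k = 1 →
      k = 1 ∨ k = a ∨ k = b ∨ k = a * b := by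
    intro k hka hkb hk
    rw [pp, pr_mk (mB hka hkb), QuotientGroup.eq_one_iff,
      GenA.Tower.M23.center_eq g23 p23 t23 (mem_nb_q X T).1, Subgroup.mem_subgroupOf] at hk
    rcases M23.Pair.mem_zpowers_cases g23 (mem_nb_q X T).1 hk with e | e
    · rcases M24.Local.pr_eq_one X.grp X.prim X.typ T.ha (mA hka) e with e | e
      exacts [Or.inl e, Or.inr (Or.inl e)]
    · have hkbA := mA (hka.mul_left T.hb.2.2.symm)
      have e' : pr D a (k * b) = 1 := by
        rw [pr_mul (mA hka) (mem_Hd T.hb), show pr D a k = pr D a b from e,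
          Classes.sq g23 (mem_nb_q X T).1]
      rcases M24.Local.pr_eq_one X.grp X.prim X.typ T.ha hkbA e' with e | e
      · refine Or.inr (Or.inr (Or.inl ?_))
        rw [← mul_eq_one_iff_eq_inv.1 e |>.trans (inv X T.hb.1)]
      · refine Or.inr (Or.inr (Or.inr ?_))
        rw [← e, mul_assoc, sq X T.hb.1, mul_one]
  have hpp : ∀ Y ∈ nb (Dq (Dq D a) (pr D a b)) (pp D a b c), Commute (pp D a b g) Y := by
    intro Y hY
    obtain ⟨x, hx, rfl⟩ := pp_surj X T hY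
    show pr (Dq D a) (pr D a b) (pr D a g) * pr (Dq D a) (pr D a b) (pr D a x) = _
    rw [← pr_mul (mB ha hb) (mem_Hd (pr_into X T hx).1), pp, pp,
      ← pr_mul (mem_Hd (pr_into X T hx).1) (mB ha hb), (cq ha hx.1.1 (h x hx)).eq]
  rcases M22Iso.central_cases (grp_q X T) (prim_q X T) (m22_q X T) (ppc_mem X T) hpp with e | e
  · rcases last g ha hb e with h | h | h | h <;> simp [h]
  · have e' : pp D a b (g * c) = 1 := by
      rw [pp, pr_mul (mA ha) (mem_Hd T.hc), pr_mul (mB ha hb) (mem_Hd (mem_nb_q X T).2)]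
      show pp D a b g * pp D a b c = 1
      rw [e, Classes.sq (grp_q X T) (ppc_mem X T)]
    have back : g = g * c * c := by rw [mul_assoc, sq X T.hc.1, mul_one]
    rcases last (g * c) (ha.mul_left T.hc.2.2.symm) (hb.mul_left T.hbc.2.2.symm) e' with
      h | h | h | h <;> rw [h] at back
    · simp [back]
    · simp [back]
    · simp [back]
    · simp [back]

theorem conj_eq_of_commute {g x : G} (h : Commute g x) : g * x * g⁻¹ = x :=
  mul_inv_eq_iff_eq_mul.2 h.eq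

/-- An element of the commutator subgroup fixing the three members moves one neighbour to another. -/
theorem trans_N3 {x y : G} (hx : x ∈ N3 D a b c) (hy : y ∈ N3 D a b c) :
    ∃ g ∈ M24.Triple.K a b c, g * x * g⁻¹ = y := by
  obtain ⟨K⟩ := exists_chart X T
  obtain ⟨v, hv, rfl⟩ := K.cover' hx
  obtain ⟨w, hw, rfl⟩ := K.cover' hy
  have step : ∀ {v w : Vec}, Pt v → Pt w → H v w ≠ 0 →
      ∃ e ∈ N3 D a b c, e * K.f v * e⁻¹ = K.f w := fun {v w} hv hw hne => by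
    obtain ⟨hu, he⟩ := tau_link hv hw hne
    refine ⟨K.f _, K.mem' hu, ?_⟩
    rw [inv X (K.inD hu), K.line _ _ hu hv, he, K.smul_eq hw hne]
  -- parity
  have odd : ∀ {e₁ e₂ : G}, e₁ ∈ N3 D a b c → e₂ ∈ N3 D a b c →
      e₁ * e₂ ∈ M24.Triple.K a b c := fun {e₁ e₂} h1 h2 => M24.Triple.mem_K.2
    ⟨(M24.Triple.mem_or X.grp X.prim h2.1.1.1 e₁).resolve_left (sgn X e₁ h1.1.1.1),
      h1.1.1.2.2.mul_right h2.1.1.2.2, h1.1.2.2.2.mul_right h2.1.2.2.2,
      h1.2.2.2.mul_right h2.2.2.2⟩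
  have two : ∀ {u : Vec}, Pt u → H v u ≠ 0 → H u w ≠ 0 →
      ∃ g ∈ M24.Triple.K a b c, g * K.f v * g⁻¹ = K.f w := fun {u} hu h1 h2 => by
    obtain ⟨e₁, m1, q1⟩ := step hv hu h1
    obtain ⟨e₂, m2, q2⟩ := step hu hw h2
    refine ⟨e₂ * e₁, odd m2 m1, ?_⟩
    rw [← q2, ← q1]; group
  by_cases hvw : H v w = 0
  · obtain ⟨u, hu, h1, h2⟩ := exists_both hv hw
    exact two hu h1 h2
  · obtain ⟨e, m, q⟩ := step hv hw hvw
    refine ⟨e * a, M24.Triple.mem_K.2 ⟨(M24.Triple.mem_or X.grp X.prim T.ha e).resolve_left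
      (sgn X e m.1.1.1), m.1.1.2.2.mul_right (Commute.refl a), m.1.2.2.2.mul_right T.hb.2.2.symm,
      m.2.2.2.mul_right T.hc.2.2.symm⟩, ?_⟩
    rw [show e * a * K.f v * (e * a)⁻¹ = e * (a * K.f v * a⁻¹) * e⁻¹ by group,
      conj_eq_of_commute X T (K.mem' hv).1.1.2.2, q]
end Cfsg.Agent.ThreeTransp.M24Four
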