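import Cfsg.Agent.Lib.ThreeTransp.M24Four.Pairs
import Cfsg.Agent.Lib.MonomialMult.U62.Main

/-!
In a group of type M(24) the order of the centraliser of a product of four commuting members, and
the kernel and the image of its action on the 126 tetrads.
-/

set_option autoImplicit false
set_option linter.unusedSectionVars false
set_option maxRecDepth 10000

noncomputable section

namespace Cfsg.Agent.ThreeTransp.M24Four

open Cfsg.Agent.ThreeTransp
open Cfsg.Agent.ThreeTransp.Factor (nb Rel)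
open Model (perm P0 Near rp)

universe u

variable {G : Type u} [Group G] [Finite G] {D : Set G} {z : G}

theorem card_closure_two (X : Ctx D) {t : Tet D z} (L : At D z t) :
    Nat.card (M24.Triple.E L.a L.b L.c) = 4 := by
  classical
  have q := L.q
  have cab := q.cab
  have sa := sq X q.mA
  have sb := sq X q.mB
  have sc := sq X q.mC
  have e1 : L.a * L.b * (L.a * L.c) = L.b * L.c := by
    rw [mul_assoc L.a L.b, ← mul_assoc L.b L.a, ← cab.eq, mul_assoc L.a L.b, ← mul_assoc L.a L.a, sa,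
      one_mul]
  have p1 : L.a * L.b * (L.a * L.b) = 1 := by
    rw [← pow_two, cab.mul_pow, pow_two, pow_two, sa, sb, one_mul]
  have p2 : L.a * L.c * (L.a * L.c) = 1 := by
    rw [← pow_two, q.cac.mul_pow, pow_two, pow_two, sa, sc, one_mul]
  have cuv : Commute (L.a * L.b) (L.a * L.c) :=
    ((Commute.refl L.a).mul_right q.cac).mul_left (cab.symm.mul_right q.cbc)
  have hset : (M24.Triple.E L.a L.b L.c : Set G) = Set.range L.quartet := by
    refine Set.Subset.antisymm (fun g hg => ?_) ?_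
    · induction hg using Subgroup.closure_induction'' with
      | mem x hx =>
        rcases hx with rfl | rfl
        exacts [⟨1, rfl⟩, ⟨2, rfl⟩]
      | inv_mem x hx =>
        rcases hx with rfl | rfl
        exacts [⟨1, (inv_eq_of_mul_eq_one_right p1).symm⟩, ⟨2, (inv_eq_of_mul_eq_one_right p2).symm⟩]
      | one => exact ⟨0, rfl⟩
      | mul x y _ _ hx hy =>
        obtain ⟨i, rfl⟩ := hx
        obtain ⟨j, rfl⟩ := hy
        have h3 : L.b * L.c = L.a * L.b * (L.a * L.c) := e1.symm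
        fin_cases i <;> fin_cases j
        · exact ⟨0, (one_mul _).symm⟩
        · exact ⟨1, (one_mul _).symm⟩
        · exact ⟨2, (one_mul _).symm⟩
        · exact ⟨3, (one_mul _).symm⟩
        · exact ⟨1, (mul_one _).symm⟩
        · exact ⟨0, p1.symm⟩
        · exact ⟨3, e1.symm⟩
        · refine ⟨2, ?_⟩
          show L.a * L.c = L.a * L.b * (L.b * L.c)
          rw [mul_assoc, ← mul_assoc L.b, sb, one_mul]
        · exact ⟨2, (mul_one _).symm⟩
        · exact ⟨3, by show L.b * L.c = L.a * L.c * (L.a * L.b); rw [← cuv.eq, e1]⟩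
        · exact ⟨0, p2.symm⟩
        · refine ⟨1, ?_⟩
          show L.a * L.b = L.a * L.c * (L.b * L.c)
          rw [q.cbc.eq, mul_assoc, ← mul_assoc L.c, sc, one_mul]
        · exact ⟨3, (mul_one _).symm⟩
        · refine ⟨2, ?_⟩
          show L.a * L.c = L.b * L.c * (L.a * L.b)
          rw [h3, cuv.eq, mul_assoc, p1, mul_one]
        · refine ⟨1, ?_⟩
          show L.a * L.b = L.b * L.c * (L.a * L.c)
          rw [h3, mul_assoc, p2, mul_one]
        · refine ⟨0, ?_⟩
          show (1 : G) = L.b * L.c * (L.b * L.c)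
          rw [← pow_two, q.cbc.mul_pow, pow_two, pow_two, sb, sc, one_mul]
    · rintro _ ⟨i, rfl⟩
      fin_cases i
      · exact one_mem _
      · exact Subgroup.subset_closure (Set.mem_insert _ _)
      · exact Subgroup.subset_closure (Set.mem_insert_of_mem _ rfl)
      · show L.b * L.c ∈ M24.Triple.E L.a L.b L.c
        rw [← e1]
        exact mul_mem (Subgroup.subset_closure (Set.mem_insert _ _))
          (Subgroup.subset_closure (Set.mem_insert_of_mem _ rfl))
  rw [← SetLike.coe_sort_coe, hset, Nat.card_coe_set_eq,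
    Set.ncard_range_of_injective (L.quartet_inj X), Nat.card_fin]

theorem card_K (X : Ctx D) {t : Tet D z} (L : At D z t) :
    Nat.card (M24.Triple.K L.a L.b L.c) = 4 * 9196830720 := by
  obtain ⟨F, i1, i2, hF, ⟨φ⟩⟩ := M24.Triple.quotient_iso X.grp (base X) X.prim (rel7 X) X.typ.1
    L.q.tri (sgn X)
  rw [Subgroup.card_eq_card_quotient_mul_card_subgroup (Subgroup.center ↥(M24.Triple.K L.a L.b L.c)),
    Nat.card_congr φ.toEquiv, M22Prime.natCard_PSU (F := F) hF,
    ← Subgroup.card_map_of_injective (M24.Triple.K L.a L.b L.c).subtype_injective,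
    M24.Triple.center_map X.grp (base X) X.prim (rel7 X) X.typ.1 L.q.tri (sgn X),
    card_closure_two X L, mul_comm]

/-- The elements fixing the four members. -/
theorem card_fix (X : Ctx D) {t : Tet D z} (L : At D z t) : Nat.card L.Fix = 53084160 := by
  classical
  have T := L.q.tri
  obtain ⟨K, hK⟩ : ∃ K, K = M24.Triple.K L.a L.b L.c := ⟨_, rfl⟩
  have hfix : ∀ g : K, ∀ {x}, x ∈ N3 D L.a L.b L.c → (g : G) * x * (g : G)⁻¹ ∈ N3 D L.a L.b L.c := by
    intro g x hx
    have hg : (g : G) ∈ M24.Triple.K L.a L.b L.c := hK ▸ g.2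
    obtain ⟨ea, eb, ec⟩ := comm_K hg
    have := (N3_conj X g L.a L.b L.c x).1 hx
    rwa [ea, eb, ec] at this
  letI : MulAction K ↥(N3 D L.a L.b L.c) :=
    { smul := fun g x => ⟨(g : G) * x.1 * (g : G)⁻¹, hfix g x.2⟩
      one_smul := fun x => Subtype.ext (by
        show ((1 : K) : G) * x.1 * ((1 : K) : G)⁻¹ = x.1
        simp)
      mul_smul := fun g h x => Subtype.ext (by
        show ((g * h : K) : G) * x.1 * ((g * h : K) : G)⁻¹ =
          (g : G) * ((h : G) * x.1 * (h : G)⁻¹) * (g : G)⁻¹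
        simp only [Subgroup.coe_mul]; group) }
  have hdN : L.d ∈ N3 D L.a L.b L.c := ⟨⟨L.q.hd, L.q.hdb⟩, L.q.hdc⟩
  haveI : MulAction.IsPretransitive K ↥(N3 D L.a L.b L.c) := ⟨fun x y => by
    obtain ⟨g, hg, e⟩ := trans_N3 X T x.2 y.2
    exact ⟨⟨g, hK ▸ hg⟩, Subtype.ext e⟩⟩
  have h693 : (MulAction.stabilizer K (⟨L.d, hdN⟩ : ↥(N3 D L.a L.b L.c))).index = 693 := by
    rw [MulAction.index_stabilizer_of_transitive, Nat.card_coe_set_eq, ncard_N3 X T]
  have hmul := (MulAction.stabilizer K (⟨L.d, hdN⟩ : ↥(N3 D L.a L.b L.c))).card_mul_index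
  rw [h693, show Nat.card K = 4 * 9196830720 from hK ▸ card_K X L] at hmul
  have hmap : (MulAction.stabilizer K (⟨L.d, hdN⟩ : ↥(N3 D L.a L.b L.c))).map K.subtype = L.Fix := by
    ext g
    simp only [Subgroup.mem_map, MulAction.mem_stabilizer_iff, At.Fix, Subgroup.mem_inf,
      Subgroup.mem_centralizer_iff, Set.mem_insert_iff, Set.mem_singleton_iff, forall_eq_or_imp,
      forall_eq]
    constructor
    · rintro ⟨g, hg, rfl⟩
      have hd : (g : G) * L.d * (g : G)⁻¹ = L.d := congrArg Subtype.val hg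
      obtain ⟨h0, h1, h2, h3⟩ := M24.Triple.mem_K.1 (hK ▸ g.2 : (g : G) ∈ M24.Triple.K L.a L.b L.c)
      exact ⟨h0, h1.eq, h2.eq, h3.eq, (mul_inv_eq_iff_eq_mul.1 hd).symm⟩
    · rintro ⟨h0, h1, h2, h3, h4⟩
      exact ⟨⟨g, hK ▸ M24.Triple.mem_K.2 ⟨h0, h1, h2, h3⟩⟩,
        Subtype.ext (mul_inv_eq_iff_eq_mul.2 h4.symm), rfl⟩
  rw [← hmap, Subgroup.card_map_of_injective K.subtype_injective]
  omega

/-- The members of a tetrad. -/
abbrev Mem {D : Set G} {z : G} (t : Tet D z) : Type u := {x : G // x ∈ t.1}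

/-- The elements fixing a tetrad. -/
def St (X : Ctx D) (t : Tet D z) : Subgroup ↥(CC z) where
  carrier := {g | Φ X g t = t}
  mul_mem' {g h} hg hh := by
    show Φ X (g * h) t = t
    rw [map_mul, Equiv.Perm.mul_apply, hh, hg]
  one_mem' := by show Φ X 1 t = t; rw [map_one, Equiv.Perm.one_apply]
  inv_mem' {g} hg := by
    show Φ X g⁻¹ t = t
    rw [map_inv, Equiv.Perm.inv_eq_iff_eq]
    exact hg.symm

theorem mem_St (X : Ctx D) {t : Tet D z} {g : ↥(CC z)} : g ∈ St X t ↔ Φ X g t = t := Iff.rfl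

/-- The action on the members of a fixed tetrad. -/
def π (X : Ctx D) (t : Tet D z) : ↥(St X t) →* Equiv.Perm (Mem t) where
  toFun g :=
    { toFun := fun x => ⟨(g.1 : G) * x.1 * (g.1 : G)⁻¹,
        by have h := Φ_mem X g.1 x.2; rw [(mem_St X).1 g.2] at h; exact h⟩
      invFun := fun x => ⟨((g⁻¹).1 : G) * x.1 * ((g⁻¹).1 : G)⁻¹,
        by have h := Φ_mem X (g⁻¹).1 x.2; rw [(mem_St X).1 (g⁻¹).2] at h; exact h⟩
      left_inv := fun x => Subtype.ext (by simp only [Subgroup.coe_inv]; group)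
      right_inv := fun x => Subtype.ext (by simp only [Subgroup.coe_inv]; group) }
  map_one' := Equiv.ext fun x => Subtype.ext (by simp)
  map_mul' g h := Equiv.ext fun x => Subtype.ext (by
    simp only [Equiv.coe_fn_mk, Equiv.Perm.mul_apply, Subgroup.coe_mul]; group)

theorem π_apply (X : Ctx D) {t : Tet D z} (g : ↥(St X t)) (x : Mem t) :
    (π X t g x).1 = (g.1 : G) * x.1 * (g.1 : G)⁻¹ := rfl

theorem exists_pair_quad (t : Tet D z) {x y : G} (hx : x ∈ t.1) (hy : y ∈ t.1) (hne : x ≠ y) :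
    ∃ c d, Quad D z x y c d ∧ t.1 = {x, y, c, d} := by
  obtain ⟨b, c, d, q, e⟩ := t.exists_quad hx
  have hy' := hy
  rw [e] at hy'
  rcases hy' with rfl | rfl | rfl | rfl
  · exact absurd rfl hne
  · exact ⟨c, d, q, e⟩
  · exact ⟨b, d, q.swap', by rw [e]; ext; simp; tauto⟩
  · exact ⟨b, c, q.swap''.swap', by rw [e]; ext; simp; tauto⟩

theorem exists_swap (X : Ctx D) {t : Tet D z} {a b c d : G} (q : Quad D z a b c d)
    (e : t.1 = {a, b, c, d}) :
    ∃ g : ↥(St X t), (g.1 : G) * a * (g.1 : G)⁻¹ = b ∧ (g.1 : G) * b * (g.1 : G)⁻¹ = a ∧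
      (g.1 : G) * c * (g.1 : G)⁻¹ = c ∧ (g.1 : G) * d * (g.1 : G)⁻¹ = d := by
  obtain ⟨g, hg, h1, h2, h3, h4⟩ := exists_map X q q.swap
  refine ⟨⟨⟨g, hg⟩, ?_⟩, h1, h2, h3, h4⟩
  have ha : a ∈ t.1 := by rw [e]; simp
  exact Φ_eq_of_mem X _ ha (by
    show g * a * g⁻¹ ∈ t.1
    rw [h1, e]; simp)

theorem π_surjective (X : Ctx D) (t : Tet D z) : Function.Surjective (π X t) := by
  classical
  rw [← MonoidHom.range_eq_top, ← top_le_iff, ← Equiv.Perm.closure_isSwap, Subgroup.closure_le]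
  rintro _ ⟨x, y, hne, rfl⟩
  obtain ⟨c, d, q, e⟩ := exists_pair_quad t x.2 y.2 fun h => hne (Subtype.ext h)
  obtain ⟨g, h1, h2, h3, h4⟩ := exists_swap X q e
  refine ⟨g, Equiv.ext fun w => ?_⟩
  have hw : w.1 ∈ ({x.1, y.1, c, d} : Set G) := (Set.ext_iff.1 e w.1).1 w.2
  rcases hw with hw | hw | hw | hw
  · rw [show w = x from Subtype.ext hw, Equiv.swap_apply_left]
    exact Subtype.ext h1
  · rw [show w = y from Subtype.ext hw, Equiv.swap_apply_right]
    exact Subtype.ext h2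
  · rw [Equiv.swap_apply_of_ne_of_ne (fun h => q.tri.hc.2.1 (hw.symm.trans (congrArg Subtype.val h)))
      (fun h => q.tri.hbc.2.1 (hw.symm.trans (congrArg Subtype.val h)))]
    exact Subtype.ext (by rw [π_apply, hw]; exact h3)
  · rw [Set.mem_singleton_iff] at hw
    rw [Equiv.swap_apply_of_ne_of_ne (fun h => q.hd.2.1 (hw.symm.trans (congrArg Subtype.val h)))
      (fun h => q.hdb.2.1 (hw.symm.trans (congrArg Subtype.val h)))]
    exact Subtype.ext (by rw [π_apply, hw]; exact h4)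

theorem card_mem (t : Tet D z) : Nat.card (Mem t) = 4 := by
  rw [show Mem t = ↥(t.1 : Set G) from rfl, Nat.card_coe_set_eq, t.ncard]

theorem π_eq_one (X : Ctx D) {t : Tet D z} (L : At D z t) (g : ↥(St X t)) :
    π X t g = 1 ↔ (g.1 : G) ∈ L.Fix := by
  simp only [At.Fix, Subgroup.mem_inf, Subgroup.mem_centralizer_iff]
  constructor
  · refine fun h => ⟨g.1.2.1, fun x hx => ?_⟩
    have hx' : x ∈ t.1 := by rw [L.eq]; exact hx
    have := congrArg Subtype.val (congrArg (fun f : Equiv.Perm (Mem t) => f ⟨x, hx'⟩) h)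
    exact (mul_inv_eq_iff_eq_mul.1 this).symm
  · refine fun h => Equiv.ext fun x => Subtype.ext ?_
    have hx : x.1 ∈ ({L.a, L.b, L.c, L.d} : Set G) := (Set.ext_iff.1 L.eq x.1).1 x.2
    rw [π_apply, ← h.2 _ hx, mul_inv_cancel_right]
    rfl

theorem ker_π (X : Ctx D) {t : Tet D z} (L : At D z t) :
    Nat.card (π X t).ker = 53084160 := by
  have hinj : Function.Injective ⇑((CC z).subtype.comp (St X t).subtype) :=
    (CC z).subtype_injective.comp (St X t).subtype_injective
  rw [← card_fix X L, ← Subgroup.card_map_of_injective hinj (K := (π X t).ker)]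
  congr 2
  ext g
  rw [Subgroup.mem_map]
  constructor
  · rintro ⟨h, hh, rfl⟩
    exact (π_eq_one X L h).1 (MonoidHom.mem_ker.1 hh)
  · intro hg
    have hc : ∀ x ∈ ({L.a, L.b, L.c, L.d} : Set G), Commute x g :=
      Subgroup.mem_centralizer_iff.1 hg.2
    have hz : g ∈ Cz z := mem_Cz.2 (by
      rw [← L.q.prod]
      exact ((((hc _ (by simp)).symm.mul_right (hc _ (by simp)).symm).mul_right
        (hc _ (by simp)).symm).mul_right (hc _ (by simp)).symm))
    have hst : (⟨g, ⟨hg.1, hz⟩⟩ : ↥(CC z)) ∈ St X t :=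
      Φ_eq_of_mem X _ (L.tet_mem (Or.inl rfl)) (by
        show g * L.a * g⁻¹ ∈ t.1
        rw [mul_inv_eq_iff_eq_mul.2 (hc L.a (Set.mem_insert _ _)).symm.eq]
        exact L.tet_mem (Or.inl rfl))
    exact ⟨⟨_, hst⟩, MonoidHom.mem_ker.2 ((π_eq_one X L ⟨_, hst⟩).2 hg), rfl⟩

theorem card_St (X : Ctx D) {t : Tet D z} (L : At D z t) :
    Nat.card (St X t) = 24 * 53084160 := by
  rw [Subgroup.card_eq_card_quotient_mul_card_subgroup (π X t).ker, ker_π X L,
    Nat.card_congr (QuotientGroup.quotientKerEquivOfSurjective _ (π_surjective X t)).toEquiv,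
    Nat.card_perm, card_mem]
  rfl

theorem Φ_transitive (X : Ctx D) (s t : Tet D z) : ∃ g : ↥(CC z), Φ X g s = t := by
  obtain ⟨L⟩ := exists_at X s
  obtain ⟨L'⟩ := exists_at X t
  obtain ⟨g, hg, h1, -, -, -⟩ := exists_map X L.q L'.q
  exact ⟨⟨g, hg⟩, Φ_eq_of_mem X _ (L.tet_mem (Or.inl rfl))
    (by show g * L.a * g⁻¹ ∈ t.1; rw [h1]; exact L'.tet_mem (Or.inl rfl))⟩

theorem card_CC (X : Ctx D) {t : Tet D z} (L : At D z t) :
    Nat.card (CC z) = 126 * (24 * 53084160) := by
  letI : MulAction ↥(CC z) (Tet D z) := MulAction.compHom _ (Φ X)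
  haveI : MulAction.IsPretransitive ↥(CC z) (Tet D z) := ⟨Φ_transitive X⟩
  have h := (MulAction.stabilizer ↥(CC z) t).card_mul_index
  rw [MulAction.index_stabilizer_of_transitive, card_tet X t,
    show MulAction.stabilizer ↥(CC z) t = St X t from rfl, card_St X L, mul_comm] at h
  exact h.symm

/-- The image of the unitary group. -/
def MI (X : Ctx D) (e : Fin 126 ≃ Tet D z) : Subgroup (Equiv.Perm (Tet D z)) :=
  Model.M0.map e.permCongrHom.toMonoidHom

theorem card_MI (X : Ctx D) (e : Fin 126 ≃ Tet D z) : Nat.card (MI X e) = 3265920 := by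
  rw [MI, Subgroup.card_map_of_injective e.permCongrHom.injective, Model.card_M0]

theorem prod_mem (X : Ctx D) : ∀ l : List (Tet D z), ∃ g : ↥(Cz z), act X g = (l.map (rr X)).prod ∧
    ∀ a ∈ D, (Even l.length → (g : G) ∈ commutator G) ∧
      (¬Even l.length → (g : G) * a ∈ commutator G)
  | [] => ⟨1, by simp, fun a _ => ⟨fun _ => one_mem _, fun h => absurd (by simp) h⟩⟩
  | s :: l => by
    obtain ⟨g, hg, hpar⟩ := prod_mem X l
    obtain ⟨x, hx⟩ := s.nonempty
    refine ⟨el hx * g, by rw [map_mul, rr_eq X hx, hg, List.map_cons, List.prod_cons],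
      fun a ha => ?_⟩
    obtain ⟨he, ho⟩ := hpar a ha
    have hxa : x * a ∈ commutator G :=
      (M24.Triple.mem_or X.grp X.prim ha x).resolve_left (sgn X x (s.memD hx))
    have hn : (commutator G).Normal := inferInstance
    have cj : ∀ w ∈ commutator G, a * w * a ∈ commutator G := fun w hw => by
      have := hn.conj_mem w hw a
      rwa [inv X ha] at this
    simp only [Subgroup.coe_mul, List.length_cons, Nat.even_add_one, not_not]
    constructor
    · intro h
      have e : x * (g : G) = x * a * (a * ((g : G) * a) * a) := by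
        simp only [mul_assoc]
        rw [sq X ha, mul_one, ← mul_assoc a a, sq X ha, one_mul]
      rw [e]
      exact mul_mem hxa (cj _ (ho h))
    · intro h
      have e : x * (g : G) * a = x * a * (a * (g : G) * a) := by
        simp only [mul_assoc]
        rw [← mul_assoc a a, sq X ha, one_mul]
      rw [e]
      exact mul_mem hxa (cj _ (he h))

theorem MI_le (X : Ctx D) (e : Fin 126 ≃ Tet D z)
    (hconj : ∀ i j, rr X (e i) (e j) = e (perm i j)) : MI X e ≤ (Φ X).range := by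
  have hrp : ∀ i, e.permCongrHom (rp i) = rr X (e i) := fun i => Equiv.ext fun u => by
    obtain ⟨j, rfl⟩ := e.surjective u
    rw [hconj]
    simp [Model.rp_apply]
  rw [MI, Model.M0, MonoidHom.map_closure, Subgroup.closure_le]
  rintro _ ⟨_, ⟨k, rfl⟩, rfl⟩
  obtain ⟨l, hl, hlen⟩ : ∃ l : List (Tet D z),
      e.permCongrHom (Model.gP k) = (l.map (rr X)).prod ∧
        l.length = (Model.genWords.getD k.val []).length := by
    refine ⟨(Model.genWords.getD k.val []).map fun n => e (Model.mkP n), ?_, List.length_map ..⟩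
    rw [Model.gP, map_list_prod, List.map_map, List.map_map]
    congr 1
    exact List.map_congr_left fun n _ => hrp _
  obtain ⟨g, hg, hpar⟩ := prod_mem X l
  obtain ⟨a, ha⟩ : ∃ a, a ∈ D := by
    obtain ⟨x, hx⟩ := (e P0).nonempty
    exact ⟨x, (e P0).memD hx⟩
  exact ⟨⟨g, (hpar a ha).1 (hlen ▸ Model.genWords_even k), g.2⟩, hg.trans hl.symm⟩

theorem swap_not_MI (X : Ctx D) {t : Tet D z} (L : At D z t) (e : Fin 126 ≃ Tet D z)
    (he0 : e P0 = t) (hθ : ∀ i, Near P0 i → e i = L.θ X i) :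
    ∃ g : ↥(CC z), Φ X g ∉ MI X e := by
  obtain ⟨g, h1, h2, h3, h4⟩ := exists_swap X L.q L.eq
  refine ⟨g.1, fun h => ?_⟩
  obtain ⟨m, hm, hme⟩ := h
  refine L.swap_outer X g.1 h1 h2 h3 h4 e he0 hθ hm fun i => ?_
  rw [← hme]
  simp

/-- The kernel on a tetrad is alternating of degree four. -/
theorem image_kernel (X : Ctx D) {t : Tet D z} (L : At D z t) (e : Fin 126 ≃ Tet D z)
    (he0 : e P0 = t) (hθ : ∀ i, Near P0 i → e i = L.θ X i)
    (hconj : ∀ i j, rr X (e i) (e j) = e (perm i j)) :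
    Nat.card (((Φ X).ker.subgroupOf (St X t)).map (π X t)) = 12 := by
  classical
  haveI := Fintype.ofFinite (Mem t)
  obtain ⟨I, hI⟩ : ∃ I, I = ((Φ X).ker.subgroupOf (St X t)).map (π X t) := ⟨_, rfl⟩
  rw [← hI]
  haveI hn : I.Normal := hI ▸ Subgroup.Normal.map inferInstance _ (π_surjective X t)
  obtain ⟨g, hg, g1, g2, g3, g4⟩ := L.exists_three_cycle X e he0 hθ hconj
  have hgSt : g ∈ St X t := by rw [mem_St, hg, Equiv.Perm.one_apply]
  have hmem : π X t ⟨g, hgSt⟩ ∈ I := hI ▸ ⟨⟨g, hgSt⟩, MonoidHom.mem_ker.2 hg, rfl⟩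
  have q := L.q
  let ma : Mem t := ⟨L.a, L.tet_mem (Or.inl rfl)⟩
  let mb : Mem t := ⟨L.b, L.tet_mem (Or.inr (Or.inl rfl))⟩
  let mc : Mem t := ⟨L.c, L.tet_mem (Or.inr (Or.inr (Or.inl rfl)))⟩
  have nab : ma ≠ mb := fun h => q.tri.hb.2.1 (congrArg Subtype.val h).symm
  have nac : ma ≠ mc := fun h => q.tri.hc.2.1 (congrArg Subtype.val h).symm
  have nbc : mb ≠ mc := fun h => q.tri.hbc.2.1 (congrArg Subtype.val h).symm
  have hcyc : π X t ⟨g, hgSt⟩ = Equiv.swap ma mb * Equiv.swap mb mc := by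
    refine Equiv.ext fun w => Subtype.ext ?_
    have hw : w.1 ∈ ({L.a, L.b, L.c, L.d} : Set G) := (Set.ext_iff.1 L.eq w.1).1 w.2
    rw [π_apply]
    rcases hw with hw | hw | hw | hw
    · rw [hw, g1, Equiv.Perm.mul_apply, show w = ma from Subtype.ext hw,
        Equiv.swap_apply_of_ne_of_ne nab nac, Equiv.swap_apply_left]
    · rw [hw, g2, Equiv.Perm.mul_apply, show w = mb from Subtype.ext hw, Equiv.swap_apply_left,
        Equiv.swap_apply_of_ne_of_ne nac.symm nbc.symm]
    · rw [hw, g3, Equiv.Perm.mul_apply, show w = mc from Subtype.ext hw, Equiv.swap_apply_right,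
        Equiv.swap_apply_right]
    · rw [Set.mem_singleton_iff] at hw
      have wb : w ≠ mb := fun h => q.hdb.2.1 (hw.symm.trans (congrArg Subtype.val h))
      have wc : w ≠ mc := fun h => q.hdc.2.1 (hw.symm.trans (congrArg Subtype.val h))
      have wa : w ≠ ma := fun h => q.hd.2.1 (hw.symm.trans (congrArg Subtype.val h))
      rw [hw, g4, Equiv.Perm.mul_apply, Equiv.swap_apply_of_ne_of_ne wb wc,
        Equiv.swap_apply_of_ne_of_ne wa wb, ← hw]
  have h3c : (π X t ⟨g, hgSt⟩).IsThreeCycle := by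
    rw [hcyc, Equiv.swap_comm ma mb]
    exact Equiv.Perm.isThreeCycle_swap_mul_swap_same nab.symm nbc nac
  have hle : alternatingGroup (Mem t) ≤ I := by
    rw [← Equiv.Perm.closure_three_cycles_eq_alternating, Subgroup.closure_le]
    intro σ hσ
    obtain ⟨c, hc⟩ := isConj_iff.1 (Equiv.Perm.isConj_iff_cycleType_eq.2
      (h3c.cycleType.trans (Equiv.Perm.IsThreeCycle.cycleType hσ).symm))
    exact hc ▸ hn.conj_mem _ hmem c
  have hne : I ≠ ⊤ := by
    intro h
    have hsw : Equiv.swap ma mb ∈ I := h ▸ Subgroup.mem_top _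
    rw [hI] at hsw
    obtain ⟨k, hk, hke⟩ := hsw
    have ev : ∀ w : Mem t, (k.1 : G) * w.1 * (k.1 : G)⁻¹ = (Equiv.swap ma mb w).1 := fun w => by
      rw [← hke]; rfl
    let md : Mem t := ⟨L.d, L.tet_mem (Or.inr (Or.inr (Or.inr rfl)))⟩
    have d1 : md ≠ ma := fun h => q.hd.2.1 (congrArg Subtype.val h)
    have d2 : md ≠ mb := fun h => q.hdb.2.1 (congrArg Subtype.val h)
    exact L.no_swap_fixing X k.1
      (by rw [ev ma, Equiv.swap_apply_left]) (by rw [ev mb, Equiv.swap_apply_right])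
      (by rw [ev mc, Equiv.swap_apply_of_ne_of_ne nac.symm nbc.symm])
      (by rw [ev md, Equiv.swap_apply_of_ne_of_ne d1 d2])
      fun u _ => by
        rw [MonoidHom.mem_ker.1 (Subgroup.mem_subgroupOf.1 hk), Equiv.Perm.one_apply]
  haveI : Nontrivial (Mem t) := ⟨⟨ma, mb, nab⟩⟩
  have hA : alternatingGroup (Mem t) = I := by
    refine Subgroup.eq_of_le_of_card_ge hle ?_
    rw [nat_card_alternatingGroup, card_mem t]
    have hidx : I.index ≠ 1 := fun h => hne (Subgroup.index_eq_one.1 h)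
    have h24 := I.card_mul_index
    rw [Nat.card_perm, card_mem t] at h24
    have h0 : I.index ≠ 0 := Subgroup.index_ne_zero_of_finite
    have := Nat.mul_le_mul_left (Nat.card I) (show 2 ≤ I.index by omega)
    have f4 : Nat.factorial 4 = 24 := rfl
    rw [f4] at h24 ⊢
    omega
  rw [← hA]
  rw [nat_card_alternatingGroup, card_mem t]
  rfl

/-- The data of the action. -/
theorem kernel_image (X : Ctx D) {t : Tet D z} (L : At D z t) (e : Fin 126 ≃ Tet D z)
    (he0 : e P0 = t) (hθ : ∀ i, Near P0 i → e i = L.θ X i)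
    (hconj : ∀ i j, rr X (e i) (e j) = e (perm i j)) :
    Nat.card (Φ (z := z) X).ker = 3 * 2 ^ 13 ∧ Nat.card (Φ (z := z) X).range = 2 * 3265920 := by
  classical
  have hNSt : (Φ X).ker ≤ St X t := fun g hg => by
    rw [mem_St, MonoidHom.mem_ker.1 hg, Equiv.Perm.one_apply]
  obtain ⟨ψ, hψ⟩ : ∃ ψ, ψ = (π X t).comp (Subgroup.inclusion hNSt) := ⟨_, rfl⟩
  have hrange : Nat.card ψ.range = 12 := by
    rw [← image_kernel X L e he0 hθ hconj]
    congr 2
    ext σ
    simp only [MonoidHom.mem_range, Subgroup.mem_map, Subgroup.mem_subgroupOf, hψ,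
      MonoidHom.comp_apply]
    exact ⟨fun ⟨g, hg⟩ => ⟨Subgroup.inclusion hNSt g, g.2, hg⟩,
      fun ⟨g, hg, e⟩ => ⟨⟨g.1, hg⟩, e⟩⟩
  -- the part fixing the four members
  obtain ⟨R, hR⟩ : ∃ R : Subgroup G, R = ψ.ker.map ((CC z).subtype.comp (Φ X).ker.subtype) :=
    ⟨_, rfl⟩
  have hRc : Nat.card R = Nat.card ψ.ker := by
    have hinj : Function.Injective ⇑((CC z).subtype.comp (Φ X).ker.subtype) :=
      (CC z).subtype_injective.comp (Φ X).ker.subtype_injective
    rw [hR, Subgroup.card_map_of_injective hinj]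
  have hmemR : ∀ {s : Tet D z} {x y : G}, x ∈ s.1 → y ∈ s.1 →
      (∀ w ∈ t.1, Commute x w) → (∀ w ∈ t.1, Commute y w) → x * y ∈ R := by
    intro s x y hx hy cx cy
    rw [hR]
    refine ⟨⟨⟨x * y, pair_mem X hx hy⟩, pair_trivial X hx hy⟩, ?_, rfl⟩
    rw [hψ]
    refine MonoidHom.mem_ker.2 (Equiv.ext fun w => Subtype.ext ?_)
    exact mul_inv_eq_iff_eq_mul.2 ((cx _ w.2).mul_left (cy _ w.2)).eq
  have hle : 2048 ≤ Nat.card R := by
    refine L.le_card X R (fun i hi x hx y hy => hmemR hx hy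
      (fun w hw => ((L.adj_θ X hi).2 w hw x hx).symm) fun w hw => ((L.adj_θ X hi).2 w hw y hy).symm) ?_
    intro k
    have ct : ∀ x ∈ t.1, ∀ w ∈ t.1, Commute x w := fun x hx w hw => t.commute hx hw
    have ma := L.tet_mem (x := L.a) (Or.inl rfl)
    have mb := L.tet_mem (x := L.b) (Or.inr (Or.inl rfl))
    have mc := L.tet_mem (x := L.c) (Or.inr (Or.inr (Or.inl rfl)))
    fin_cases k
    · exact one_mem R
    · exact hmemR ma mb (ct _ ma) (ct _ mb)
    · exact hmemR ma mc (ct _ ma) (ct _ mc)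
    · exact hmemR mb mc (ct _ mb) (ct _ mc)
  have hN := Subgroup.card_eq_card_quotient_mul_card_subgroup ψ.ker
  rw [Nat.card_congr (QuotientGroup.quotientKerEquivRange ψ).toEquiv, hrange, ← hRc] at hN
  have hC := Subgroup.card_eq_card_quotient_mul_card_subgroup (Φ (z := z) X).ker
  rw [Nat.card_congr (QuotientGroup.quotientKerEquivRange (Φ (z := z) X)).toEquiv, card_CC X L, hN] at hC
  obtain ⟨m, hm⟩ := Subgroup.card_dvd_of_le (MI_le X e hconj)
  rw [card_MI X e] at hm
  have hm2 : 2 ≤ m := by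
    rcases Nat.lt_or_ge m 2 with h | h
    · exfalso
      obtain ⟨g, hg⟩ := swap_not_MI X L e he0 hθ
      refine hg ((Subgroup.eq_of_le_of_card_ge (MI_le X e hconj) ?_).ge ⟨g, rfl⟩)
      rw [card_MI X e, hm]
      calc 3265920 * m ≤ 3265920 * 1 := Nat.mul_le_mul_left _ (by omega)
        _ = 3265920 := mul_one _
    · exact h
  rw [hm] at hC
  have h4096 : m * Nat.card R = 4096 := by
    have h' : 126 * (24 * 53084160) = 39191040 * (m * Nat.card R) := by rw [hC]; ring
    omega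
  obtain ⟨rfl, hR2⟩ : m = 2 ∧ Nat.card R = 2048 := by
    have h1 := Nat.mul_le_mul hm2 hle
    have h2 : m * 2048 ≤ m * Nat.card R := Nat.mul_le_mul_left _ hle
    have h3 : 2 * Nat.card R ≤ m * Nat.card R := Nat.mul_le_mul_right _ hm2
    omega
  exact ⟨by rw [hN, hR2]; norm_num, by rw [hm]⟩

end Cfsg.Agent.ThreeTransp.M24Four
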