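import Cfsg.Agent.Lib.ThreeTransp.M24Four.Frames
import Cfsg.Agent.Lib.ThreeTransp.M24Four.CertCheck

/-!
In a group of type M(24): a tetrad whose neighbours next to a given tetrad are the standard ones.
-/

set_option autoImplicit false
set_option linter.unusedSectionVars false
set_option maxRecDepth 10000

noncomputable section

namespace Cfsg.Agent.ThreeTransp.M24Four

open Cfsg.Agent.ThreeTransp
open Model (perm permN P0 Near)
open Cert (ptsF wordN setWords X0 lines)

universe u

variable {G : Type u} [Group G] [Finite G] {D : Set G} {z : G}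

theorem Adj.rr_map (X : Ctx D) {s v : Tet D z} (h : Adj s v) (x : Tet D z) :
    Adj (rr X x s) (rr X x v) := act_adj X _ h

theorem rr_map_adj_iff (X : Ctx D) {s v : Tet D z} (x : Tet D z) :
    Adj (rr X x s) (rr X x v) ↔ Adj s v :=
  ⟨fun h => by simpa only [rr_rr] using h.rr_map X x, fun h => h.rr_map X x⟩

theorem perm_val (i j : Fin 126) : (perm i j).val = permN i.val j.val :=
  Nat.mod_eq_of_lt (Cert.permN_lt i j)

/-- A point of the table from a number. -/
def toP (n : ℕ) : Fin 126 := ⟨n % 126, Nat.mod_lt _ (by norm_num)⟩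

theorem toP_val (i : Fin 126) : toP i.val = i := Fin.ext (Nat.mod_eq_of_lt i.isLt)

namespace At

variable {t : Tet D z} (L : At D z t)

/-- A point far from the tetrad. -/
def Far (t u : Tet D z) : Prop := u ≠ t ∧ ¬Adj t u

theorem isFrame_of_line (X : Ctx D) {l : List (Fin 126)} (hn : l.Nodup) (h5 : l.length = 5)
    (hN : ∀ i ∈ l, Near P0 i) (hA : ∀ i ∈ l, ∀ j ∈ l, i ≠ j → Near i j) :
    IsFrame D z (t :: l.map (L.θ X)) := by
  refine ⟨List.nodup_cons.2 ⟨?_, ?_⟩, by simp [h5], ?_⟩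
  · intro h
    obtain ⟨i, hi, e⟩ := List.mem_map.1 h
    exact (L.adj_θ X (hN i hi)).1 e.symm
  · exact hn.map_on fun i hi j hj e => L.θ_inj X (hN i hi) (hN j hj) e
  · intro x hx y hy hxy
    rcases List.mem_cons.1 hx with rfl | hx <;> rcases List.mem_cons.1 hy with rfl | hy
    · exact absurd rfl hxy
    · obtain ⟨j, hj, rfl⟩ := List.mem_map.1 hy
      exact L.adj_θ X (hN j hj)
    · obtain ⟨i, hi, rfl⟩ := List.mem_map.1 hx
      exact (L.adj_θ X (hN i hi)).symm
    · obtain ⟨i, hi, rfl⟩ := List.mem_map.1 hx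
      obtain ⟨j, hj, rfl⟩ := List.mem_map.1 hy
      exact (L.θ_adj X (hN i hi) (hN j hj)).2 (hA i hi j hj fun e => hxy (by rw [e]))

theorem line_props {l : List ℕ} (hl : l ∈ lines) :
    (l.map toP).Nodup ∧ (l.map toP).length = 5 ∧ (∀ i ∈ l.map toP, Near P0 i) ∧
      ∀ i ∈ l.map toP, ∀ j ∈ l.map toP, i ≠ j → Near i j := by
  obtain ⟨hn, h5, hlt⟩ := Cert.lines_ok l hl
  have hv : ∀ {x}, x ∈ l → (toP x).val = x := fun {x} hx => Nat.mod_eq_of_lt (hlt x hx)
  refine ⟨hn.map_on fun x hx y hy e => by rw [← hv hx, ← hv hy, e], by simp [h5], ?_, ?_⟩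
  · intro i hi
    obtain ⟨x, hx, rfl⟩ := List.mem_map.1 hi
    exact (Cert.lines_near l hl x hx x hx _ _ (hv hx) (hv hx)).1
  · intro i hi j hj
    obtain ⟨x, hx, rfl⟩ := List.mem_map.1 hi
    obtain ⟨y, hy, rfl⟩ := List.mem_map.1 hj
    exact (Cert.lines_near l hl x hx y hy _ _ (hv hx) (hv hy)).2

theorem line_frame (X : Ctx D) {l : List ℕ} (hl : l ∈ lines) :
    IsFrame D z (t :: (l.map toP).map (L.θ X)) := by
  obtain ⟨h1, h2, h3, h4⟩ := line_props hl
  exact L.isFrame_of_line X h1 h2 h3 h4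

/-- The numbers of the neighbours next to a tetrad. -/
def nbs (X : Ctx D) (u : Tet D z) (n : ℕ) : Prop :=
  ∃ h : n < 126, Near P0 ⟨n, h⟩ ∧ Adj u (L.θ X ⟨n, h⟩)

theorem nbs_iff (X : Ctx D) (u : Tet D z) {i : Fin 126} (hi : Near P0 i) :
    L.nbs X u i.val ↔ Adj u (L.θ X i) :=
  ⟨fun ⟨_, _, h⟩ => h, fun h => ⟨i.isLt, hi, h⟩⟩

theorem nbs_line (X : Ctx D) {u : Tet D z} (hu : Far t u) {l : List ℕ} (hl : l ∈ lines)
    [DecidablePred (L.nbs X u)] : (l.filter fun n => decide (L.nbs X u n)).length = 2 := by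
  classical
  obtain ⟨hn, hlen, hN, -⟩ := line_props hl
  have hF := L.line_frame X hl
  have hnot : u ∉ t :: (l.map toP).map (L.θ X) := by
    intro h
    rcases List.mem_cons.1 h with e | h
    · exact hu.1 e
    · obtain ⟨i, hi, rfl⟩ := List.mem_map.1 h
      exact hu.2 (L.adj_θ X (hN i hi))
  have h2 := frame_count X hF hnot
  rw [show {v | v ∈ t :: (l.map toP).map (L.θ X) ∧ Adj u v} =
      ↑((t :: (l.map toP).map (L.θ X)).filter fun v => decide (Adj u v)).toFinset by
      ext v; simp, Set.ncard_coe_finset, List.toFinset_card_of_nodup (hF.nodup.filter _),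
    List.filter_cons_of_neg (by simpa using fun h => hu.2 (Adj.symm h)), List.filter_map,
    List.filter_map, List.length_map, List.length_map] at h2
  rw [← h2]
  congr 1
  refine List.filter_congr fun n hn' => ?_
  simp only [Function.comp_apply, decide_eq_decide]
  have hlt := (Cert.lines_ok l hl).2.2 n hn'
  have hv : (toP n).val = n := Nat.mod_eq_of_lt hlt
  have := L.nbs_iff X u (hN (toP n) (List.mem_map.2 ⟨n, hn', rfl⟩))
  rwa [hv] at this

theorem nbs_closed (X : Ctx D) (u : Tet D z) {a b : ℕ} (ha : L.nbs X u a) (hb : L.nbs X u b) :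
    L.nbs X u (permN a b) := by
  obtain ⟨ha', na, aa⟩ := ha
  obtain ⟨hb', nb', ab⟩ := hb
  have hk := Model.near_closed _ _ na nb'
  have := (L.nbs_iff X u hk).2 (by
    have h := ab.rr_map X (L.θ X ⟨a, ha'⟩)
    rwa [rr_adj X aa.symm, L.θ_conj X na nb'] at h)
  rwa [perm_val] at this

/-- The tetrads along a word. -/
def moveW (X : Ctx D) (w : List ℕ) (u : Tet D z) : Tet D z :=
  w.foldl (fun p s => rr X (L.θ X (ptsF s)) p) u

/-- The points along a word. -/
def wordP (w : List ℕ) (i : Fin 126) : Fin 126 := w.foldl (fun p s => perm (ptsF s) p) i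

theorem wordP_val : ∀ (w : List ℕ), (∀ s ∈ w, s < 5) → ∀ i : Fin 126,
    (wordP w i).val = wordN w i.val
  | [], _, _ => rfl
  | s :: w, hw, i => by
    show (wordP w (perm (ptsF s) i)).val = wordN w (permN _ i.val)
    rw [wordP_val w (fun r hr => hw r (List.mem_cons_of_mem _ hr)), perm_val,
      Cert.letters_ok.2.2 s (hw s List.mem_cons_self)]

theorem wordP_near : ∀ (w : List ℕ), (∀ s ∈ w, s < 5) → ∀ {i : Fin 126}, Near P0 i →
    Near P0 (wordP w i)
  | [], _, _, h => h
  | s :: w, hw, _, h => wordP_near w (fun r hr => hw r (List.mem_cons_of_mem _ hr))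
      (Model.near_closed _ _ (Cert.letters_ok.1 s (hw s List.mem_cons_self)) h)

theorem wordP_append (v w : List ℕ) (i : Fin 126) : wordP (v ++ w) i = wordP w (wordP v i) :=
  List.foldl_append ..

theorem perm_invol (i j : Fin 126) : perm i (perm i j) = j :=
  Fin.ext (by rw [perm_val, perm_val]; exact Cert.permN_invol i j)

theorem wordP_back : ∀ (w : List ℕ) (i : Fin 126), wordP w (wordP w.reverse i) = i
  | [], _ => rfl
  | s :: w, i => by
    rw [List.reverse_cons, wordP_append]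
    show wordP w (perm (ptsF s) (perm (ptsF s) (wordP w.reverse i))) = i
    rw [perm_invol, wordP_back w i]

theorem moveW_far (X : Ctx D) : ∀ (w : List ℕ), (∀ s ∈ w, s < 5) → ∀ {u : Tet D z}, Far t u →
    Far t (L.moveW X w u)
  | [], _, _, h => h
  | s :: w, hw, u, h => by
    refine moveW_far X w (fun r hr => hw r (List.mem_cons_of_mem _ hr)) ?_
    have ht : rr X (L.θ X (ptsF s)) t = t :=
      rr_adj X (L.adj_θ X (Cert.letters_ok.1 s (hw s List.mem_cons_self))).symm
    refine ⟨fun e => h.1 ((rr X (L.θ X (ptsF s))).injective (e.trans ht.symm)), fun e => h.2 ?_⟩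
    rw [← rr_map_adj_iff X (L.θ X (ptsF s)), ht]
    exact e

theorem moveW_adj (X : Ctx D) : ∀ (w : List ℕ), (∀ s ∈ w, s < 5) → ∀ {u : Tet D z} {i : Fin 126},
    Near P0 i → (Adj (L.moveW X w u) (L.θ X (wordP w i)) ↔ Adj u (L.θ X i))
  | [], _, _, _, _ => Iff.rfl
  | s :: w, hw, u, i, hi => by
    have hs := Cert.letters_ok.1 s (hw s List.mem_cons_self)
    refine (moveW_adj X w (fun r hr => hw r (List.mem_cons_of_mem _ hr))
      (Model.near_closed _ _ hs hi)).trans ?_
    rw [← L.θ_conj X hs hi, rr_map_adj_iff]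

theorem exists_word (X : Ctx D) {u : Tet D z} (hu : Far t u) :
    ∃ w ∈ setWords, ∀ i : Fin 126, Near P0 i → (Adj u (L.θ X i) ↔ wordN w i.val ∈ X0) := by
  classical
  obtain ⟨w, hw, h⟩ := Cert.exists_word (L.nbs X u) (fun l hl => L.nbs_line X hu hl)
    (fun a b => L.nbs_closed X u) (fun x hx => hx.1)
  exact ⟨w, hw, fun i hi => (L.nbs_iff X u hi).symm.trans (h i hi)⟩

/-- A far tetrad with the standard neighbours. -/
theorem exists_std (X : Ctx D) :
    ∃ u : Tet D z, Far t u ∧ ∀ i : Fin 126, Near P0 i → (Adj u (L.θ X i) ↔ i.val ∈ X0) := by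
  obtain ⟨v, hv⟩ : ∃ v, Far t v := by
    by_contra h
    push Not at h
    have hall : ∀ v, v ∈ insert t {v | Adj t v} := fun v => by
      by_cases e : v = t
      · exact Or.inl e
      · exact Or.inr (by by_contra h'; exact h v ⟨e, h'⟩)
    have := Set.ncard_le_ncard (s := Set.univ) (fun v _ => hall v) (Set.toFinite _)
    rw [Set.ncard_univ, card_tet X t] at this
    have h2 := Set.ncard_insert_le t {v | Adj t v}
    rw [ncard_adj X t] at h2
    omega
  obtain ⟨w, hw, h⟩ := L.exists_word X hv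
  have hw5 := Cert.setWords_lt5 w hw
  refine ⟨L.moveW X w v, L.moveW_far X w hw5 hv, fun j hj => ?_⟩
  have hr : ∀ s ∈ w.reverse, s < 5 := fun s hs => hw5 s (List.mem_reverse.1 hs)
  have hi := wordP_near w.reverse hr hj
  conv_lhs => rw [← wordP_back w j, L.moveW_adj X w hw5 hi, h _ hi]
  rw [← wordP_val w hw5, wordP_back]

end At

end Cfsg.Agent.ThreeTransp.M24Four
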