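import Cfsg.Agent.Lib.ThreeTransp.M24Four.Lines
import Cfsg.Agent.Lib.ThreeTransp.M24Four.Basis

/-!
In a group of type M(24) the six tetrads of a frame: their product acts trivially on the tetrads, and
there are 126 tetrads.
-/

set_option autoImplicit false
set_option linter.unusedSectionVars false
set_option maxRecDepth 100000

noncomputable section

namespace Cfsg.Agent.ThreeTransp.M24Four

open Cfsg.Agent.ThreeTransp
open Model (perm P0 Near)

namespace Model

set_option maxHeartbeats 0

/-- The points next to the base point and to two further ones. -/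
def common (i j : Fin 126) : List (Fin 126) :=
  (List.finRange 126).filter fun k => decide (Near P0 k ∧ Near i k ∧ Near j k)

theorem line_common : ∀ i j, Near P0 i → Near P0 j → Near i j →
    (common i j).length = 3 ∧
      ∀ x, Near P0 x → ((i :: j :: common i j).foldr (fun k y => perm k y) x) = x := by
  decide +kernel

/-- A line through the base point. -/
def line0 : List (Fin 126) := [0, 15, 43, 57, 68]

theorem line0_ok : line0.Nodup ∧ (∀ i ∈ line0, Near P0 i) ∧
    ∀ i ∈ line0, ∀ j ∈ line0, i ≠ j → Near i j := by decide +kernel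

end Model

universe u

variable {G : Type u} [Group G] [Finite G] {D : Set G} {z : G}

/-- Six tetrads commuting with one another. -/
structure IsFrame (D : Set G) (z : G) (l : List (Tet D z)) : Prop where
  nodup : l.Nodup
  len : l.length = 6
  adj : ∀ x ∈ l, ∀ y ∈ l, x ≠ y → Adj x y

theorem IsFrame.perm {l l' : List (Tet D z)} (h : IsFrame D z l) (hp : l.Perm l') :
    IsFrame D z l' :=
  ⟨hp.nodup_iff.1 h.nodup, hp.length_eq ▸ h.len,
    fun x hx y hy => h.adj x (hp.mem_iff.2 hx) y (hp.mem_iff.2 hy)⟩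

/-- A frame through a tetrad. -/
theorem exists_frame_at (X : Ctx D) {t : Tet D z} (L : At D z t) :
    IsFrame D z (t :: Model.line0.map (L.θ X)) := by
  obtain ⟨hn, hN, hA⟩ := Model.line0_ok
  refine ⟨List.nodup_cons.2 ⟨?_, ?_⟩, rfl, ?_⟩
  · intro h
    obtain ⟨i, hi, e⟩ := List.mem_map.1 h
    exact (L.adj_θ X (hN i hi)).1 e.symm
  · exact hn.map_on fun i hi j hj e => L.θ_inj X (hN i hi) (hN j hj) e
  · intro x hx y hy hxy
    rcases List.mem_cons.1 hx with rfl | hx <;> rcases List.mem_cons.1 hy with rfl | hy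
    · exact absurd rfl hxy
    · obtain ⟨j, hj, rfl⟩ := List.mem_map.1 hy
      exact L.adj_θ X (hN j hj)
    · obtain ⟨i, hi, rfl⟩ := List.mem_map.1 hx
      exact (L.adj_θ X (hN i hi)).symm
    · obtain ⟨i, hi, rfl⟩ := List.mem_map.1 hx
      obtain ⟨j, hj, rfl⟩ := List.mem_map.1 hy
      exact (L.θ_adj X (hN i hi) (hN j hj)).2 (hA i hi j hj fun e => hxy (by rw [e]))

/-- A tetrad outside a frame is next to exactly two of its members. -/
theorem frame_count (X : Ctx D) {l : List (Tet D z)} (hl : IsFrame D z l) {u : Tet D z}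
    (hu : u ∉ l) : {v | v ∈ l ∧ Adj u v}.ncard = 2 := by
  classical
  haveI := Fintype.ofFinite G
  let mem : Tet D z → Finset G := fun v => Finset.univ.filter fun x => x ∈ v.1
  let E : Finset G := l.toFinset.biUnion mem
  have hmem : ∀ {v : Tet D z} {x : G}, x ∈ mem v ↔ x ∈ v.1 := fun {v x} => by simp [mem]
  have hE : ∀ {x : G}, x ∈ E ↔ ∃ v ∈ l, x ∈ v.1 := fun {x} => by simp [E, mem]
  have c4 : ∀ v, (mem v).card = 4 := fun v => by
    rw [← Set.ncard_coe_finset, show (↑(mem v) : Set G) = v.1 by ext x; simp [mem], v.ncard]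
  have hdis : ∀ S : Finset (Tet D z), (S : Set (Tet D z)).PairwiseDisjoint mem := fun S v _ w _ h =>
    Finset.disjoint_left.2 fun x hx hx' => h (Tet.ext_mem X (hmem.1 hx) (hmem.1 hx'))
  have h24 : E.card = 24 := by
    rw [Finset.card_biUnion (hdis _), Finset.sum_congr rfl fun v _ => c4 v, Finset.sum_const,
      List.toFinset_card_of_nodup hl.nodup, hl.len, smul_eq_mul]
  obtain ⟨y, hy⟩ := u.nonempty
  have hyE : y ∉ E := fun h => by
    obtain ⟨v, hv, hv'⟩ := hE.1 h
    exact hu (Tet.ext_mem X hy hv' ▸ hv)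
  have hsub : (↑E : Set G) ⊆ D := fun x hx => by
    obtain ⟨v, -, hv⟩ := hE.1 hx
    exact v.memD hv
  have hcom : ∀ x ∈ E, ∀ x' ∈ E, Commute x x' := fun x hx x' hx' => by
    obtain ⟨v, hv, hxv⟩ := hE.1 hx
    obtain ⟨w, hw, hxw⟩ := hE.1 hx'
    by_cases e : v = w
    · subst e; exact v.commute hxv hxw
    · exact (hl.adj v hv w hw e).2 x hxv x' hxw
  have hset : {x | x ∈ E ∧ Commute y x} =
      ↑((l.toFinset.filter fun v => Adj u v).biUnion mem) := by
    ext x
    simp only [Set.mem_ofPred_eq, Finset.coe_biUnion, Set.mem_iUnion, Finset.mem_coe,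
      Finset.mem_filter, List.mem_toFinset, exists_prop, hmem, hE]
    constructor
    · rintro ⟨⟨v, hv, hx⟩, hc⟩
      exact ⟨v, ⟨hv, (adj_iff X hy hx).2 ⟨fun e => hu (e ▸ hv), hc⟩⟩, hx⟩
    · rintro ⟨v, ⟨hv, ha⟩, hx⟩
      exact ⟨⟨v, hv, hx⟩, ha.2 y hy x hx⟩
  have hcard : {v | v ∈ l ∧ Adj u v}.ncard = (l.toFinset.filter fun v => Adj u v).card := by
    rw [← Set.ncard_coe_finset]
    congr 1
    ext v; simp
  have h := two_or_eight X hsub hcom h24 (u.memD hy) hyE
  rw [hset, Set.ncard_coe_finset, Finset.card_biUnion (hdis _),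
    Finset.sum_congr rfl fun v _ => c4 v, Finset.sum_const, smul_eq_mul] at h
  omega

theorem rr_prod_perm (X : Ctx D) {l l' : List (Tet D z)} (hl : IsFrame D z l) (hp : l.Perm l') :
    (l.map (rr X)).prod = (l'.map (rr X)).prod := by
  refine (hp.map _).prod_eq' ?_
  refine List.pairwise_map.2 (List.Nodup.pairwise_of_forall_ne hl.nodup fun x hx y hy h => ?_)
  exact rr_adj_comm X (hl.adj x hx y hy h)

/-- The product of a frame fixes all tetrads. -/
theorem frame_prod (X : Ctx D) {l : List (Tet D z)} (hl : IsFrame D z l) :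
    (l.map (rr X)).prod = 1 := by
  classical
  refine Equiv.ext fun u => ?_
  rw [Equiv.Perm.one_apply]
  by_cases hu : u ∈ l
  · have fix' : ∀ l' : List (Tet D z), (∀ x ∈ l', rr X x u = u) → (l'.map (rr X)).prod u = u := by
      intro l' h
      induction l' with
      | nil => rfl
      | cons x l' ih =>
        rw [List.map_cons, List.prod_cons, Equiv.Perm.mul_apply,
          ih fun y hy => h y (List.mem_cons_of_mem _ hy), h x List.mem_cons_self]
    refine fix' l fun x hx => ?_
    by_cases e : x = u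
    · rw [e, rr_self]
    · exact rr_adj X (hl.adj x hx u hu e)
  · have h2 := frame_count X hl hu
    obtain ⟨t, ht, hadj⟩ := Set.nonempty_of_ncard_ne_zero (h2 ▸ two_ne_zero)
    obtain ⟨L⟩ := exists_at X t
    have hp := List.perm_cons_erase ht
    rw [rr_prod_perm X hl hp]
    have hl' := hl.perm hp
    obtain ⟨r, hr⟩ : ∃ r, r = l.erase t := ⟨_, rfl⟩
    rw [← hr] at hl' ⊢
    -- the other five in coordinates
    have hidx : ∀ x ∈ r, ∃ i, Near P0 i ∧ L.θ X i = x := fun x hx =>
      L.θ_surj X (hl'.adj t List.mem_cons_self x (List.mem_cons_of_mem _ hx)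
        fun e => (List.nodup_cons.1 hl'.nodup).1 (e ▸ hx))
    choose! idx hidx using hidx
    obtain ⟨w, hw, rfl⟩ := L.θ_surj X hadj.symm
    obtain ⟨hn, h5⟩ : (r.map idx).Nodup ∧ (r.map idx).length = 5 := by
      refine ⟨(List.nodup_cons.1 hl'.nodup).2.map_on fun x hx y hy e => ?_, ?_⟩
      · rw [← (hidx x hx).2, ← (hidx y hy).2, e]
      · have := hl'.len
        simp at this ⊢
        omega
    have hnear : ∀ i ∈ r.map idx, Near P0 i ∧ ∀ j ∈ r.map idx, i ≠ j → Near i j := by
      intro i hi
      obtain ⟨x, hx, rfl⟩ := List.mem_map.1 hi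
      refine ⟨(hidx x hx).1, fun j hj hij => ?_⟩
      obtain ⟨y, hy, rfl⟩ := List.mem_map.1 hj
      refine (L.θ_adj X (hidx x hx).1 (hidx y hy).1).1 ?_
      rw [(hidx x hx).2, (hidx y hy).2]
      exact hl'.adj x (List.mem_cons_of_mem _ hx) y (List.mem_cons_of_mem _ hy)
        fun e => hij (by rw [e])
    have act' : ∀ s : List (Fin 126), (∀ i ∈ s, Near P0 i) →
        Near P0 (s.foldr (fun k y => perm k y) w) ∧
          ((s.map (L.θ X)).map (rr X)).prod (L.θ X w) =
            L.θ X (s.foldr (fun k y => perm k y) w) := by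
      intro s hs
      induction s with
      | nil => exact ⟨hw, rfl⟩
      | cons i s ih =>
        obtain ⟨h1, h2⟩ := ih fun j hj => hs j (List.mem_cons_of_mem _ hj)
        refine ⟨Model.near_closed _ _ (hs i List.mem_cons_self) h1, ?_⟩
        simp only [List.map_cons, List.prod_cons, Equiv.Perm.mul_apply, List.foldr_cons]
        rw [h2, L.θ_conj X (hs i List.mem_cons_self) h1]
    have hrmap : (r.map idx).map (L.θ X) = r := by
      rw [List.map_map]
      exact (List.map_congr_left fun x hx => (hidx x hx).2).trans (List.map_id _)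
    obtain ⟨i, j, rest, he⟩ : ∃ i j rest, r.map idx = i :: j :: rest := by
      rcases hc : r.map idx with _ | ⟨i, _ | ⟨j, rest⟩⟩
      · rw [hc] at h5; simp at h5
      · rw [hc] at h5; simp at h5
      · exact ⟨i, j, rest, rfl⟩
    rw [he] at hn h5 hnear hrmap
    have hi := (hnear i (by simp)).1
    have hj := (hnear j (by simp)).1
    have hij : i ≠ j := fun e => (List.nodup_cons.1 hn).1 (e ▸ List.mem_cons_self)
    obtain ⟨hlen, hfix⟩ := Model.line_common i j hi hj ((hnear i (by simp)).2 j (by simp) hij)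
    have hperm : rest.Perm (Model.common i j) := by
      obtain ⟨hn1, hn2⟩ := List.nodup_cons.1 hn
      obtain ⟨hn2, hn3⟩ := List.nodup_cons.1 hn2
      refine ((hn3.subperm fun k hk => ?_).perm_of_length_le (by simp at h5; omega))
      refine List.mem_filter.2 ⟨List.mem_finRange _, decide_eq_true ⟨?_, ?_, ?_⟩⟩
      · exact (hnear k (by simp [hk])).1
      · exact (hnear i (by simp)).2 k (by simp [hk]) fun e => hn1 (by simp [e, hk])
      · exact (hnear j (by simp)).2 k (by simp [hk]) fun e => hn2 (e ▸ hk)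
    have hall : ∀ k ∈ i :: j :: Model.common i j, Near P0 k := by
      intro k hk
      rcases List.mem_cons.1 hk with rfl | hk
      · exact hi
      rcases List.mem_cons.1 hk with rfl | hk
      · exact hj
      exact (of_decide_eq_true (List.mem_filter.1 hk).2).1
    have hlast : (t :: r).Perm (t :: (i :: j :: Model.common i j).map (L.θ X)) := by
      refine List.Perm.cons t ?_
      rw [← hrmap]
      exact ((hperm.cons j).cons i).map _
    rw [rr_prod_perm X hl' hlast, List.map_cons, List.prod_cons, Equiv.Perm.mul_apply,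
      (act' _ hall).2, hfix w hw, rr_adj X hadj.symm]

theorem ncard_adj (X : Ctx D) (t : Tet D z) : {u | Adj t u}.ncard = 45 := by
  obtain ⟨L⟩ := exists_at X t
  have e : {u | Adj t u} = L.θ X '' ↑(Finset.univ.filter fun i => Near P0 i) := by
    ext u
    simp only [Set.mem_ofPred_eq, Finset.coe_filter, Finset.mem_univ, true_and, Set.mem_image]
    exact ⟨fun h => L.θ_surj X h, fun ⟨i, hi, e⟩ => e ▸ L.adj_θ X hi⟩
  rw [e, Set.InjOn.ncard_image, Set.ncard_coe_finset, Model.near_card]
  intro i hi j hj h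
  simp only [Finset.coe_filter, Finset.mem_univ, true_and, Set.mem_ofPred_eq] at hi hj
  exact L.θ_inj X hi hj h

/-- There are 126 tetrads. -/
theorem card_tet (X : Ctx D) (t : Tet D z) : Nat.card (Tet D z) = 126 := by
  classical
  haveI := Fintype.ofFinite (Tet D z)
  obtain ⟨L⟩ := exists_at X t
  obtain ⟨l, hldef⟩ : ∃ l, l = t :: Model.line0.map (L.θ X) := ⟨_, rfl⟩
  have hl : IsFrame D z l := hldef ▸ exists_frame_at X L
  obtain ⟨O, hO⟩ : ∃ O : Finset (Tet D z), O = Finset.univ \ l.toFinset := ⟨_, rfl⟩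
  have hcount : ∀ u ∈ O, (l.toFinset.filter fun v => Adj v u).card = 2 := by
    intro u hu
    rw [hO, Finset.mem_sdiff, List.mem_toFinset] at hu
    rw [← frame_count X hl hu.2, ← Set.ncard_coe_finset]
    congr 1
    ext v
    simp only [Finset.coe_filter, List.mem_toFinset, Set.mem_ofPred_eq]
    exact and_congr_right fun _ => ⟨Adj.symm, Adj.symm⟩
  have h40 : ∀ v ∈ l.toFinset, (O.filter fun u => Adj v u).card = 40 := by
    intro v hv
    rw [List.mem_toFinset] at hv
    have hsub : l.toFinset.erase v ⊆ Finset.univ.filter fun u => Adj v u := by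
      intro w hw
      rw [Finset.mem_erase, List.mem_toFinset] at hw
      exact Finset.mem_filter.2 ⟨Finset.mem_univ _, hl.adj v hv w hw.2 hw.1.symm⟩
    have he : O.filter (fun u => Adj v u) =
        (Finset.univ.filter fun u => Adj v u) \ l.toFinset.erase v := by
      ext w
      simp only [hO, Finset.mem_filter, Finset.mem_sdiff, Finset.mem_univ, true_and,
        Finset.mem_erase, List.mem_toFinset]
      exact ⟨fun h => ⟨h.2, fun hw => h.1 hw.2⟩, fun h => ⟨fun hw => h.2 ⟨h.1.1.symm, hw⟩, h.1⟩⟩
    rw [he, Finset.card_sdiff_of_subset hsub, Finset.card_erase_of_mem (List.mem_toFinset.2 hv),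
      List.toFinset_card_of_nodup hl.nodup, hl.len, ← Set.ncard_coe_finset,
      show (↑(Finset.univ.filter fun u => Adj v u) : Set (Tet D z)) = {u | Adj v u} by ext; simp,
      ncard_adj X v]
  have h := Finset.sum_card_bipartiteAbove_eq_sum_card_bipartiteBelow (fun v u => Adj v u)
    (s := l.toFinset) (t := O)
  simp only [Finset.bipartiteAbove, Finset.bipartiteBelow] at h
  rw [Finset.sum_congr rfl h40, Finset.sum_congr rfl hcount, Finset.sum_const, Finset.sum_const,
    List.toFinset_card_of_nodup hl.nodup, hl.len] at h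
  have hc : O.card = Nat.card (Tet D z) - 6 := by
    rw [hO, Finset.card_sdiff_of_subset (Finset.subset_univ _),
      List.toFinset_card_of_nodup hl.nodup, hl.len, Finset.card_univ, Nat.card_eq_fintype_card]
  simp only [smul_eq_mul] at h
  omega

end Cfsg.Agent.ThreeTransp.M24Four
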