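import Cfsg.Agent.Lib.ThreeTransp.M24Four.Tetrads
import Cfsg.Agent.Lib.ThreeTransp.M24Four.Model

/-!
In a group of type M(24) the tetrads next to a given one are the lines through a point of the
unitary space of its common neighbours.
-/

set_option autoImplicit false
set_option linter.unusedSectionVars false
set_option maxRecDepth 10000

namespace Cfsg.Agent.ThreeTransp.M24Four

open Cfsg.Agent.ThreeTransp
open Cfsg.Agent.ThreeTransp.Factor (nb Rel)
open Cfsg.Agent.ThreeTransp.M22Iso (Vec Pt τ Std)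
open Cfsg.Agent.Forms
open Cfsg.Agent.Classical.Unitary
open Cfsg.Agent.InvChar.Coset (FF)
open Model (p0 pt perm P0 Near Off OneStd)

local notation "H" => Cfsg.hermForm 6 FF 2

universe u

variable {G : Type u} [Group G] [Finite G] {D : Set G} {z : G}

/-- Coordinates at a tetrad. -/
structure At (D : Set G) (z : G) (t : Tet D z) where
  a : G
  b : G
  c : G
  d : G
  q : Quad D z a b c d
  eq : t.1 = {a, b, c, d}
  K : Chart D a b c
  hK : K.f p0 = d

theorem pt_p0 : Pt p0 := Model.pt_P0 ▸ (Model.pt_std P0).1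

theorem comm_K {a b c g : G} (h : g ∈ M24.Triple.K a b c) :
    g * a * g⁻¹ = a ∧ g * b * g⁻¹ = b ∧ g * c * g⁻¹ = c := by
  obtain ⟨-, h1, h2, h3⟩ := M24.Triple.mem_K.1 h
  exact ⟨mul_inv_eq_iff_eq_mul.2 h1.eq.symm, mul_inv_eq_iff_eq_mul.2 h2.eq.symm,
    mul_inv_eq_iff_eq_mul.2 h3.eq.symm⟩

theorem N3_conj (X : Ctx D) (g : G) (a b c x : G) :
    x ∈ N3 D a b c ↔ g * x * g⁻¹ ∈ N3 D (g * a * g⁻¹) (g * b * g⁻¹) (g * c * g⁻¹) := by
  refine ⟨fun h => ⟨⟨Cover.conj_nb X.grp g h.1.1, Cover.conj_nb X.grp g h.1.2⟩,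
    Cover.conj_nb X.grp g h.2⟩, fun h => ?_⟩
  have e : ∀ y : G, g⁻¹ * (g * y * g⁻¹) * g⁻¹⁻¹ = y := fun y => by group
  have h1 := Cover.conj_nb X.grp g⁻¹ h.1.1
  have h2 := Cover.conj_nb X.grp g⁻¹ h.1.2
  have h3 := Cover.conj_nb X.grp g⁻¹ h.2
  rw [e, e] at h1 h2 h3
  exact ⟨⟨h1, h2⟩, h3⟩

/-- Coordinates in which a fourth member has a given point. -/
theorem exists_chart_at (X : Ctx D) {a b c d : G} (T : M24.Triple.Tri D a b c)
    (hd : d ∈ N3 D a b c) : ∃ K : Chart D a b c, K.f p0 = d := by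
  obtain ⟨K⟩ := exists_chart X T
  obtain ⟨g, hg, e⟩ := trans_N3 X T (K.mem' pt_p0) hd
  obtain ⟨ea, eb, ec⟩ := comm_K hg
  refine ⟨K.conj g fun x => ?_, e⟩
  have := N3_conj X g a b c x
  rwa [ea, eb, ec] at this

theorem exists_at (X : Ctx D) (t : Tet D z) : Nonempty (At D z t) := by
  obtain ⟨a, b, c, d, q, e⟩ := t.2
  obtain ⟨K, hK⟩ := exists_chart_at X q.tri ⟨⟨q.hd, q.hdb⟩, q.hdc⟩
  exact ⟨⟨a, b, c, d, q, e, K, hK⟩⟩

theorem five_scalar : ∀ α β x y : FF,
    (α + FF.w2 ^ 2 * β) * (x + FF.w2 * y) + ((α + FF.w ^ 2 * β) * (x + FF.w * y) +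
      ((α + β) * (x + y) + (α * x + β * y))) = 0 := by decide +kernel

namespace At

variable {t : Tet D z} (L : At D z t)

theorem tet_mem {x : G} (h : x = L.a ∨ x = L.b ∨ x = L.c ∨ x = L.d) : x ∈ t.1 := by
  rw [L.eq]; simpa using h

theorem fmem {v : Vec} (hv : Pt v) : L.K.f v ∈ N3 D L.a L.b L.c := L.K.mem' hv

theorem off_pt {v : Vec} (hv : Pt v) (h : H v p0 = 0) (ho : Off v) (l : FF) :
    Pt (v + l • p0) ∧ H (v + l • p0) p0 = 0 ∧ Off (v + l • p0) := by
  refine ⟨⟨fun e => ?_, ?_⟩, ?_, fun k e => ?_⟩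
  · exact ho l (by rw [eq_neg_of_add_eq_zero_left e, ← eq_neg_of_add_eq_zero_left (M22Iso.vec_add_self (l • p0))])
  · simp [H_add_left, M22Iso.H_add_right4, H_smul_left, H_smul_right, hv.2, h,
      M22Iso.H_comm_zero.1 h, pt_p0.2]
  · simp [H_add_left, H_smul_left, h, pt_p0.2]
  · refine ho (k + l) ?_
    rw [add_smul, ← e, add_assoc, M22Iso.vec_add_self, add_zero]

theorem perp_line {v : Vec} (hv : Pt v) (h : H v p0 = 0) (l m : FF) :
    H (v + l • p0) (v + m • p0) = 0 := by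
  simp [H_add_left, M22Iso.H_add_right4, H_smul_left, H_smul_right, hv.2, h,
    M22Iso.H_comm_zero.1 h, pt_p0.2]

theorem line_inj {v : Vec} (hv : Pt v) (h : H v p0 = 0) (ho : Off v) {l m : FF}
    (e : L.K.f (v + l • p0) = L.K.f (v + m • p0)) : l = m := by
  obtain ⟨k, hk⟩ := (L.K.eq_iff _ _ (off_pt hv h ho l).1 (off_pt hv h ho m).1).1 e
  by_cases hk1 : k = 1
  · subst hk1
    rw [one_smul] at hk
    have := smul_left_injective FF pt_p0.1 (add_left_cancel hk)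
    exact this.symm
  · exfalso
    -- the vector would be a multiple of the base vector
    have e1 : (1 + k) • v = (m + k * l) • p0 := by
      funext i
      have := congrFun hk i
      simp only [Pi.add_apply, Pi.smul_apply, smul_eq_mul] at this ⊢
      linear_combination this + M22Iso.add_self (k * v i) - M22Iso.add_self (m * p0 i)
    have h0 : (1 : FF) + k ≠ 0 := fun h0 => hk1 (by linear_combination h0 - M22Iso.add_self 1)
    exact ho ((1 + k)⁻¹ * (m + k * l)) (by rw [mul_smul, ← e1, inv_smul_smul₀ h0])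

theorem ne_d {v : Vec} (hv : Pt v) (ho : Off v) : L.K.f v ≠ L.d := by
  intro e
  rw [← L.hK] at e
  obtain ⟨k, hk⟩ := (L.K.eq_iff _ _ pt_p0 hv).1 e.symm
  exact ho k hk

theorem comm_d {v : Vec} (hv : Pt v) (h : H v p0 = 0) : Commute (L.K.f v) L.d := by
  rw [← L.hK]; exact (L.K.comm_iff _ _ hv pt_p0).2 h

/-- The four vectors of a line other than the base vector give a tetrad. -/
theorem line_quad (X : Ctx D) {v : Vec} (hv : Pt v) (h : H v p0 = 0) (ho : Off v) :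
    Quad D z (L.K.f v) (L.K.f (v + p0)) (L.K.f (v + FF.w • p0)) (L.K.f (v + FF.w2 • p0)) := by
  obtain ⟨f, hf⟩ : ∃ f : FF → G, f = fun l => L.K.f (v + l • p0) := ⟨_, rfl⟩
  have hP := fun l => off_pt hv h ho l
  have hN : ∀ l, f l ∈ N3 D L.a L.b L.c := fun l => hf ▸ L.fmem (hP l).1
  have hD' : ∀ l, f l ∈ D := fun l => (hN l).1.1.1
  have hne : ∀ l m, l ≠ m → f l ≠ f m := fun l m hlm e =>
    hlm (L.line_inj hv h ho (by simpa only [hf] using e))
  have hc : ∀ l m, Commute (f l) (f m) := fun l m => by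
    rw [hf]; exact (L.K.comm_iff _ _ (hP l).1 (hP m).1).2 (perp_line hv h l m)
  have hnb : ∀ l m, l ≠ m → f m ∈ nb D (f l) := fun l m hlm =>
    ⟨hD' m, (hne l m hlm).symm, hc l m⟩
  have hd : ∀ l, Commute (f l) L.d ∧ f l ≠ L.d := fun l => by
    rw [hf]; exact ⟨L.comm_d (hP l).1 (hP l).2.1, L.ne_d (hP l).1 (hP l).2.2⟩
  have e0 : f 0 = L.K.f v := by rw [hf]; simp
  have e1 : f 1 = L.K.f (v + p0) := by rw [hf]; simp
  suffices hprod : f 0 * f 1 * f FF.w * f FF.w2 = z by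
    rw [← e0, ← e1, show L.K.f (v + FF.w • p0) = f FF.w by rw [hf],
      show L.K.f (v + FF.w2 • p0) = f FF.w2 by rw [hf]]
    exact ⟨⟨hD' 0, hnb _ _ (by decide), hnb _ _ (by decide), hnb _ _ (by decide)⟩,
      hnb _ _ (by decide), hnb _ _ (by decide), hnb _ _ (by decide), hprod⟩
  obtain ⟨P, hPdef⟩ : ∃ P, P = f 0 * f 1 * f FF.w * f FF.w2 * L.d := ⟨_, rfl⟩
  have q := L.q
  have cP : ∀ y, (∀ l, Commute (f l) y) → Commute L.d y → Commute P y := fun y h1 h2 => by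
    rw [hPdef]
    exact ((((h1 _).mul_left (h1 _)).mul_left (h1 _)).mul_left (h1 _)).mul_left h2
  have cN : ∀ x ∈ N3 D L.a L.b L.c, Commute P x := by
    intro x hx
    obtain ⟨u, hu, rfl⟩ := L.K.cover' hx
    have step : ∀ l {u : Vec}, Pt u →
        f l * L.K.f u * (f l)⁻¹ = L.K.f (τ (v + l • p0) u) := fun l {u} hu => by
      rw [inv X (hD' l), hf]; exact L.K.line _ _ (hP l).1 hu
    have stepd : L.d * L.K.f u * L.d⁻¹ = L.K.f (τ p0 u) := by
      rw [inv X q.mD, ← L.hK]; exact L.K.line _ _ pt_p0 hu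
    have p1 := hu.tau pt_p0.2
    have p2 := p1.tau (hP FF.w2).1.2
    have p3 := p2.tau (hP FF.w).1.2
    have p4 := p3.tau (hP 1).1.2
    have key : P * L.K.f u * P⁻¹ = L.K.f u := by
      rw [hPdef, show f 0 * f 1 * f FF.w * f FF.w2 * L.d * L.K.f u *
          (f 0 * f 1 * f FF.w * f FF.w2 * L.d)⁻¹ = f 0 * (f 1 * (f FF.w * (f FF.w2 *
          (L.d * L.K.f u * L.d⁻¹) * (f FF.w2)⁻¹) * (f FF.w)⁻¹) * (f 1)⁻¹) * (f 0)⁻¹ by group,
        stepd, step _ p1, step _ p2, step _ p3, step _ p4]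
      congr 1
      have hvp := M22Iso.H_comm_zero.1 h
      simp only [τ, zero_smul, add_zero, one_smul, H_add_left, M22Iso.H_add_right4, H_smul_left,
        H_smul_right, hv.2, h, hvp, pt_p0.2, mul_zero, add_zero, zero_add]
      funext i
      simp only [Pi.add_apply, Pi.smul_apply, smul_eq_mul]
      linear_combination five_scalar (H u v) (H u p0) (v i) (p0 i)
    exact mul_inv_eq_iff_eq_mul.1 key
  have hodd : P ∉ commutator G := by
    have pair : ∀ {x y : G}, x ∈ D → y ∈ D → x * y ∈ commutator G := fun {x y} hx hy =>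
      (M24.Triple.mem_or X.grp X.prim hy x).resolve_left (sgn X x hx)
    intro hP'
    refine sgn X L.d q.mD ((Subgroup.mul_mem_cancel_left _ ?_).1 (hPdef ▸ hP'))
    rw [mul_assoc (f 0 * f 1)]
    exact mul_mem (pair (hD' 0) (hD' 1)) (pair (hD' _) (hD' _))
  have pair : ∀ {x y : G}, x ∈ D → y ∈ D → x * y ∈ commutator G := fun {x y} hx hy =>
    (M24.Triple.mem_or X.grp X.prim hy x).resolve_left (sgn X x hx)
  have six : ∀ e, e ∈ D → Commute L.d e → L.d ≠ e → (∀ l, Commute (f l) e ∧ f l ≠ e) → P ≠ e := by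
    intro e he hde hdne hfe heq
    refine (rel7 X).mono (show 6 ≤ 7 by norm_num) [f 0, f 1, f FF.w, f FF.w2, L.d, e] ?_
      (by simp) (by simp) ?_ ?_ ?_
    · simp [hne 0 1 (by decide), hne 0 FF.w (by decide), hne 0 FF.w2 (by decide),
        hne 1 FF.w (by decide), hne 1 FF.w2 (by decide), hne FF.w FF.w2 (by decide), hdne,
        fun l => (hd l).2, fun l => (hfe l).2]
    · simp [hD', q.mD, he]
    · intro x hx y hy
      simp only [List.mem_cons, List.not_mem_nil, or_false] at hx hy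
      rcases hx with rfl | rfl | rfl | rfl | rfl | rfl <;>
        rcases hy with rfl | rfl | rfl | rfl | rfl | rfl <;>
        first
          | exact Commute.refl _
          | exact hc _ _
          | exact (hd _).1 | exact (hd _).1.symm | exact (hfe _).1 | exact (hfe _).1.symm
          | exact hde | exact hde.symm
    · rw [show [f 0, f 1, f FF.w, f FF.w2, L.d, e].prod = f 0 * f 1 * f FF.w * f FF.w2 * L.d * e by
        simp [mul_assoc], ← hPdef, heq, sq X he]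
  have fa : ∀ l, Commute (f l) L.a ∧ f l ≠ L.a := fun l =>
    ⟨(hN l).1.1.2.2.symm, (hN l).1.1.2.1⟩
  have fb : ∀ l, Commute (f l) L.b ∧ f l ≠ L.b := fun l =>
    ⟨(hN l).1.2.2.2.symm, (hN l).1.2.2.1⟩
  have fc : ∀ l, Commute (f l) L.c ∧ f l ≠ L.c := fun l => ⟨(hN l).2.2.2.symm, (hN l).2.2.1⟩
  rcases centraliser_cases X q.tri (cP _ (fun l => (fa l).1) q.cad.symm)
    (cP _ (fun l => (fb l).1) q.cbd.symm) (cP _ (fun l => (fc l).1) q.ccd.symm) cN with
    e | e | e | e | e | e | e | e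
  · exact absurd (e ▸ one_mem _) hodd
  · exact absurd e (six _ q.mA q.cad.symm q.hd.2.1 fa)
  · exact absurd e (six _ q.mB q.cbd.symm q.hdb.2.1 fb)
  · exact absurd e (six _ q.mC q.ccd.symm q.hdc.2.1 fc)
  · exact absurd (e ▸ pair q.mA q.mB) hodd
  · exact absurd (e ▸ pair q.mA q.mC) hodd
  · exact absurd (e ▸ pair q.mB q.mC) hodd
  · rw [← q.prod, ← e, hPdef, mul_assoc _ L.d L.d, sq X q.mD, mul_one]

/-- The tetrad of a line. -/
def lineTet (X : Ctx D) {v : Vec} (hv : Pt v) (h : H v p0 = 0) (ho : Off v) : Tet D z :=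
  ⟨_, _, _, _, _, L.line_quad X hv h ho, rfl⟩

theorem mem_lineTet (X : Ctx D) {v : Vec} (hv : Pt v) (h : H v p0 = 0) (ho : Off v) (l : FF) :
    L.K.f (v + l • p0) ∈ (L.lineTet X hv h ho).1 := by
  show _ ∈ ({_, _, _, _} : Set G)
  have := (by decide : ∀ l : FF, l = 0 ∨ l = 1 ∨ l = FF.w ∨ l = FF.w2) l
  rcases this with rfl | rfl | rfl | rfl <;> simp

theorem near_spec {i : Fin 126} (h : Near P0 i) : H (pt i) p0 = 0 ∧ Off (pt i) := by
  refine ⟨M22Iso.H_comm_zero.1 (Model.pt_P0 ▸ (Model.perp_iff P0 i).2 h.2), fun k e => h.1 ?_⟩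
  exact Model.pt_inj P0 i k (Model.pt_P0 ▸ e)

/-- The neighbours of the tetrad, numbered. -/
noncomputable def θ (X : Ctx D) (i : Fin 126) : Tet D z :=
  if h : Near P0 i then L.lineTet X (Model.pt_std i).1 (near_spec h).1 (near_spec h).2 else t

theorem θ_mem (X : Ctx D) {i : Fin 126} (h : Near P0 i) (l : FF) :
    L.K.f (pt i + l • p0) ∈ (L.θ X i).1 := by
  rw [θ, dif_pos h]; exact L.mem_lineTet X _ _ _ l

theorem θ_self (X : Ctx D) {i : Fin 126} (h : Near P0 i) : L.K.f (pt i) ∈ (L.θ X i).1 := by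
  simpa using L.θ_mem X h 0

theorem adj_θ (X : Ctx D) {i : Fin 126} (h : Near P0 i) : Adj t (L.θ X i) := by
  have ha : L.a ∈ t.1 := L.tet_mem (Or.inl rfl)
  have hm := L.θ_self X h
  have hN := L.fmem (Model.pt_std i).1
  refine (adj_iff X ha hm).2 ⟨fun e => ?_, hN.1.1.2.2⟩
  rw [← e, L.eq] at hm
  rcases hm with e | e | e | e
  exacts [hN.1.1.2.1 e, hN.1.2.2.1 e, hN.2.2.1 e, L.ne_d (Model.pt_std i).1 (near_spec h).2 e]

theorem θ_surj (X : Ctx D) {u : Tet D z} (h : Adj t u) : ∃ i, Near P0 i ∧ L.θ X i = u := by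
  obtain ⟨y, hy⟩ := u.nonempty
  have yD := u.memD hy
  have key : ∀ x, x = L.a ∨ x = L.b ∨ x = L.c ∨ x = L.d → y ∈ nb D x := fun x hx =>
    ⟨yD, fun e => h.1 (Tet.ext_mem X (L.tet_mem hx) (e ▸ hy)), h.2 x (L.tet_mem hx) y hy⟩
  obtain ⟨v, hv, rfl⟩ := L.K.cover'
    (show y ∈ N3 D L.a L.b L.c from ⟨⟨key _ (by simp), key _ (by simp)⟩, key _ (by simp)⟩)
  have hd := key L.d (by simp)
  have h0 : H v p0 = 0 := (L.K.comm_iff _ _ hv pt_p0).1 (L.hK ▸ hd.2.2.symm)
  have ho : Off v := fun k e => hd.2.1 (by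
    rw [e, L.K.smul_eq pt_p0 (pt_p0.smul_ne hv e), L.hK])
  obtain ⟨l, hl⟩ := Finset.card_eq_one.1 (Model.line_std v hv h0 ho)
  have hs : Std (v + l • p0) := by
    have := Finset.mem_singleton_self l
    rw [← hl, Finset.mem_filter] at this
    exact this.2
  obtain ⟨hP, hH, hO⟩ := off_pt hv h0 ho l
  obtain ⟨i, k, hik⟩ := Model.pt_cover _ hP hs
  have hk : k ≠ 0 := (Model.pt_std i).1.smul_ne hP hik
  have hi : Near P0 i := by
    refine ⟨fun e => hO k (by rw [hik, ← e, Model.pt_P0]), (Model.perp_iff P0 i).1 ?_⟩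
    rw [hik, H_smul_left] at hH
    rw [Model.pt_P0]
    exact M22Iso.H_comm_zero.1 ((mul_eq_zero.1 hH).resolve_left hk)
  refine ⟨i, hi, ?_⟩
  have m1 : L.K.f (pt i) ∈ (L.lineTet X hv h0 ho).1 := by
    have := L.mem_lineTet X hv h0 ho l
    rwa [hik, L.K.smul_eq (Model.pt_std i).1 hk] at this
  rw [Tet.ext_mem X (L.θ_self X hi) m1]
  exact Tet.ext_mem X (by simpa using L.mem_lineTet X hv h0 ho 0) hy

theorem θ_inj (X : Ctx D) {i j : Fin 126} (hi : Near P0 i) (hj : Near P0 j)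
    (e : L.θ X i = L.θ X j) : i = j := by
  obtain ⟨h0, ho⟩ := near_spec hi
  have hm := L.θ_self X hj
  rw [← e, θ, dif_pos hi] at hm
  obtain ⟨l, hl⟩ : ∃ l : FF, L.K.f (pt j) = L.K.f (pt i + l • p0) := by
    rcases hm with h | h | h | h
    exacts [⟨0, by simpa using h⟩, ⟨1, by simpa using h⟩, ⟨_, h⟩, ⟨_, h⟩]
  obtain ⟨hP, -, -⟩ := off_pt (Model.pt_std i).1 h0 ho l
  obtain ⟨k, hk⟩ := (L.K.eq_iff _ _ (Model.pt_std j).1 hP).1 hl
  have hk0 := (Model.pt_std j).1.smul_ne hP hk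
  have hs : Std (pt i + l • p0) := by
    rw [hk, M22Iso.std_smul hk0]; exact (Model.pt_std j).2
  obtain ⟨m, hm⟩ := Finset.card_eq_one.1 (Model.line_std _ (Model.pt_std i).1 h0 ho)
  have u1 : l ∈ ({m} : Finset FF) := hm ▸ Finset.mem_filter.2 ⟨Finset.mem_univ _, hs⟩
  have u2 : (0 : FF) ∈ ({m} : Finset FF) :=
    hm ▸ Finset.mem_filter.2 ⟨Finset.mem_univ _, by simpa using (Model.pt_std i).2⟩
  rw [Finset.mem_singleton] at u1 u2
  rw [u1, ← u2, zero_smul, add_zero] at hk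
  exact (Model.pt_inj j i k hk).symm

theorem θ_adj (X : Ctx D) {i j : Fin 126} (hi : Near P0 i) (hj : Near P0 j) :
    Adj (L.θ X i) (L.θ X j) ↔ Near i j := by
  rw [adj_iff X (L.θ_self X hi) (L.θ_self X hj),
    L.K.comm_iff _ _ (Model.pt_std i).1 (Model.pt_std j).1, Model.perp_iff]
  exact and_congr_left fun _ => ⟨fun h e => h (e ▸ rfl), fun h e => h (L.θ_inj X hi hj e)⟩

theorem θ_conj (X : Ctx D) {i j : Fin 126} (hi : Near P0 i) (hj : Near P0 j) :
    rr X (L.θ X i) (L.θ X j) = L.θ X (perm i j) := by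
  have hk := Model.near_closed i j hi hj
  rw [← rr_eq X (L.θ_self X hi)]
  refine act_eq_of_mem X _ (L.θ_self X hj) ?_
  rw [conj_el X (L.θ_self X hi), L.K.line _ _ (Model.pt_std i).1 (Model.pt_std j).1]
  obtain ⟨k, hk'⟩ := Model.perm_spec i j
  have hP : Pt (τ (pt i) (pt j)) := (Model.pt_std j).1.tau (Model.pt_std i).1.2
  rw [hk', L.K.smul_eq (Model.pt_std _).1 ((Model.pt_std _).1.smul_ne hP hk')]
  exact L.θ_self X hk

end At

end Cfsg.Agent.ThreeTransp.M24Four
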