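import Cfsg.Agent.Lib.ThreeTransp.M24Four.Counts
import Cfsg.Agent.Lib.CharP.CharP
import Cfsg.Agent.Lib.LargeExtra.Affine
import Cfsg.Prelude.Def_Classical

/-!
In a group of type M(24) the centraliser in the commutator subgroup of a product of four commuting
members: an extraspecial group of order `2 ^ 13` extended by a group of order three, the unitary
group of dimension four over nine elements, and a group of order two.
-/

set_option autoImplicit false
set_option linter.unusedSectionVars false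
set_option maxRecDepth 10000

noncomputable section

namespace Cfsg.Agent.ThreeTransp.M24Four

open Cfsg.Agent.ThreeTransp
open Model (perm P0 Near)
open At (Far)
open scoped commutatorElement

universe u

variable {G : Type u} [Group G]

/-- The products of two members of a tetrad. -/
def pairSet (D : Set G) (z : G) : Set ↥(CC z) :=
  {g | ∃ s : Tet D z, ∃ x ∈ s.1, ∃ y ∈ s.1, (g : G) = x * y}

/-- The subgroup they generate. -/
def QQ (D : Set G) (z : G) : Subgroup ↥(CC z) := Subgroup.closure (pairSet D z)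

variable [Finite G] {D : Set G} {z : G}

theorem mem_QQ (X : Ctx D) {s : Tet D z} {x y : G} (hx : x ∈ s.1) (hy : y ∈ s.1) :
    (⟨x * y, pair_mem X hx hy⟩ : ↥(CC z)) ∈ QQ D z :=
  Subgroup.subset_closure ⟨s, x, hx, y, hy, rfl⟩

theorem QQ_normal (X : Ctx D) : (QQ D z).Normal := by
  refine ⟨fun n hn g => ?_⟩
  induction hn using Subgroup.closure_induction with
  | mem k hk =>
    obtain ⟨s, x, hx, y, hy, e⟩ := hk
    refine Subgroup.subset_closure ⟨_, _, Φ_mem X g hx, _, Φ_mem X g hy, ?_⟩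
    simp only [Subgroup.coe_mul, Subgroup.coe_inv, e]
    group
  | one => rw [mul_one, mul_inv_cancel]; exact one_mem _
  | mul p q _ _ hp hq =>
    rw [show g * (p * q) * g⁻¹ = g * p * g⁻¹ * (g * q * g⁻¹) by group]
    exact mul_mem hp hq
  | inv p _ hp =>
    rw [show g * p⁻¹ * g⁻¹ = (g * p * g⁻¹)⁻¹ by group]
    exact inv_mem hp

theorem QQ_le (X : Ctx D) : QQ D z ≤ (Φ (z := z) X).ker := by
  rw [QQ, Subgroup.closure_le]
  rintro g ⟨s, x, hx, y, hy, e⟩
  rw [show g = ⟨x * y, pair_mem X hx hy⟩ from Subtype.ext e]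
  exact pair_trivial X hx hy

/-- The product as an element of its centraliser. -/
def zC (X : Ctx D) {t : Tet D z} (L : At D z t) : ↥(CC z) :=
  ⟨z, z_mem X L.q, mem_Cz.2 (Commute.refl z)⟩

theorem zC_comm (X : Ctx D) {t : Tet D z} (L : At D z t) (g : ↥(CC z)) :
    g * zC X L = zC X L * g := Subtype.ext (mem_Cz.1 g.2.2).eq

theorem zC_sq (X : Ctx D) {t : Tet D z} (L : At D z t) : zC X L * zC X L = 1 :=
  Subtype.ext (z_sq X L.q)

theorem zC_mem (X : Ctx D) {t : Tet D z} (L : At D z t) : zC X L ∈ QQ D z := by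
  have ha := L.tet_mem (x := L.a) (Or.inl rfl)
  have hb := L.tet_mem (x := L.b) (Or.inr (Or.inl rfl))
  have hc := L.tet_mem (x := L.c) (Or.inr (Or.inr (Or.inl rfl)))
  have hd := L.tet_mem (x := L.d) (Or.inr (Or.inr (Or.inr rfl)))
  rw [show zC X L = ⟨_, pair_mem X ha hb⟩ * ⟨_, pair_mem X hc hd⟩ from Subtype.ext (by
    show z = L.a * L.b * (L.c * L.d)
    rw [← mul_assoc]; exact L.q.prod.symm)]
  exact mul_mem (mem_QQ X ha hb) (mem_QQ X hc hd)

theorem pair_sq (X : Ctx D) {g : ↥(CC z)} (hg : g ∈ pairSet D z) : g * g = 1 := by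
  obtain ⟨s, x, hx, y, hy, e⟩ := hg
  refine Subtype.ext ?_
  show (g : G) * (g : G) = 1
  rw [e]
  conv_lhs => arg 1; rw [← pair_inv X hx hy]
  exact inv_mul_cancel _

/-- One product of two carries another to itself or to the complementary one. -/
theorem pair_conj (X : Ctx D) {g h : ↥(CC z)} (hg : g ∈ pairSet D z) (hh : h ∈ pairSet D z) :
    ∃ k : G, (k = 1 ∨ k = z) ∧ (g : G) * (h : G) * (g : G)⁻¹ = (h : G) * k := by
  obtain ⟨s, x, hx, y, hy, eg⟩ := hg
  obtain ⟨w, x', hx', y', hy', eh⟩ := hh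
  rw [eg, eh]
  by_cases hxy : x = y
  · refine ⟨1, Or.inl rfl, ?_⟩
    rw [hxy, sq X (s.memD hy)]; group
  by_cases hxy' : x' = y'
  · refine ⟨1, Or.inl rfl, ?_⟩
    rw [hxy', sq X (w.memD hy')]; group
  by_cases hfar : Far w s
  swap
  · have hc : Commute (x * y) (x' * y') := by
      have : ∀ p ∈ s.1, ∀ q ∈ w.1, Commute p q := by
        intro p hp q hq
        by_cases e : s = w
        · subst e; exact s.commute hp hq
        · exact ((not_not.1 fun h => hfar ⟨e, h⟩).2 q hq p hp).symm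
      exact ((this x hx x' hx').mul_right (this x hx y' hy')).mul_left
        ((this y hy x' hx').mul_right (this y hy y' hy'))
    exact ⟨1, Or.inl rfl, by rw [hc.eq]; group⟩
  obtain ⟨u, v, q, e⟩ := exists_pair_quad w hx' hy' hxy'
  obtain ⟨k, hk⟩ : ∃ k, k = x * y := ⟨_, rfl⟩
  rw [← hk]
  have hkk : k * k = 1 := by
    rw [hk]; conv_lhs => arg 1; rw [← pair_inv X hx hy]
    exact inv_mul_cancel _
  have hinv : k⁻¹ = k := inv_eq_of_mul_eq_one_right hkk
  have hw : ∀ {p : G}, p ∈ w.1 → k * p * k⁻¹ ∈ w.1 ∧ k * p * k⁻¹ ≠ p ∧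
      k * (k * p * k⁻¹) * k⁻¹ = p := by
    intro p hp
    have hm := Φ_mem X ⟨x * y, pair_mem X hx hy⟩ hp
    rw [pair_trivial X hx hy] at hm
    refine ⟨hk ▸ hm, hk ▸ pair_fpf X hfar hx hy hxy hp, ?_⟩
    rw [hinv, show k * (k * p * k) * k = k * k * p * (k * k) by simp only [mul_assoc], hkk, one_mul,
      mul_one]
  have hu : u ∈ w.1 := by rw [e]; simp
  have hv : v ∈ w.1 := by rw [e]; simp
  obtain ⟨a1, a2, a3⟩ := hw hx'
  obtain ⟨b1, b2, b3⟩ := hw hy'
  rw [e] at a1 b1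
  simp only [Set.mem_insert_iff, Set.mem_singleton_iff] at a1 b1
  have main : ∀ r r', Quad D z x' y' r r' → k * x' * k⁻¹ = r → k * y' * k⁻¹ = r' →
      k * (x' * y') * k⁻¹ = x' * y' * z := by
    intro r r' q' h1 h2
    rw [show k * (x' * y') * k⁻¹ = k * x' * k⁻¹ * (k * y' * k⁻¹) by group, h1, h2, ← q'.prod]
    have hp : x' * y' * (x' * y') = 1 := by
      conv_lhs => arg 1; rw [← pair_inv X hx' hy']
      exact inv_mul_cancel _
    calc r * r' = x' * y' * (x' * y') * (r * r') := by rw [hp, one_mul]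
      _ = x' * y' * (x' * y' * r * r') := by simp only [mul_assoc]
  rcases a1 with h | h | h | h
  · exact absurd h a2
  · refine ⟨1, Or.inl rfl, ?_⟩
    have h' : k * y' * k⁻¹ = x' := by rw [← h]; exact a3
    rw [mul_one, show k * (x' * y') * k⁻¹ = k * x' * k⁻¹ * (k * y' * k⁻¹) by group, h, h', q.cab.eq]
  · refine ⟨z, Or.inr rfl, main u v q h ?_⟩
    rcases b1 with h' | h' | h' | h'
    · exfalso
      rw [h'] at b3
      exact q.tri.hbc.2.1 (h.symm.trans b3)
    · exact absurd h' b2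
    · exact absurd (conj_inj (h'.trans h.symm)).symm hxy'
    · exact h'
  · refine ⟨z, Or.inr rfl, main v u q.swap'' h ?_⟩
    rcases b1 with h' | h' | h' | h'
    · exfalso
      rw [h'] at b3
      exact q.hdb.2.1 (h.symm.trans b3)
    · exact absurd h' b2
    · exact h'
    · exact absurd (conj_inj (h'.trans h.symm)).symm hxy'

/-- Squares lie in the subgroup of the product. -/
theorem QQ_sq (X : Ctx D) {t : Tet D z} (L : At D z t) :
    ∀ g ∈ QQ D z, g * g = 1 ∨ g * g = zC X L := by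
  classical
  obtain ⟨Z, hZ⟩ : ∃ Z : Subgroup ↥(CC z), Z = Subgroup.zpowers (zC X L) := ⟨_, rfl⟩
  haveI hn : Z.Normal := ⟨fun w hw g => by
    rw [hZ] at hw ⊢
    obtain ⟨i, rfl⟩ := Subgroup.mem_zpowers_iff.1 hw
    rw [((show Commute g (zC X L) from zC_comm X L g).zpow_right i).eq, mul_inv_cancel_right]
    exact Subgroup.zpow_mem_zpowers _ i⟩
  have hmk : ∀ {k : ↥(CC z)}, ((k : G) = 1 ∨ (k : G) = z) → k ∈ Z := fun {k} h => by
    rcases h with h | h
    · rw [show k = 1 from Subtype.ext h]; exact one_mem _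
    · rw [show k = zC X L from Subtype.ext h, hZ]; exact Subgroup.mem_zpowers _
  have hgen : ∀ p ∈ pairSet D z, ∀ q ∈ pairSet D z,
      Commute (QuotientGroup.mk p : ↥(CC z) ⧸ Z) (QuotientGroup.mk q) := by
    intro p hp q hq
    obtain ⟨k, hk, e⟩ := pair_conj X hp hq
    show (QuotientGroup.mk p : ↥(CC z) ⧸ Z) * QuotientGroup.mk q = _
    rw [← QuotientGroup.mk_mul, ← QuotientGroup.mk_mul, QuotientGroup.eq]
    refine hmk ?_
    have hval : (((p * q)⁻¹ * (q * p) : ↥(CC z)) : G) = (p : G)⁻¹ * k⁻¹ * (p : G) := by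
      have hk' : k = (q : G)⁻¹ * ((p : G) * (q : G) * (p : G)⁻¹) := by rw [e]; group
      rw [hk']
      simp only [Subgroup.coe_mul, Subgroup.coe_inv]
      group
    rw [hval]
    rcases hk with rfl | rfl
    · left; group
    · right
      have hc : Commute (p : G) k := mem_Cz.1 p.2.2
      rw [hc.inv_left.inv_right.eq, mul_assoc, inv_mul_cancel, mul_one]
      exact inv_eq_of_mul_eq_one_right (z_sq X L.q)
  have hall : ∀ g ∈ QQ D z, (∀ p ∈ pairSet D z,
      Commute (QuotientGroup.mk g : ↥(CC z) ⧸ Z) (QuotientGroup.mk p)) ∧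
      (QuotientGroup.mk g : ↥(CC z) ⧸ Z) * QuotientGroup.mk g = 1 := by
    intro g hg
    induction hg using Subgroup.closure_induction with
    | mem g hg =>
      refine ⟨fun p hp => hgen g hg p hp, ?_⟩
      rw [← QuotientGroup.mk_mul, pair_sq X hg, QuotientGroup.mk_one]
    | one => exact ⟨fun p _ => by rw [QuotientGroup.mk_one]; exact Commute.one_left _,
        by rw [QuotientGroup.mk_one, one_mul]⟩
    | mul p q hp hq ihp ihq =>
      have hpq : Commute (QuotientGroup.mk p : ↥(CC z) ⧸ Z) (QuotientGroup.mk q) := by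
        clear ihq
        induction hq using Subgroup.closure_induction with
        | mem q hq => exact ihp.1 q hq
        | one => rw [QuotientGroup.mk_one]; exact Commute.one_right _
        | mul a b _ _ ha hb => rw [QuotientGroup.mk_mul]; exact ha.mul_right hb
        | inv a _ ha => rw [QuotientGroup.mk_inv]; exact ha.inv_right
      refine ⟨fun r hr => by rw [QuotientGroup.mk_mul]; exact (ihp.1 r hr).mul_left (ihq.1 r hr), ?_⟩
      rw [QuotientGroup.mk_mul, ← pow_two, hpq.mul_pow, pow_two, pow_two, ihp.2, ihq.2, one_mul]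
    | inv p _ ihp =>
      refine ⟨fun r hr => by rw [QuotientGroup.mk_inv]; exact (ihp.1 r hr).inv_left, ?_⟩
      rw [QuotientGroup.mk_inv, ← _root_.mul_inv_rev, ihp.2, inv_one]
  intro g hg
  have h := (hall g hg).2
  rw [← QuotientGroup.mk_mul, QuotientGroup.eq_one_iff, hZ, Subgroup.mem_zpowers_iff] at h
  obtain ⟨i, hi⟩ := h
  rw [← hi]
  rcases Int.even_or_odd' i with ⟨j, rfl | rfl⟩
  · left
    rw [_root_.zpow_mul, _root_.zpow_two, zC_sq, _root_.one_zpow]
  · right
    rw [_root_.zpow_add, _root_.zpow_mul, _root_.zpow_two, zC_sq, _root_.one_zpow, one_mul,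
      _root_.zpow_one]

theorem QQ_pgroup (X : Ctx D) {t : Tet D z} (L : At D z t) : IsPGroup 2 ↥(QQ D z) := fun g =>
  ⟨2, Subtype.ext (by
    show (g : ↥(CC z)) ^ (2 ^ 2) = 1
    rw [show (2 : ℕ) ^ 2 = 2 * 2 from rfl, pow_mul, pow_two, pow_two]
    rcases QQ_sq X L g g.2 with h | h <;> rw [h]
    · rw [one_mul]
    · exact zC_sq X L)⟩

/-- A subgroup of exponent a power of two inside the kernel has order at most `2 ^ 13`. -/
theorem card_le_of_pgroup (X : Ctx D) {t : Tet D z} (L : At D z t) (e : Fin 126 ≃ Tet D z)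
    (he0 : e P0 = t) (hθ : ∀ i, Near P0 i → e i = L.θ X i)
    (hconj : ∀ i j, rr X (e i) (e j) = e (perm i j)) {P : Subgroup ↥(CC z)} (hP : IsPGroup 2 P)
    (hle : P ≤ (Φ (z := z) X).ker) : Nat.card P ≤ 2 ^ 13 := by
  haveI : Fact (Nat.Prime 2) := ⟨Nat.prime_two⟩
  obtain ⟨n, hn⟩ := hP.exists_card_eq
  rw [hn]
  refine Nat.pow_le_pow_right (by norm_num) ?_
  have hdvd := Subgroup.card_dvd_of_le hle
  rw [(kernel_image X L e he0 hθ hconj).1, hn] at hdvd
  by_contra hcon
  have h14 : 2 ^ 14 ∣ 3 * 2 ^ 13 := (pow_dvd_pow 2 (by omega : 14 ≤ n)).trans hdvd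
  norm_num at h14

theorem le_card_QQ (X : Ctx D) {t : Tet D z} (L : At D z t) : 2 ^ 13 ≤ Nat.card (QQ D z) := by
  classical
  obtain ⟨R, hR⟩ : ∃ R : Subgroup G,
      R = (QQ D z).map (CC z).subtype ⊓ Subgroup.centralizer (t.1 : Set G) := ⟨_, rfl⟩
  have hmemR : ∀ {s : Tet D z} {x y : G}, x ∈ s.1 → y ∈ s.1 →
      (∀ w ∈ t.1, Commute x w) → (∀ w ∈ t.1, Commute y w) → x * y ∈ R := by
    intro s x y hx hy cx cy
    rw [hR]
    refine ⟨⟨⟨_, pair_mem X hx hy⟩, mem_QQ X hx hy, rfl⟩, Subgroup.mem_centralizer_iff.2 ?_⟩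
    exact fun w hw => ((cx w hw).mul_left (cy w hw)).eq.symm
  have hle : 2048 ≤ Nat.card R := by
    refine L.le_card X R (fun i hi x hx y hy => hmemR hx hy
      (fun w hw => ((L.adj_θ X hi).2 w hw x hx).symm) fun w hw => ((L.adj_θ X hi).2 w hw y hy).symm) ?_
    intro k
    have ct : ∀ x ∈ t.1, ∀ w ∈ t.1, Commute x w := fun x hx w hw => t.commute hx hw
    have ma := L.tet_mem (x := L.a) (Or.inl rfl)
    have mb := L.tet_mem (x := L.b) (Or.inr (Or.inl rfl))
    have mc := L.tet_mem (x := L.c) (Or.inr (Or.inr (Or.inl rfl)))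
    fin_cases k
    · exact one_mem R
    · exact hmemR ma mb (ct _ ma) (ct _ mb)
    · exact hmemR ma mc (ct _ ma) (ct _ mc)
    · exact hmemR mb mc (ct _ mb) (ct _ mc)
  obtain ⟨s, hs, -⟩ := L.exists_std X
  obtain ⟨x, hx⟩ := s.nonempty
  have ha := L.tet_mem (x := L.a) (Or.inl rfl)
  have hrep : ∀ b : Mem t, ∃ g ∈ (QQ D z).map (CC z).subtype, g * L.a * g⁻¹ = b.1 := by
    intro b
    by_cases hb : b.1 = L.a
    · exact ⟨1, one_mem _, by rw [hb]; group⟩
    · obtain ⟨y, hy, -, hyb⟩ := pair_regular X hs hx ha b.2 hb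
      exact ⟨x * y, ⟨⟨_, pair_mem X hx hy⟩, mem_QQ X hx hy, rfl⟩, hyb⟩
  choose g hg hga using hrep
  let F : Mem t × R → ↥((QQ D z).map (CC z).subtype) := fun p =>
    ⟨g p.1 * p.2.1, mul_mem (hg p.1) ((hR.le p.2.2).1)⟩
  have hinj : Function.Injective F := by
    rintro ⟨b, r⟩ ⟨b', r'⟩ h
    have h' : g b * r.1 = g b' * r'.1 := congrArg Subtype.val h
    have hr : ∀ r : R, r.1 * L.a * r.1⁻¹ = L.a := fun r =>
      mul_inv_eq_iff_eq_mul.2 (Subgroup.mem_centralizer_iff.1 (hR.le r.2).2 _ ha).symm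
    have h1 := congrArg (fun w => w * L.a * w⁻¹) h'
    simp only [show ∀ u v : G, u * v * L.a * (u * v)⁻¹ = u * (v * L.a * v⁻¹) * u⁻¹ from
      fun u v => by group, hr, hga] at h1
    obtain rfl : b = b' := Subtype.ext h1
    exact Prod.ext rfl (Subtype.ext (mul_left_cancel h'))
  have h := Nat.card_le_card_of_injective F hinj
  rw [Nat.card_prod, card_mem, Subgroup.card_map_of_injective (CC z).subtype_injective] at h
  calc 2 ^ 13 = 4 * 2048 := by norm_num
    _ ≤ 4 * Nat.card R := Nat.mul_le_mul_left _ hle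
    _ ≤ _ := h

theorem card_QQ (X : Ctx D) {t : Tet D z} (L : At D z t) (e : Fin 126 ≃ Tet D z)
    (he0 : e P0 = t) (hθ : ∀ i, Near P0 i → e i = L.θ X i)
    (hconj : ∀ i j, rr X (e i) (e j) = e (perm i j)) : Nat.card (QQ D z) = 2 ^ 13 :=
  le_antisymm (card_le_of_pgroup X L e he0 hθ hconj (QQ_pgroup X L) (QQ_le X)) (le_card_QQ X L)

theorem centraliser_QQ (X : Ctx D) {t : Tet D z} (L : At D z t) {g : ↥(CC z)}
    (hg : ∀ h ∈ QQ D z, h * g = g * h) : g = 1 ∨ g = zC X L := by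
  rcases L.central_cases X g fun s x y hx hy =>
    (congrArg Subtype.val (hg _ (mem_QQ X hx hy))).symm with h | h
  exacts [Or.inl (Subtype.ext h), Or.inr (Subtype.ext h)]

theorem extraspecial (X : Ctx D) {t : Tet D z} (L : At D z t) :
    Cfsg.IsExtraspecial 2 ↥(QQ D z) := by
  refine LargeExtra.Affine.isExtraspecial_mk (QQ_pgroup X L) (zC_mem X L)
    (fun h => z_ne_one X L.q (congrArg Subtype.val h)) (fun x _ => zC_comm X L x) (QQ_sq X L)
    (fun x _ h => centraliser_QQ X L h) ?_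
  obtain ⟨s, x, hx, y, hy, hn⟩ := pair_moved X L.q L.eq
  exact ⟨_, mem_QQ X (L.tet_mem (Or.inl rfl)) (L.tet_mem (Or.inr (Or.inl rfl))), _, mem_QQ X hx hy,
    fun h => hn (congrArg Subtype.val h).symm⟩

/-- The preimage of the unitary group. -/
def MM (X : Ctx D) (e : Fin 126 ≃ Tet D z) : Subgroup ↥(CC z) := (MI X e).comap (Φ X)

theorem MM_index (X : Ctx D) {t : Tet D z} (L : At D z t) (e : Fin 126 ≃ Tet D z)
    (he0 : e P0 = t) (hθ : ∀ i, Near P0 i → e i = L.θ X i)
    (hconj : ∀ i j, rr X (e i) (e j) = e (perm i j)) : (MM X e).index = 2 := by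
  rw [MM, Subgroup.index_comap]
  have h := ((MI X e).subgroupOf (Φ (z := z) X).range).card_mul_index
  rw [Nat.card_congr (Subgroup.subgroupOfEquivOfLe (MI_le X e hconj)).toEquiv, card_MI X e,
    (kernel_image X L e he0 hθ hconj).2] at h
  rw [Subgroup.relIndex]
  omega

theorem ker_le_MM (X : Ctx D) (e : Fin 126 ≃ Tet D z) : (Φ (z := z) X).ker ≤ MM X e := fun g hg => by
  rw [MM, Subgroup.mem_comap, MonoidHom.mem_ker.1 hg]
  exact one_mem _

theorem quotient_MM (X : Ctx D) (e : Fin 126 ≃ Tet D z)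
    (hconj : ∀ i j, rr X (e i) (e j) = e (perm i j)) :
    Nonempty (↥(MM X e) ⧸ (Φ (z := z) X).ker.subgroupOf (MM X e) ≃*
      Cfsg.PSU 4 Cfsg.Agent.MonomialMult.Nine 3) := by
  obtain ⟨ι⟩ := Model.iso
  let f : ↥(MM X e) →* ↥(MI X e) :=
    ((Φ X).comp (MM X e).subtype).codRestrict (MI X e) fun g => g.2
  have hs : Function.Surjective f := fun m => by
    obtain ⟨g, hg⟩ := MI_le X e hconj m.2
    refine ⟨⟨g, ?_⟩, Subtype.ext hg⟩
    show Φ X g ∈ MI X e
    rw [hg]; exact m.2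
  have hker : f.ker = (Φ (z := z) X).ker.subgroupOf (MM X e) := by
    ext g
    exact ⟨fun h => congrArg Subtype.val h, fun h => Subtype.ext h⟩
  exact ⟨((QuotientGroup.quotientMulEquivOfEq hker.symm).trans
    (QuotientGroup.quotientKerEquivOfSurjective f hs)).trans
      ((Subgroup.equivMapOfInjective Model.M0 e.permCongrHom.toMonoidHom e.permCongrHom.injective).symm.trans ι)⟩

/-- The largest normal 2-subgroup. -/
theorem pCore_eq (X : Ctx D) {t : Tet D z} (L : At D z t) (e : Fin 126 ≃ Tet D z)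
    (he0 : e P0 = t) (hθ : ∀ i, Near P0 i → e i = L.θ X i)
    (hconj : ∀ i j, rr X (e i) (e j) = e (perm i j)) :
    Cfsg.pCore 2 ↥(CC z) = QQ D z := by
  classical
  haveI : Fact (Nat.Prime 2) := ⟨Nat.prime_two⟩
  haveI := QQ_normal (z := z) X
  have h1 : QQ D z ≤ Cfsg.pCore 2 ↥(CC z) := Cfsg.Agent.Cores.le_pCore (QQ_pgroup X L)
  obtain ⟨P, hP⟩ : ∃ P, P = Cfsg.pCore 2 ↥(CC z) := ⟨_, rfl⟩
  have hpg : IsPGroup 2 ↥P := hP ▸ Cfsg.Agent.Cores.pCore_isPGroup 2
  haveI hPn : P.Normal := hP ▸ inferInstance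
  have hMIn : ∀ g : ↥(CC z), ∀ m ∈ MI X e, Φ X g * m * (Φ X g)⁻¹ ∈ MI X e := by
    intro g m hm
    obtain ⟨k, hk⟩ := MI_le X e hconj hm
    have hn := Subgroup.normal_of_index_eq_two (MM_index X L e he0 hθ hconj)
    have := hn.conj_mem k (show Φ X k ∈ MI X e from hk.symm ▸ hm) g
    rw [MM, Subgroup.mem_comap, map_mul, map_mul, map_inv, hk] at this
    exact this
  obtain ⟨J, hJ⟩ : ∃ J : Subgroup ↥(MI X e), J = (P.map (Φ X)).subgroupOf (MI X e) := ⟨_, rfl⟩
  haveI hJn : J.Normal := ⟨fun w hw m => by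
    rw [hJ, Subgroup.mem_subgroupOf] at hw ⊢
    obtain ⟨g, hg, hge⟩ := hw
    obtain ⟨k, hk⟩ := MI_le X e hconj m.2
    refine ⟨k * g * k⁻¹, hPn.conj_mem g hg k, ?_⟩
    rw [map_mul, map_mul, map_inv, hge, hk]
    rfl⟩
  haveI : IsSimpleGroup ↥(MI X e) := by
    haveI := Model.isSimple
    haveI := (Subgroup.equivMapOfInjective Model.M0 e.permCongrHom.toMonoidHom e.permCongrHom.injective).symm.toEquiv.nontrivial
    exact (Subgroup.equivMapOfInjective Model.M0 e.permCongrHom.toMonoidHom e.permCongrHom.injective).symm.isSimpleGroup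
  have hJb : J = ⊥ := by
    refine hJn.eq_bot_or_eq_top.resolve_right fun h => ?_
    have hJp : IsPGroup 2 ↥J := hJ ▸ ((hpg.map (Φ X)).comap_subtype)
    obtain ⟨n, hn⟩ := hJp.exists_card_eq
    rw [h, Subgroup.card_top, card_MI X e] at hn
    have h3 : 3 ∣ 2 ^ n := hn ▸ (by norm_num)
    exact absurd (Nat.prime_three.dvd_of_dvd_pow h3) (by norm_num)
  have hker : P ≤ (Φ (z := z) X).ker := by
    intro g hg
    have hcomm : ∀ m ∈ MI X e, Commute (Φ X g) m := by
      intro m hm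
      obtain ⟨k, hk⟩ := MI_le X e hconj hm
      have hin : (⟨⁅Φ X g, m⁆, by
          rw [commutatorElement_def]
          exact mul_mem (hMIn g m hm) (inv_mem hm)⟩ : ↥(MI X e)) ∈ J := by
        rw [hJ, Subgroup.mem_subgroupOf]
        refine ⟨⁅g, k⁆, ?_, by rw [map_commutatorElement, hk]⟩
        rw [commutatorElement_def, mul_assoc g k, mul_assoc]
        exact mul_mem hg (hPn.conj_mem g⁻¹ (inv_mem hg) k)
      rw [hJb, Subgroup.mem_bot] at hin
      exact commutatorElement_eq_one_iff_mul_comm.1 (congrArg Subtype.val hin)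
    refine MonoidHom.mem_ker.2 (e.permCongrHom.symm.injective ?_)
    rw [map_one]
    refine Model.centraliser fun m hm => ?_
    have := (hcomm _ ⟨m, hm, rfl⟩).map e.permCongrHom.symm.toMonoidHom
    change Commute _ (e.permCongrHom.symm (e.permCongrHom m)) at this
    rwa [MulEquiv.symm_apply_apply] at this
  refine le_antisymm ?_ h1
  rw [← hP]
  refine (Subgroup.eq_of_le_of_card_ge (hP ▸ h1) ?_).ge
  rw [card_QQ X L e he0 hθ hconj]
  exact card_le_of_pgroup X L e he0 hθ hconj hpg hker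

/-- The centraliser of a product of four commuting members. -/
theorem structure_CC (X : Ctx D) {a b c d : G} (q : Quad D z a b c d) :
    ∃ (Q : Subgroup ↥(CC z)) (_ : Q.Normal), Cfsg.generalizedFittingSubgroup ↥(CC z) = Q ∧
      Cfsg.IsExtraspecial 2 ↥Q ∧ Nat.card Q = 2 ^ 13 ∧
      ∃ (N M : Subgroup ↥(CC z)) (_ : N.Normal) (_ : M.Normal), Q ≤ N ∧ N ≤ M ∧
        Nat.card N = 3 * Nat.card Q ∧
        (∃ (K : Type) (_ : Field K) (_ : Fintype K), Fintype.card K = 9 ∧
          Nonempty (↥M ⧸ N.subgroupOf M ≃* Cfsg.PSU 4 K 3)) ∧ M.index = 2 := by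
  classical
  haveI : Fact (Nat.Prime 2) := ⟨Nat.prime_two⟩
  obtain ⟨t, ht⟩ : ∃ t : Tet D z, t.1 = {a, b, c, d} := ⟨⟨_, a, b, c, d, q, rfl⟩, rfl⟩
  obtain ⟨L⟩ := exists_at X t
  obtain ⟨e, he0, hθ, hconj⟩ := exists_model X L
  have hcard := card_QQ X L e he0 hθ hconj
  refine ⟨QQ D z, QQ_normal X, ?_, extraspecial X L, hcard, (Φ X).ker, MM X e, inferInstance,
    Subgroup.normal_of_index_eq_two (MM_index X L e he0 hθ hconj), QQ_le X, ker_le_MM X e,
    by rw [(kernel_image X L e he0 hθ hconj).1, hcard],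
    ⟨Cfsg.Agent.MonomialMult.Nine, inferInstance, inferInstance, Cfsg.Agent.MonomialMult.Nine.card,
      quotient_MM X e hconj⟩, MM_index X L e he0 hθ hconj⟩
  rw [← pCore_eq X L e he0 hθ hconj]
  refine (CharP.genFitting_eq_pCore_iff (p := 2)).2 fun g hg => ?_
  rw [pCore_eq X L e he0 hθ hconj] at hg ⊢
  rcases centraliser_QQ X L (fun h hh => Subgroup.mem_centralizer_iff.1 hg h hh) with h | h <;>
    rw [h]
  exacts [one_mem _, zC_mem X L]

end Cfsg.Agent.ThreeTransp.M24Four
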