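import Cfsg.Agent.Lib.ThreeTransp.M24Four.Cut

/-!
In a group of type M(24) the tetrads with their permutations are the 126 standard points.
-/

set_option autoImplicit false
set_option linter.unusedSectionVars false
set_option maxRecDepth 100000

noncomputable section

namespace Cfsg.Agent.ThreeTransp.M24Four

open Cfsg.Agent.ThreeTransp
open Cfsg.Agent.CosetCert (fX fU fV)
open Model (perm permN P0 Near)
open Cert (ptsF wordN setWords X0 lines wordOf row)

namespace Cert

set_option maxHeartbeats 0

theorem no_fixed : ∀ j : Fin 126, Near P0 j → ∃ s, s < 5 ∧ perm (ptsF s) j ≠ j := by decide +kernel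

theorem seed_ok : ∀ s, s < 5 → (ptsF s).val ∉ X0 →
    perm (ptsF 6) (perm (ptsF s) (perm P0 (perm (ptsF 6) P0))) = ptsF s := by decide +kernel

/-- A property of one outside letter kept by the five letters holds next to the base point. -/
theorem orbit_induct {P : Fin 126 → Prop}
    (h0 : P (ptsF 1)) (hstep : ∀ k, k < 5 → ∀ i, P i → P (perm (ptsF k) i)) :
    ∀ i, Near P0 i → P i := by
  have key : ∀ (r : List (ℕ × ℕ × ℕ)) (seen : List ℕ), orbitOK seen r = true →
      (∀ p : Fin 126, p.val ∈ seen → P p) → ∀ i, Near P0 i → P i := by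
    intro r
    induction r with
    | nil =>
      intro seen h hs i hi
      simp only [orbitOK, List.all_eq_true, List.mem_range] at h
      have h' := h i.val i.isLt
      have e : Nat.beq (permN 42 i.val) i.val = true := by
        have := congrArg Fin.val hi.2
        rw [perm_val, P0_val] at this
        rw [this]; exact Nat.beq_refl _
      have e2 : Nat.beq i.val 42 = false := by
        cases hb : Nat.beq i.val 42
        · rfl
        · exact absurd (Fin.ext ((Nat.eq_of_beq_eq_true hb).trans P0_val.symm) : i = P0) hi.1.symm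
      rw [e, e2] at h'
      exact hs i (by simpa using h')
    | cons e r ih =>
      obtain ⟨p, q, k⟩ := e
      intro seen h hs
      simp only [orbitOK, Bool.and_eq_true] at h
      obtain ⟨hp, hq, hmem, hk, he, hr⟩ := h
      simp only [Nat.blt_eq] at hp hq hk
      refine ih _ hr fun p' hp' => ?_
      rcases List.mem_cons.1 hp' with e' | e'
      · have hpp : perm (ptsF k) ⟨q, hq⟩ = p' :=
          Fin.ext (by rw [perm_val, e']; exact Nat.eq_of_beq_eq_true he)
        exact hpp ▸ hstep k hk _ (hs ⟨q, hq⟩ (by simpa using hmem))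
      · exact hs p' e'
  exact key _ _ orbit_ok fun p hp => (Fin.ext (List.mem_singleton.1 hp) : p = ptsF 1) ▸ h0

/-- Induction along the tree. -/
theorem tree_induct {P : Fin 126 → Prop} (h0 : P P0)
    (hstep : ∀ (p q : Fin 126) (x : ℕ), x < 7 → perm (ptsF x) q = p →
      (∀ k, k < 3 → ∃ j m, m < 3 ∧ link j (row p k) (row q m) x = true) → P q → P p) :
    ∀ p, P p := by
  have key : ∀ (r : List (ℕ × ℕ × ℕ × List ℕ)) (seen : List ℕ), treeOK seen r = true →
      (∀ p : Fin 126, p.val ∈ seen → P p) → ∀ p, P p := by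
    intro r
    induction r with
    | nil =>
      intro seen h hs p
      simp only [treeOK, List.all_eq_true, List.mem_range] at h
      exact hs p (by simpa using h p.val p.isLt)
    | cons e r ih =>
      obtain ⟨p, q, x, ids⟩ := e
      intro seen h hs
      simp only [treeOK, Bool.and_eq_true, List.all_eq_true, List.mem_range] at h
      obtain ⟨hp, hq, hmem, hx, he, hl, hr⟩ := h
      simp only [Nat.blt_eq] at hp hq hx
      refine ih _ hr fun p' hp' => ?_
      rcases List.mem_cons.1 hp' with e' | e'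
      · obtain rfl : p' = ⟨p, hp⟩ := Fin.ext e'
        refine hstep ⟨p, hp⟩ ⟨q, hq⟩ x hx ?_ ?_ (hs ⟨q, hq⟩ (by simpa using hmem))
        · exact Fin.ext (by rw [perm_val]; exact Nat.eq_of_beq_eq_true he)
        · intro k hk
          obtain ⟨h1, h2⟩ := hl k hk
          exact ⟨_, _, Nat.blt_eq.mp h1, h2⟩
      · exact hs p' e'
  refine key order _ tree_ok fun p hp => ?_
  rw [List.mem_singleton] at hp
  exact (Fin.ext hp : p = P0) ▸ h0

end Cert

universe u

variable {G : Type u} [Group G] [Finite G] {D : Set G} {z : G}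

namespace At

variable {t : Tet D z} (L : At D z t)

/-- The tetrad of a letter. -/
def letTet (X : Ctx D) (u : Tet D z) (x : ℕ) : Tet D z :=
  if x = 5 then t else if x = 6 then u else L.θ X (ptsF x)

/-- The permutation of a letter. -/
def gen (X : Ctx D) (u : Tet D z) (x : ℕ) : Equiv.Perm (Tet D z) := rr X (L.letTet X u x)

theorem gen_lt (X : Ctx D) (u : Tet D z) {x : ℕ} (hx : x < 5) :
    L.gen X u x = rr X (L.θ X (ptsF x)) := by
  rw [gen, letTet, if_neg (by omega), if_neg (by omega)]

theorem gen_five (X : Ctx D) (u : Tet D z) : L.gen X u 5 = rr X t := by rw [gen, letTet, if_pos rfl]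

theorem gen_six (X : Ctx D) (u : Tet D z) : L.gen X u 6 = rr X u := by
  rw [gen, letTet, if_neg (by omega), if_pos rfl]

theorem act_palin (X : Ctx D) (u : Tet D z) (q : Tet D z) :
    ∀ (h : List ℕ) (m : ℕ), m < 5 → (∀ s ∈ h, s < 5) →
      Near P0 (h.foldr (fun s y => perm (ptsF s) y) (ptsF m)) ∧
      CosetCert.act (L.gen X u) (h ++ m :: h.reverse) q =
        rr X (L.θ X (h.foldr (fun s y => perm (ptsF s) y) (ptsF m))) q
  | [], m, hm, _ => ⟨Cert.letters_ok.1 m hm, by
      show L.gen X u m q = _
      rw [L.gen_lt X u hm]; rfl⟩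
  | s :: h, m, hm, hh => by
    have hs := hh s List.mem_cons_self
    have ih := fun q' => act_palin X u q' h m hm fun r hr => hh r (List.mem_cons_of_mem _ hr)
    obtain ⟨hn, -⟩ := ih q
    refine ⟨Model.near_closed _ _ (Cert.letters_ok.1 s hs) hn, ?_⟩
    rw [List.reverse_cons, show (s :: h) ++ m :: (h.reverse ++ [s]) =
      s :: ((h ++ m :: h.reverse) ++ [s]) by simp]
    show CosetCert.act (L.gen X u) _ (L.gen X u s q) = _
    rw [CosetCert.act_append, (ih _).2]
    show L.gen X u s _ = _
    rw [L.gen_lt X u hs, List.foldr_cons, ← L.θ_conj X (Cert.letters_ok.1 s hs) hn, ← rr_conj X]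
    rfl

theorem act_word (X : Ctx D) (u : Tet D z) {i : Fin 126} (hi : Near P0 i) (q : Tet D z) :
    CosetCert.act (L.gen X u) (wordOf i.val) q = rr X (L.θ X i) q := by
  obtain ⟨h1, h2, h3, h4⟩ := Cert.words_ok i hi
  rw [h1, (L.act_palin X u q _ _ h2 h3).2, h4]

theorem act_flatten (X : Ctx D) (u : Tet D z) : ∀ (l : List (Fin 126)), (∀ i ∈ l, Near P0 i) →
    ∀ q, CosetCert.act (L.gen X u) (l.map fun i => wordOf i.val).flatten q =
      ((l.reverse.map (L.θ X)).map (rr X)).prod q
  | [], _, _ => rfl
  | i :: l, hl, q => by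
    rw [List.map_cons, List.flatten_cons, CosetCert.act_append,
      act_flatten X u l (fun j hj => hl j (List.mem_cons_of_mem _ hj)),
      L.act_word X u (hl i List.mem_cons_self), List.reverse_cons, List.map_append, List.map_append,
      List.prod_append]
    simp

variable (X : Ctx D) {u : Tet D z} (hu : Far t u)
  (hX : ∀ i : Fin 126, Near P0 i → (Adj u (L.θ X i) ↔ i.val ∈ X0))
include hu hX

theorem rr_braid_tu : rr X t * rr X u * rr X t = rr X u * rr X t * rr X u := rr_braid X hu.2

theorem sat : CosetCert.Sat (L.gen X u) Cert.C t where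
  invol _ := rr_involutive X _
  sub w hw := by
    have fix' : ∀ x, x < 5 → L.gen X u x t = t := fun x hx => by
      rw [L.gen_lt X u hx]; exact rr_adj X (L.adj_θ X (Cert.letters_ok.1 x hx)).symm
    simp only [Cert.C, List.mem_cons, List.not_mem_nil, or_false] at hw
    rcases hw with rfl | rfl | rfl | rfl | rfl | rfl
    · exact fix' 0 (by norm_num)
    · exact fix' 1 (by norm_num)
    · exact fix' 2 (by norm_num)
    · exact fix' 3 (by norm_num)
    · exact fix' 4 (by norm_num)
    · show L.gen X u 5 t = t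
      rw [L.gen_five]; exact rr_self X t
  rel w hw q := by
    rw [show Cert.C.W = Cert.rels from rfl, Cert.rels_eq, Cert.relsBuilt] at hw
    simp only [List.mem_append, List.mem_map, List.mem_singleton, List.mem_range] at hw
    rcases hw with ((⟨i, -, rfl⟩ | rfl) | ⟨p, hp, rfl⟩) | rfl
    · show L.gen X u i (L.gen X u i q) = q
      rw [gen, rr_rr]
    · show L.gen X u 6 (L.gen X u 5 (L.gen X u 6 (L.gen X u 5 (L.gen X u 6 (L.gen X u 5 q))))) = q
      rw [L.gen_five, L.gen_six]
      have h := fun x => congrArg (fun f : Equiv.Perm (Tet D z) => f x) (L.rr_braid_tu X hu hX)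
      simp only [Equiv.Perm.mul_apply] at h
      rw [← h (rr X t q), rr_rr, rr_rr, rr_rr]
    · obtain ⟨hp7, i, hi, hiv, hne, h6⟩ := Cert.pairs_ok p hp
      have key : (perm (ptsF p.1) i = i → Adj (L.letTet X u p.1) (L.θ X i)) ∧
          (Adj (L.letTet X u p.1) (L.θ X i) → perm (ptsF p.1) i = i) := by
        rcases (show p.1 < 5 ∨ p.1 = 5 ∨ p.1 = 6 by omega) with hlt | e | e
        · have hs := Cert.letters_ok.1 _ hlt
          rw [letTet, if_neg (by omega), if_neg (by omega), L.θ_adj X hs hi]
          exact ⟨fun h => ⟨hne, h⟩, fun h => h.2⟩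
        · rw [letTet, if_pos e, e, Cert.letters_ok.2.1]
          exact ⟨fun _ => L.adj_θ X hi, fun _ => hi.2⟩
        · rw [letTet, if_neg (by omega), if_pos e, e, h6 e, ← hiv, hX i hi]
          exact ⟨id, id⟩
      obtain ⟨A, hA⟩ : ∃ A, A = L.letTet X u p.1 := ⟨_, rfl⟩
      have hb : ∀ q, CosetCert.act (L.gen X u) (p.1 :: wordOf p.2) q =
          rr X (L.θ X i) (rr X A q) := fun q => by
        show CosetCert.act (L.gen X u) (wordOf p.2) (L.gen X u p.1 q) = _
        rw [← hiv, L.act_word X u hi, gen, hA]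
      rw [Cert.pairRel]
      rw [← hA] at key
      split_ifs with hflag
      · have hc := rr_adj_comm X (key.1 (Fin.ext (by
          rw [perm_val, hiv]; simpa using hflag) : perm (ptsF p.1) i = i))
        have h := fun x => congrArg (fun f : Equiv.Perm (Tet D z) => f x) hc
        simp only [Equiv.Perm.mul_apply] at h
        simp only [CosetCert.act_append, hb]
        rw [h, rr_rr, rr_rr]
      · have hc := rr_braid X (s := A) (u := L.θ X i) fun hadj => hflag (by
          have := congrArg Fin.val (key.2 hadj)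
          rw [perm_val, hiv] at this
          simpa using this)
        have h := fun x => congrArg (fun f : Equiv.Perm (Tet D z) => f x) hc
        simp only [Equiv.Perm.mul_apply] at h
        simp only [CosetCert.act_append, hb]
        rw [h, rr_rr, rr_rr, rr_rr]
    · obtain ⟨l, hl, hle⟩ := Cert.frameLine_ok
      obtain ⟨h1, h2, h3, h4⟩ := line_props hl
      show CosetCert.act (L.gen X u) _ (L.gen X u 5 q) = q
      have hwords : Cert.frameLine.map wordOf = (l.map toP).map fun i => wordOf i.val := by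
        rw [← hle, List.map_map]
        refine List.map_congr_left fun n hn => ?_
        show _ = wordOf (n % 126)
        rw [Nat.mod_eq_of_lt ((Cert.lines_ok l hl).2.2 n hn)]
      rw [hwords, L.act_flatten X u _ h3, L.gen_five]
      have hF := L.line_frame X hl
      have hp : (t :: (l.map toP).map (L.θ X)).Perm ((l.map toP).reverse.map (L.θ X) ++ [t]) :=
        ((((List.reverse_perm _).map _).symm).cons t).trans (List.perm_append_singleton _ _).symm
      have h := congrArg (fun f : Equiv.Perm (Tet D z) => f q)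
        ((rr_prod_perm X hF hp).symm.trans (frame_prod X hF))
      simpa [List.map_append, List.prod_append] using h

/-- A tetrad fixed by the five inner letters is the given one. -/
theorem eq_of_fixed {v : Tet D z} (hv : ∀ s, s < 5 → rr X (L.θ X (ptsF s)) v = v) : v = t := by
  classical
  by_contra hne
  by_cases hadj : Adj t v
  · obtain ⟨j, hj, rfl⟩ := L.θ_surj X hadj
    obtain ⟨s, hs, hmv⟩ := Cert.no_fixed j hj
    have h := hv s hs
    rw [L.θ_conj X (Cert.letters_ok.1 s hs) hj] at h
    exact hmv (L.θ_inj X (Model.near_closed _ _ (Cert.letters_ok.1 s hs) hj) hj h)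
  have hfar : Far t v := ⟨hne, hadj⟩
  have hall : ∀ s, s < 5 → Adj v (L.θ X (ptsF s)) := fun s hs => by
    by_contra hn
    have hs' := L.adj_θ X (Cert.letters_ok.1 s hs)
    have h := congrArg (rr X v) ((rr_comm_apply X hn).trans (hv s hs))
    rw [rr_rr, rr_self] at h
    exact hadj (h ▸ hs')
  have hS : ∀ i, Near P0 i → L.nbs X v i.val :=
    Cert.orbit_induct (P := fun i => L.nbs X v i.val)
      ((L.nbs_iff X v (Cert.letters_ok.1 1 (by norm_num))).2 (hall 1 (by norm_num))) fun k hk i hi => by
        show L.nbs X v (perm (ptsF k) i).val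
        rw [perm_val]
        exact L.nbs_closed X v ((L.nbs_iff X v (Cert.letters_ok.1 k hk)).2 (hall k hk)) hi
  obtain ⟨l, hl, -⟩ := Cert.frameLine_ok
  have h2 := L.nbs_line X hfar hl
  rw [List.filter_eq_self.2 fun n hn => decide_eq_true (by
    have := hS (toP n) ((line_props hl).2.2.1 _ (List.mem_map.2 ⟨n, hn, rfl⟩))
    rwa [show (toP n).val = n from Nat.mod_eq_of_lt ((Cert.lines_ok l hl).2.2 n hn)] at this),
    (Cert.lines_ok l hl).2.1] at h2
  omega

/-- The numbering. -/
theorem exists_numbering :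
    ∃ e : Fin 126 ≃ Tet D z, e P0 = t ∧ (∀ i, Near P0 i → e i = L.θ X i) ∧
      ∀ i j, rr X (e i) (e j) = e (perm i j) := by
  classical
  obtain ⟨q, hq0, hval⟩ := CosetCert.exists_naming (L.gen X u) Cert.C t (L.sat X hu hX)
    Cert.first_M Cert.stepOK_all
  have hinv : ∀ x a, L.gen X u x (L.gen X u x a) = a := fun x a => rr_rr X _ a
  have hlink : ∀ {j c c' x : ℕ}, x < 7 → Cert.link j c c' x = true →
      L.gen X u x (q c) = q c' := by
    intro j c c' x hx h
    simp only [Cert.link, Bool.and_eq_true, Bool.or_eq_true, Nat.blt_eq] at h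
    obtain ⟨hj, hxx, h⟩ := h
    have hv := hval j hj
    have hxx' : fX (Cert.C.F.get j) = x := Nat.eq_of_beq_eq_true hxx
    unfold CosetCert.Valid at hv
    rw [hxx', show CosetCert.consLetter Cert.C.K x [] = [x] from by
      have : Nat.beq x 7 = false := by
        cases e : Nat.beq x 7
        · rfl
        · exact absurd (Nat.eq_of_beq_eq_true e) (by omega)
      simp [CosetCert.consLetter, Cert.C, this]] at hv
    change L.gen X u x (q (fU (Cert.C.F.get j))) = _ at hv
    change L.gen X u x (q (fU (Cert.facts.get j))) = q (fV (Cert.facts.get j)) at hv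
    rcases h with ⟨h1, h2⟩ | ⟨h1, h2⟩
    · rwa [Nat.eq_of_beq_eq_true h1, Nat.eq_of_beq_eq_true h2] at hv
    · rw [Nat.eq_of_beq_eq_true h1, Nat.eq_of_beq_eq_true h2] at hv
      rw [← hv, hinv]
  obtain ⟨e, he⟩ : ∃ e : Fin 126 → Tet D z, e = fun p => q (row p 0) := ⟨_, rfl⟩
  have he0 : e P0 = t := by rw [he]; exact (congrArg q Cert.base_row).trans hq0
  have hbase : ∀ k : Fin 3, q (row P0 k) = t := fun k =>
    L.eq_of_fixed X hu hX fun s hs => by
      rw [← L.gen_lt X u hs]
      exact hlink (by omega) (Cert.base_ok k ⟨s, hs⟩)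
  have htriple : ∀ p : Fin 126, ∀ k, k < 3 → q (row p k) = e p := by
    refine Cert.tree_induct (fun k hk => (hbase ⟨k, hk⟩).trans he0.symm) ?_
    intro p p' x hx _ hl hp' k hk
    have hconst : ∀ k, k < 3 → L.gen X u x (q (row p k)) = e p' := fun k hk => by
      obtain ⟨j, m, hm, hjl⟩ := hl k hk
      rw [hlink hx hjl, hp' m hm]
    refine (L.gen X u x).injective ((hconst k hk).trans ?_)
    rw [← hconst 0 (by omega), he]
  have hgen : ∀ x, x < 7 → ∀ p, L.gen X u x (e p) = e (perm (ptsF x) p) := fun x hx p => by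
    obtain ⟨h1, h2⟩ := Cert.cells_ok p ⟨x, hx⟩
    have h := hlink hx h2
    rw [htriple _ _ h1] at h
    rw [he]
    exact h.trans (by rw [he])
  -- the image
  have hu' : u = e (perm P0 (perm (ptsF 6) P0)) := by
    have h := hgen 5 (by norm_num) (perm (ptsF 6) P0)
    rw [Cert.letters_ok.2.1] at h
    rw [← h, ← hgen 6 (by norm_num), he0, L.gen_five, L.gen_six, ← rr_comm_apply X hu.2, rr_rr]
  obtain ⟨s, hs, hsX, hs1⟩ : ∃ s, s < 5 ∧ (ptsF s).val ∉ X0 ∧ s = 1 :=
    ⟨1, by norm_num, Cert.some_outside, rfl⟩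
  have hnear : ∀ i, Near P0 i → e i = L.θ X i ∧ Near P0 i := by
    refine Cert.orbit_induct ?_ ?_
    · rw [← hs1]
      refine ⟨?_, Cert.letters_ok.1 s hs⟩
      have hS := Cert.letters_ok.1 s hs
      have hn : ¬Adj u (L.θ X (ptsF s)) := fun h => hsX ((hX _ hS).1 h)
      have e1 := hgen s (by omega) (perm P0 (perm (ptsF 6) P0))
      have e2 := hgen 6 (by norm_num) (perm (ptsF s) (perm P0 (perm (ptsF 6) P0)))
      rw [← e1, ← hu', L.gen_lt X u hs, L.gen_six, Cert.seed_ok s hs hsX,
        rr_comm_apply X (fun h => hn h.symm), rr_rr] at e2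
      exact e2.symm
    · rintro k hk i ⟨hi, hn⟩
      refine ⟨?_, Model.near_closed _ _ (Cert.letters_ok.1 k hk) hn⟩
      rw [← hgen k (by omega), hi, L.gen_lt X u hk, L.θ_conj X (Cert.letters_ok.1 k hk) hn]
  have hrange : ∀ x, x < 7 → ∀ v ∈ Set.range e, L.gen X u x v ∈ Set.range e := by
    rintro x hx _ ⟨p, rfl⟩
    exact ⟨_, (hgen x hx p).symm⟩
  have hmove : ∀ (w : List ℕ), (∀ r ∈ w, r < 5) → ∀ v ∈ Set.range e,
      L.moveW X w v ∈ Set.range e := by
    intro w
    induction w with
    | nil => exact fun _ v hv => hv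
    | cons r w ih =>
      intro hw v hv
      refine ih (fun r' hr' => hw r' (List.mem_cons_of_mem _ hr')) _ ?_
      show rr X (L.θ X (ptsF r)) v ∈ Set.range e
      rw [← L.gen_lt X u (hw r List.mem_cons_self)]
      exact hrange r (by have := hw r List.mem_cons_self; omega) v hv
  have hwmem : ∀ k : Fin 40, setWords.getD k.val [] ∈ setWords := fun k => by
    rw [List.getD_eq_getElem _ _ (k.isLt.trans_eq Cert.setWords_length.symm)]
    exact List.getElem_mem _
  -- the eighty far tetrads
  obtain ⟨F, hF⟩ : ∃ F : Fin 40 × Bool → Tet D z, F = fun kb =>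
      bif kb.2 then rr X t (L.moveW X (setWords.getD kb.1.val []).reverse u)
      else L.moveW X (setWords.getD kb.1.val []).reverse u := ⟨_, rfl⟩
  have hrev : ∀ k : Fin 40, ∀ r ∈ (setWords.getD k.val []).reverse, r < 5 := fun k r hr =>
    Cert.setWords_lt5 _ (hwmem k) r (List.mem_reverse.1 hr)
  have hrt : ∀ v, Far t v → Far t (rr X t v) := fun v hv => by
    refine ⟨fun h => hv.1 ((rr X t).injective (h.trans (rr_self X t).symm)), fun h => hv.2 ?_⟩
    rw [← rr_map_adj_iff X t, rr_self]
    exact h
  have hFfar : ∀ kb, Far t (F kb) ∧ F kb ∈ Set.range e ∧ ∀ i, Near P0 i →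
      (Adj (F kb) (L.θ X i) ↔ wordN (setWords.getD kb.1.val []) i.val ∈ X0) := by
    rintro ⟨k, b⟩
    have h5 := Cert.setWords_lt5 _ (hwmem k)
    obtain ⟨W, hW⟩ : ∃ W, W = L.moveW X (setWords.getD k.val []).reverse u := ⟨_, rfl⟩
    have h1 : Far t W := hW ▸ L.moveW_far X _ (hrev k) hu
    have h2 : W ∈ Set.range e := hW ▸ hmove _ (hrev k) u ⟨_, hu'.symm⟩
    have h3 : ∀ i, Near P0 i →
        (Adj W (L.θ X i) ↔ wordN (setWords.getD k.val []) i.val ∈ X0) := fun i hi => by
      have hn := wordP_near _ h5 hi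
      have hback : wordP (setWords.getD k.val []).reverse (wordP (setWords.getD k.val []) i) = i := by
        have := wordP_back (setWords.getD k.val []).reverse i
        rwa [List.reverse_reverse] at this
      have h := L.moveW_adj X (u := u) _ (hrev k) hn
      rw [hback, ← hW] at h
      rw [h, hX _ hn, wordP_val _ h5]
    rw [hF]
    cases b
    · simpa only [cond_false, ← hW] using And.intro h1 (And.intro h2 h3)
    · simp only [cond_true, ← hW]
      refine ⟨hrt W h1, ?_, fun i hi => ?_⟩
      · rw [← L.gen_five X u]; exact hrange 5 (by norm_num) W h2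
      · rw [← h3 i hi]
        conv_lhs => rw [← rr_adj X (L.adj_θ X hi)]
        exact rr_map_adj_iff X t
  have hFinj : Function.Injective F := by
    rintro ⟨k, b⟩ ⟨k', b'⟩ h
    have hk : k = k' := by
      by_contra hne
      obtain ⟨i, hi, hd⟩ := Cert.setWords_sep k k' hne
      refine hd (propext ?_)
      rw [← (hFfar (k, b)).2.2 i hi, ← (hFfar (k', b')).2.2 i hi, h]
    subst hk
    refine Prod.ext rfl ?_
    by_contra hb
    have hfar := (hFfar (k, false)).1
    have h' : F (k, true) = F (k, false) := by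
      cases b <;> cases b' <;> first | exact absurd rfl hb | exact h | exact h.symm
    rw [hF] at h' hfar
    simp only [cond_true, cond_false] at h' hfar
    rw [rr_comm_apply X hfar.2] at h'
    have h'' := congrArg (rr X (L.moveW X (setWords.getD k.val []).reverse u)) h'
    rw [rr_rr, rr_self] at h''
    exact hfar.1 h''.symm
  have hsurj : Function.Surjective e := by
    rw [← Set.range_eq_univ]
    refine Set.eq_of_subset_of_ncard_le (Set.subset_univ _) ?_ (Set.toFinite _)
    rw [Set.ncard_univ, card_tet X t]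
    have hsub : insert t ({v | Adj t v} ∪ Set.range F) ⊆ Set.range e := by
      rintro v (rfl | hv | ⟨kb, rfl⟩)
      · exact ⟨P0, he0⟩
      · obtain ⟨i, hi, rfl⟩ := L.θ_surj X hv
        exact ⟨i, (hnear i hi).1⟩
      · exact (hFfar kb).2.1
    refine le_trans ?_ (Set.ncard_le_ncard hsub (Set.toFinite _))
    rw [Set.ncard_insert_of_notMem, Set.ncard_union_eq, ncard_adj X t,
      Set.ncard_range_of_injective hFinj]
    · simp
    · rw [Set.disjoint_left]
      rintro v hv ⟨kb, rfl⟩
      exact (hFfar kb).1.2 hv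
    · rintro (h | ⟨kb, h⟩)
      exacts [h.1 rfl, (hFfar kb).1.1 h]
  have hbij : Function.Bijective e :=
    hsurj.bijective_of_nat_card_le (by rw [card_tet X t]; simp)
  refine ⟨Equiv.ofBijective e hbij, he0, fun i hi => (hnear i hi).1, ?_⟩
  show ∀ i j, rr X (e i) (e j) = e (perm i j)
  refine Cert.tree_induct ?_ ?_
  · intro j
    have h := hgen 5 (by norm_num) j
    rwa [L.gen_five, Cert.letters_ok.2.1, ← he0] at h
  · intro p p' x hx hperm _ ih j
    rw [← hperm, ← hgen x hx p', gen, ← rr_conj X, Equiv.Perm.mul_apply, Equiv.Perm.mul_apply,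
      ← gen, hgen x hx, ih, hgen x hx]
    exact congrArg e (Cert.perm_conj ⟨x, hx⟩ p' j).symm

end At

/-- The tetrads are the standard points. -/
theorem exists_model (X : Ctx D) {t : Tet D z} (L : At D z t) :
    ∃ e : Fin 126 ≃ Tet D z, e P0 = t ∧ (∀ i, Near P0 i → e i = L.θ X i) ∧
      ∀ i j, rr X (e i) (e j) = e (perm i j) := by
  obtain ⟨u, hu, hX⟩ := L.exists_std X
  exact L.exists_numbering X hu hX

end Cfsg.Agent.ThreeTransp.M24Four
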