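import Cfsg.Agent.Lib.ThreeTransp.M24Four.Action

/-!
In a group of type M(24) the products of two members of one tetrad.
-/

set_option autoImplicit false
set_option linter.unusedSectionVars false
set_option maxRecDepth 100000

noncomputable section

namespace Cfsg.Agent.ThreeTransp.M24Four

open Cfsg.Agent.ThreeTransp
open Cfsg.Agent.ThreeTransp.Factor (nb Rel)
open Cfsg.Agent.ThreeTransp.M22Iso (Vec Pt τ)
open Cfsg.Agent.Forms
open Cfsg.Agent.Classical.Unitary
open Cfsg.Agent.InvChar.Coset (FF)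
open Model (p0 pt perm P0 Near Off)
open At (Far)

local notation "H" => Cfsg.hermForm 6 FF 2

namespace Model

set_option maxHeartbeats 0

/-- A vector from its code. -/
def vec (n : ℕ) : Vec := fun k => dec (Nat.land (Nat.shiftRight n (2 * k.val)) 3)

/-- The two vectors of a letter. -/
def pairU (k : ℕ) : Vec × Vec :=
  let g := pairGens.getD k (0, 0, 0)
  (pt ⟨g.1 % 126, Nat.mod_lt _ (by norm_num)⟩ + dec g.2.1 • p0,
    pt ⟨g.1 % 126, Nat.mod_lt _ (by norm_num)⟩ + dec g.2.2 • p0)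

/-- A step of the orbit. -/
def Step (y x k : ℕ) : Prop :=
  k < pairGens.length ∧ ∃ c : FF, τ (pairU k).1 (τ (pairU k).2 (vec x)) = c • vec y

instance (y x k : ℕ) : Decidable (Step y x k) := inferInstanceAs (Decidable (_ ∧ _))

/-- Every step of the orbit starts from an earlier vector. -/
def vecOK : List ℕ → List (ℕ × ℕ × ℕ) → Bool
  | _, [] => true
  | seen, (y, x, k) :: r => seen.elem x && (decide (Step y x k) && vecOK (y :: seen) r)

theorem vec_ok : vecOK [orbitSeed] vecTree = true := by decide +kernel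

theorem pairGens_near : ∀ k, k < pairGens.length →
    Near P0 ⟨(pairGens.getD k (0, 0, 0)).1 % 126, Nat.mod_lt _ (by norm_num)⟩ := by decide +kernel

/-- The codes of the orbit. -/
def orbitCodes : List ℕ := orbitSeed :: vecTree.map Prod.fst

theorem orbit_len : orbitCodes.length = 512 := by decide +kernel

theorem orbit_nodup : orbitCodes.Nodup := by decide +kernel

theorem orbit_vec : ∀ n ∈ orbitCodes, n < 4096 ∧ Pt (vec n) ∧ H (vec n) p0 = 1 := by decide +kernel

theorem vec_code : ∀ n : Fin 4096, (List.range 6).foldr (fun k r => (match vec n.val (Fin.ofNat 6 k) with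
    | .zero => 0 | .one => 1 | .w => 2 | .w2 => 3) + 4 * r) 0 = n.val := by decide +kernel

theorem vec_inj {m n : ℕ} (hm : m < 4096) (hn : n < 4096) (h : vec m = vec n) : m = n := by
  have h1 := vec_code ⟨m, hm⟩
  have h2 := vec_code ⟨n, hn⟩
  simp only [h] at h1
  exact h1.symm.trans h2

end Model

universe u

variable {G : Type u} [Group G] [Finite G] {D : Set G} {z : G}

theorem pair_mem (X : Ctx D) {s : Tet D z} {x y : G} (hx : x ∈ s.1) (hy : y ∈ s.1) : x * y ∈ CC z :=
  ⟨(M24.Triple.mem_or X.grp X.prim (s.memD hy) x).resolve_left (sgn X x (s.memD hx)),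
    mul_mem (s.memCz hx) (s.memCz hy)⟩

theorem pair_trivial (X : Ctx D) {s : Tet D z} {x y : G} (hx : x ∈ s.1) (hy : y ∈ s.1) :
    Φ X ⟨x * y, pair_mem X hx hy⟩ = 1 := by
  show act X (el hx * el hy) = 1
  rw [map_mul, rr_eq X hx, rr_eq X hy, rr_involutive]

theorem pair_inv (X : Ctx D) {s : Tet D z} {x y : G} (hx : x ∈ s.1) (hy : y ∈ s.1) :
    (x * y)⁻¹ = x * y := by
  rw [_root_.mul_inv_rev, inv X (s.memD hx), inv X (s.memD hy), (s.commute hy hx).eq]

theorem not_commute_far (X : Ctx D) {s t : Tet D z} (h : Far t s) {x a : G} (hx : x ∈ s.1)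
    (ha : a ∈ t.1) : ¬Commute x a := fun hc =>
  h.2 ((adj_iff X ha hx).2 ⟨h.1.symm, hc.symm⟩)

theorem Far.symm' {s t : Tet D z} (h : Far t s) : Far s t :=
  ⟨h.1.symm, fun e => h.2 e.symm⟩

/-- Products from a far tetrad move every member. -/
theorem pair_fpf (X : Ctx D) {s t : Tet D z} (h : Far t s) {x y a : G} (hx : x ∈ s.1) (hy : y ∈ s.1)
    (hxy : x ≠ y) (ha : a ∈ t.1) : x * y * a * (x * y)⁻¹ ≠ a := by
  intro e
  have hxD := s.memD hx
  have hyD := s.memD hy
  have haD := t.memD ha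
  have h1 : y * a * y = x * a * x := by
    calc y * a * y = x * (x * y * a * (x * y)⁻¹) * x := by
          rw [_root_.mul_inv_rev, inv X hxD, inv X hyD]
          simp only [mul_assoc, sq X hxD, mul_one]
          simp only [← mul_assoc, sq X hxD, one_mul]
      _ = x * a * x := by rw [e]
  rw [Basic.braid X.grp.1 hyD haD (not_commute_far X h hy ha),
    Basic.braid X.grp.1 hxD haD (not_commute_far X h hx ha)] at h1
  exact hxy (mul_left_cancel (mul_right_cancel h1)).symm

/-- Different products from a far tetrad give different images. -/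
theorem pair_distinct (X : Ctx D) {s t : Tet D z} (h : Far t s) {x y y' a : G} (hx : x ∈ s.1)
    (hy : y ∈ s.1) (hy' : y' ∈ s.1) (hne : y ≠ y') (ha : a ∈ t.1) :
    x * y * a * (x * y)⁻¹ ≠ x * y' * a * (x * y')⁻¹ := by
  intro e
  rw [_root_.mul_inv_rev, _root_.mul_inv_rev, inv X (s.memD hx), inv X (s.memD hy),
    inv X (s.memD hy')] at e
  have h1 : y * a * y = y' * a * y' := by
    have := congrArg (fun g => x * g * x) e
    simp only [mul_assoc, sq X (s.memD hx), mul_one] at this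
    simp only [← mul_assoc, sq X (s.memD hx), one_mul] at this
    exact this
  rw [Basic.braid X.grp.1 (s.memD hy) (t.memD ha) (not_commute_far X h hy ha),
    Basic.braid X.grp.1 (s.memD hy') (t.memD ha) (not_commute_far X h hy' ha)] at h1
  exact hne (mul_left_cancel (mul_right_cancel h1))

/-- Every other member is the image of one under a product from a far tetrad. -/
theorem pair_regular (X : Ctx D) {s t : Tet D z} (h : Far t s) {x a b : G} (hx : x ∈ s.1)
    (ha : a ∈ t.1) (hb : b ∈ t.1) (hab : b ≠ a) :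
    ∃ y ∈ s.1, x ≠ y ∧ x * y * a * (x * y)⁻¹ = b := by
  classical
  obtain ⟨f, hf⟩ : ∃ f, f = fun y => x * y * a * (x * y)⁻¹ := ⟨_, rfl⟩
  have hmem : f '' (s.1 \ {x}) ⊆ t.1 \ {a} := by
    rintro _ ⟨y, ⟨hy, hne⟩, rfl⟩
    rw [hf]
    refine ⟨?_, pair_fpf X h hx hy (fun e => hne (Set.mem_singleton_iff.2 e.symm)) ha⟩
    have hm := Φ_mem X ⟨x * y, pair_mem X hx hy⟩ ha
    rw [pair_trivial X hx hy] at hm
    exact hm
  have hinj : Set.InjOn f (s.1 \ {x}) := by
    intro y hy y' hy' e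
    by_contra hne
    rw [hf] at e
    exact pair_distinct X h hx hy.1 hy'.1 hne ha e
  have heq := Set.eq_of_subset_of_ncard_le hmem (by
    rw [hinj.ncard_image, Set.ncard_diff_singleton_of_mem hx, Set.ncard_diff_singleton_of_mem ha,
      s.ncard, t.ncard]) (Set.toFinite _)
  obtain ⟨y, ⟨hy, hne⟩, e⟩ := heq.ge ⟨hb, hab⟩
  rw [hf] at e
  exact ⟨y, hy, fun e' => hne (Set.mem_singleton_iff.2 e'.symm), e⟩

/-- A product of two members is moved by a product from a far tetrad. -/
theorem pair_moved (X : Ctx D) {t : Tet D z} {a b c d : G} (q : Quad D z a b c d)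
    (e : t.1 = {a, b, c, d}) :
    ∃ s : Tet D z, ∃ x ∈ s.1, ∃ y ∈ s.1, ¬Commute (a * b) (x * y) := by
  obtain ⟨L⟩ := exists_at X t
  obtain ⟨s, hs, -⟩ := L.exists_std X
  obtain ⟨x, hx⟩ := s.nonempty
  have ha : a ∈ t.1 := by rw [e]; simp
  have hb : b ∈ t.1 := by rw [e]; simp
  have hc : c ∈ t.1 := by rw [e]; simp
  obtain ⟨y, hy, -, hyc⟩ := pair_regular X hs hx ha hc q.tri.hc.2.1
  refine ⟨s, x, hx, y, hy, fun hcom => ?_⟩
  obtain ⟨g, hg⟩ : ∃ g, g = x * y := ⟨_, rfl⟩
  rw [← hg] at hyc hcom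
  have h2 : (g * a * g⁻¹) * (g * b * g⁻¹) = a * b := by
    rw [show g * a * g⁻¹ * (g * b * g⁻¹) = g * (a * b) * g⁻¹ by group]
    exact mul_inv_eq_iff_eq_mul.2 hcom.symm.eq
  rw [hyc] at h2
  have hb' : g * b * g⁻¹ ∈ D := X.grp.2.1 g b q.mB
  have hne : c ≠ g * b * g⁻¹ := by
    rw [← hyc]; exact fun e => q.tri.hb.2.1 (conj_inj e).symm
  have hcc : Commute c (g * b * g⁻¹) := by
    rw [← hyc]; exact Basic.commute_conj.2 q.cab
  rcases Factor.pair_unique X.grp ((rel7 X).mono (by norm_num)) q.mA q.mB q.mC hb'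
    q.tri.hb.2.1.symm hne q.cab hcc h2.symm with ⟨e1, -⟩ | ⟨e1, -⟩
  · exact q.tri.hc.2.1 e1
  · exact q.tri.hbc.2.1 e1

namespace At

variable {t : Tet D z} (L : At D z t)

include L in
/-- What commutes with all products of two members of a tetrad is one or the product of four. -/
theorem central_cases (X : Ctx D) (g : ↥(CC z))
    (h : ∀ (s : Tet D z) (x y : G), x ∈ s.1 → y ∈ s.1 → Commute (g : G) (x * y)) :
    (g : G) = 1 ∨ (g : G) = z := by
  classical
  have fix' : ∀ (s : Tet D z) (x : G), x ∈ s.1 → Commute (g : G) x := by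
    intro s x hx
    obtain ⟨b, c, d, q, e⟩ := s.exists_quad hx
    have hb : b ∈ s.1 := by rw [e]; simp
    have hc : c ∈ s.1 := by rw [e]; simp
    have key : ∀ y, y ∈ s.1 → x ≠ y →
        ((g : G) * x * (g : G)⁻¹ = x ∨ (g : G) * x * (g : G)⁻¹ = y) := by
      intro y hy hxy
      have he : ((g : G) * x * (g : G)⁻¹) * ((g : G) * y * (g : G)⁻¹) = x * y := by
        rw [show (g : G) * x * (g : G)⁻¹ * ((g : G) * y * (g : G)⁻¹) =
          (g : G) * (x * y) * (g : G)⁻¹ by group]
        exact mul_inv_eq_iff_eq_mul.2 (h s x y hx hy).eq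
      rcases Factor.pair_unique X.grp ((rel7 X).mono (by norm_num)) (s.memD hx) (s.memD hy)
        (X.grp.2.1 _ _ (s.memD hx)) (X.grp.2.1 _ _ (s.memD hy)) hxy (fun e => hxy (conj_inj e))
        (s.commute hx hy) (Basic.commute_conj.2 (s.commute hx hy)) he.symm with ⟨e1, -⟩ | ⟨e1, -⟩
      exacts [Or.inl e1, Or.inr e1]
    refine mul_inv_eq_iff_eq_mul.1 ?_
    rcases key b hb q.tri.hb.2.1.symm with e1 | e1
    · exact e1
    rcases key c hc q.tri.hc.2.1.symm with e2 | e2
    · exact e2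
    exact absurd (e1.symm.trans e2).symm q.tri.hbc.2.1
  have ca := fix' t _ (L.tet_mem (Or.inl rfl))
  have cb := fix' t _ (L.tet_mem (Or.inr (Or.inl rfl)))
  have cc := fix' t _ (L.tet_mem (Or.inr (Or.inr (Or.inl rfl))))
  have cd := fix' t _ (L.tet_mem (Or.inr (Or.inr (Or.inr rfl))))
  have hN : N3 D ((g : G) * L.a * (g : G)⁻¹) ((g : G) * L.b * (g : G)⁻¹) ((g : G) * L.c * (g : G)⁻¹) =
      N3 D L.a L.b L.c := by
    rw [mul_inv_eq_iff_eq_mul.2 ca.eq, mul_inv_eq_iff_eq_mul.2 cb.eq, mul_inv_eq_iff_eq_mul.2 cc.eq]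
  obtain ⟨S, hS, μ, hμ⟩ := L.exists_T X (mul_inv_eq_iff_eq_mul.2 cd.eq) hN
  have hpts : ∀ v, Pt v → H v p0 = 0 → ∃ c : FF, S.T v = c • v := by
    intro v hv h0
    by_cases ho : Off v
    · have hc := fix' _ _ (L.mem_lineTet X hv h0 ho 0)
      rw [zero_smul, add_zero] at hc
      have h1 := hS v hv
      rw [mul_inv_eq_iff_eq_mul.2 hc.eq] at h1
      exact (L.K.eq_iff _ _ hv (S.pt hv)).1 h1
    · obtain ⟨k, hk⟩ := not_forall.1 ho
      push Not at hk
      exact ⟨S.σ k * μ * k⁻¹, by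
        have hk0 := pt_p0.smul_ne hv hk
        rw [hk, S.smul, hμ, smul_smul, smul_smul, mul_assoc, inv_mul_cancel₀ hk0, mul_one]⟩
  have hσ := Semi.sigma_id S hμ fun v hv h0 _ => by
    obtain ⟨c, hc⟩ := hpts v hv h0
    exact ⟨c, 0, by rw [hc, zero_smul, add_zero]⟩
  have q := L.q
  have pair : ∀ {x y : G}, x ∈ D → y ∈ D → x * y ∈ commutator G := fun {x y} hx hy =>
    (M24.Triple.mem_or X.grp X.prim hy x).resolve_left (sgn X x hx)
  have hgC : (g : G) ∈ commutator G := g.2.1
  have odd3 : L.a * L.b * L.c ∉ commutator G := fun h =>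
    sgn X _ q.mC ((Subgroup.mul_mem_cancel_left _ (pair q.mA q.mB)).1 h)
  have excl : ∀ {a b c d : G}, Quad D z a b c d → t.1 = {a, b, c, d} → (g : G) ≠ a * b := by
    intro a b c d q' e' hg
    obtain ⟨s, x, hx, y, hy, hn⟩ := pair_moved X q' e'
    exact hn (hg ▸ h s x y hx hy)
  have e3 : ∀ {a b c d : G}, Quad D z a b c d → t.1 = {a, b, c, d} →
      (g : G) ≠ a * c ∧ (g : G) ≠ b * c := fun {a b c d} q' e' =>
    ⟨excl q'.swap' (by rw [e']; ext; simp; tauto),
      excl q'.swap.swap' (by rw [e']; ext; simp; tauto)⟩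
  rcases Semi.id_or_tau S hμ hσ hpts with hid | htau
  · have hcN : ∀ x ∈ N3 D L.a L.b L.c, Commute (g : G) x := by
      intro x hx
      obtain ⟨v, hv, rfl⟩ := L.K.cover' hx
      obtain ⟨c, hc⟩ := hid v hv
      refine mul_inv_eq_iff_eq_mul.1 ?_
      rw [hS v hv, hc, L.K.smul_eq hv (hv.smul_ne (S.pt hv) hc)]
    rcases centraliser_cases X q.tri ca cb cc hcN with e | e | e | e | e | e | e | e
    · exact Or.inl e
    · exact absurd (e ▸ hgC) (sgn X _ q.mA)
    · exact absurd (e ▸ hgC) (sgn X _ q.mB)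
    · exact absurd (e ▸ hgC) (sgn X _ q.mC)
    · exact absurd e (excl q L.eq)
    · exact absurd e (e3 q L.eq).1
    · exact absurd e (e3 q L.eq).2
    · exact absurd (e ▸ hgC) odd3
  · obtain ⟨g', hg'⟩ : ∃ g', g' = (g : G) * L.d := ⟨_, rfl⟩
    have hcN : ∀ x ∈ N3 D L.a L.b L.c, Commute g' x := by
      intro x hx
      obtain ⟨v, hv, rfl⟩ := L.K.cover' hx
      refine mul_inv_eq_iff_eq_mul.1 ?_
      have hd' : L.d * L.K.f v * L.d⁻¹ = L.K.f (τ p0 v) := by
        rw [inv X q.mD, ← L.hK]; exact L.K.line _ _ pt_p0 hv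
      have hp := hv.tau pt_p0.2
      obtain ⟨c, hc⟩ := htau _ hp
      have hinv : τ p0 (τ p0 v) = v := by
        simp only [τ, H_add_left, H_smul_left, pt_p0.2, mul_zero, add_zero, add_assoc,
          M22Iso.vec_add_self]
      rw [hinv] at hc
      rw [hg', show (g : G) * L.d * L.K.f v * ((g : G) * L.d)⁻¹ =
        (g : G) * (L.d * L.K.f v * L.d⁻¹) * (g : G)⁻¹ by group, hd', hS _ hp, hc,
        L.K.smul_eq hv (hv.smul_ne (S.pt hp) hc)]
    have back : (g : G) = g' * L.d := by rw [hg', mul_assoc, sq X q.mD, mul_one]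
    have hodd : g' ∉ commutator G := fun h' => sgn X _ q.mD
      ((Subgroup.mul_mem_cancel_left _ hgC).1 (hg' ▸ h'))
    rcases centraliser_cases X q.tri (hg' ▸ ca.mul_left q.cad.symm) (hg' ▸ cb.mul_left q.cbd.symm)
      (hg' ▸ cc.mul_left q.ccd.symm) hcN with e | e | e | e | e | e | e | e
    · exact absurd (e ▸ one_mem _) hodd
    · rw [e] at back
      exact absurd back (e3 q.swap'' (by rw [L.eq]; ext; simp; tauto)).1
    · rw [e] at back
      exact absurd back (e3 q.swap'' (by rw [L.eq]; ext; simp; tauto)).2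
    · rw [e] at back
      exact absurd back (excl q.swap'.swap.swap''.swap' (by rw [L.eq]; ext; simp; tauto))
    · exact absurd (e ▸ pair q.mA q.mB) hodd
    · exact absurd (e ▸ pair q.mA q.mC) hodd
    · exact absurd (e ▸ pair q.mB q.mC) hodd
    · rw [e] at back
      exact Or.inr (back.trans q.prod)

/-- The subgroup fixing the four members. -/
abbrev Fix : Subgroup G :=
  commutator G ⊓ Subgroup.centralizer ({L.a, L.b, L.c, L.d} : Set G)

/-- The four pair products. -/
def quartet : Fin 4 → G := ![1, L.a * L.b, L.a * L.c, L.b * L.c]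

theorem quartet_inj (X : Ctx D) : Function.Injective L.quartet := by
  have q := L.q
  have n1 : L.a * L.b ≠ 1 := fun h =>
    q.tri.hb.2.1.symm ((mul_eq_one_iff_eq_inv.1 h).trans (inv X q.mB))
  have n2 : L.a * L.c ≠ 1 := fun h =>
    q.tri.hc.2.1.symm ((mul_eq_one_iff_eq_inv.1 h).trans (inv X q.mC))
  have n3 : L.b * L.c ≠ 1 := fun h =>
    q.tri.hbc.2.1.symm ((mul_eq_one_iff_eq_inv.1 h).trans (inv X q.mC))
  have n4 : L.a * L.b ≠ L.a * L.c := fun h => q.tri.hbc.2.1 (mul_left_cancel h).symm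
  have n5 : L.a * L.c ≠ L.b * L.c := fun h => q.tri.hb.2.1 (mul_right_cancel h).symm
  have n6 : L.a * L.b ≠ L.b * L.c := fun h => q.tri.hc.2.1
    (mul_left_cancel (q.cab.eq ▸ h : L.b * L.a = L.b * L.c)).symm
  intro i j h
  fin_cases i <;> fin_cases j <;>
    first
      | rfl
      | exact absurd h n1 | exact absurd h.symm n1 | exact absurd h n2 | exact absurd h.symm n2
      | exact absurd h n3 | exact absurd h.symm n3 | exact absurd h n4 | exact absurd h.symm n4
      | exact absurd h n5 | exact absurd h.symm n5 | exact absurd h n6 | exact absurd h.symm n6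

/-- A subgroup with the pair products of the neighbouring tetrads has order at least `2 ^ 11`. -/
theorem le_card (X : Ctx D) (R : Subgroup G)
    (hp : ∀ i, Near P0 i → ∀ x ∈ (L.θ X i).1, ∀ y ∈ (L.θ X i).1, x * y ∈ R)
    (hE : ∀ k, L.quartet k ∈ R) : 2048 ≤ Nat.card R := by
  classical
  obtain ⟨x0, hx0⟩ : ∃ x0, x0 = L.K.f (Model.vec Model.orbitSeed) := ⟨_, rfl⟩
  have hseed := Model.orbit_vec Model.orbitSeed List.mem_cons_self
  have key : ∀ (r : List (ℕ × ℕ × ℕ)) (seen : List ℕ), Model.vecOK seen r = true →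
      (∀ p ∈ r, (p.1 : ℕ) ∈ Model.orbitCodes) →
      (∀ n ∈ seen, n ∈ Model.orbitCodes ∧ ∃ g ∈ R, g * x0 * g⁻¹ = L.K.f (Model.vec n)) →
      ∀ n ∈ seen ++ r.map Prod.fst, ∃ g ∈ R, g * x0 * g⁻¹ = L.K.f (Model.vec n) := by
    intro r
    induction r with
    | nil => intro seen _ _ hs n hn; exact (hs n (by simpa using hn)).2
    | cons p r ih =>
      obtain ⟨y, x, k⟩ := p
      intro seen h hy hs n hn
      simp only [Model.vecOK, Bool.and_eq_true, decide_eq_true_eq] at h
      obtain ⟨hx, ⟨hk, c, hc⟩, hr⟩ := h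
      obtain ⟨hxc, g, hg, hge⟩ := hs x (by simpa using hx)
      have hyc := hy (y, x, k) List.mem_cons_self
      refine ih (y :: seen) hr (fun p hp => hy p (List.mem_cons_of_mem _ hp)) ?_ n ?_
      · intro m hm
        rcases List.mem_cons.1 hm with rfl | hm
        · refine ⟨hyc, ?_⟩
          obtain ⟨i, hi⟩ : ∃ i : Fin 126, i = ⟨(Model.pairGens.getD k (0, 0, 0)).1 % 126,
              Nat.mod_lt _ (by norm_num)⟩ := ⟨_, rfl⟩
          have hn' : Near P0 i := hi ▸ Model.pairGens_near k hk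
          obtain ⟨l1, l2, hu⟩ : ∃ l1 l2, Model.pairU k = (Model.pt i + l1 • p0, Model.pt i + l2 • p0) :=
            ⟨_, _, by rw [hi]; rfl⟩
          rw [hu] at hc
          have m1 := L.θ_mem X hn' l1
          have m2 := L.θ_mem X hn' l2
          obtain ⟨P1, -, -⟩ := off_pt (Model.pt_std i).1 (near_spec hn').1 (near_spec hn').2 l1
          obtain ⟨P2, -, -⟩ := off_pt (Model.pt_std i).1 (near_spec hn').1 (near_spec hn').2 l2
          refine ⟨_, mul_mem (hp i hn' _ m1 _ m2) hg, ?_⟩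
          have hxP := (Model.orbit_vec x hxc).2.1
          rw [show ∀ u v : G, u * v * g * x0 * (u * v * g)⁻¹ =
              u * (v * (g * x0 * g⁻¹) * v⁻¹) * u⁻¹ from fun u v => by group, hge,
            inv X (L.K.inD P2), L.K.line _ _ P2 hxP, inv X (L.K.inD P1),
            L.K.line _ _ P1 (hxP.tau P2.2), hc,
            L.K.smul_eq (Model.orbit_vec _ hyc).2.1
              ((Model.orbit_vec _ hyc).2.1.smul_ne ((hxP.tau P2.2).tau P1.2) hc)]
        · exact hs m hm
      · simp only [List.map_cons, List.mem_append, List.mem_cons] at hn ⊢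
        tauto
  have horb : ∀ n ∈ Model.orbitCodes, ∃ g ∈ R, g * x0 * g⁻¹ = L.K.f (Model.vec n) := by
    intro n hn
    refine key _ _ Model.vec_ok (fun p hp => List.mem_cons_of_mem _ (List.mem_map.2 ⟨p, hp, rfl⟩))
      (fun m hm => ?_) n (by simpa [Model.orbitCodes] using hn)
    rw [List.mem_singleton] at hm
    exact hm ▸ ⟨List.mem_cons_self, 1, one_mem _, by rw [hx0]; group⟩
  choose g hg hge using horb
  let F : Fin 512 × Fin 4 → R := fun p =>
    ⟨g _ (List.getElem_mem (p.1.isLt.trans_eq Model.orbit_len.symm)) * L.quartet p.2,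
      mul_mem (hg _ _) (hE _)⟩
  have hE0 : ∀ k, L.quartet k * x0 * (L.quartet k)⁻¹ = x0 := by
    intro k
    have hN := L.fmem hseed.2.1
    rw [← hx0] at hN
    refine mul_inv_eq_iff_eq_mul.2 ?_
    fin_cases k <;> simp [quartet]
    · exact ((hN.1.1.2.2).mul_left hN.1.2.2.2).eq
    · exact ((hN.1.1.2.2).mul_left hN.2.2.2).eq
    · exact ((hN.1.2.2.2).mul_left hN.2.2.2).eq
  have hinj : Function.Injective F := by
    rintro ⟨i, k⟩ ⟨j, m⟩ h
    have h' : g _ (List.getElem_mem (i.isLt.trans_eq Model.orbit_len.symm)) * L.quartet k =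
        g _ (List.getElem_mem (j.isLt.trans_eq Model.orbit_len.symm)) * L.quartet m :=
      congrArg Subtype.val h
    have h1 := congrArg (fun w => w * x0 * w⁻¹) h'
    simp only [show ∀ u v : G, u * v * x0 * (u * v)⁻¹ = u * (v * x0 * v⁻¹) * u⁻¹ from
      fun u v => by group, hE0, hge] at h1
    have oi := Model.orbit_vec _ (List.getElem_mem (i.isLt.trans_eq Model.orbit_len.symm))
    have oj := Model.orbit_vec _ (List.getElem_mem (j.isLt.trans_eq Model.orbit_len.symm))
    obtain ⟨c, hc⟩ := (L.K.eq_iff _ _ oi.2.1 oj.2.1).1 h1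
    have hc1 : c = 1 := by
      have := oj.2.2
      rwa [hc, H_smul_left, oi.2.2, mul_one] at this
    rw [hc1, one_smul] at hc
    have hij : i = j := Fin.ext
      ((Model.orbit_nodup.getElem_inj_iff).1 (Model.vec_inj oi.1 oj.1 hc.symm))
    subst hij
    exact Prod.ext rfl (L.quartet_inj X (mul_left_cancel h'))
  have := Nat.card_le_card_of_injective F hinj
  simpa using this

end At

end Cfsg.Agent.ThreeTransp.M24Four
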