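import Cfsg.Agent.Lib.ThreeTransp.M24Four.ModelData

/-!
The sets of neighbours of the base point next to one further point (generated).
-/

set_option autoImplicit false
set_option maxRecDepth 100000
set_option maxHeartbeats 0
set_option linter.all false

noncomputable section

namespace Cfsg.Agent.ThreeTransp.M24Four.Cert

/-- The lines through the base point. -/
def lines : List (List ℕ) := [
  [0, 15, 43, 57, 68],
  [0, 16, 47, 58, 63],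
  [0, 17, 51, 53, 64],
  [1, 15, 44, 55, 69],
  [1, 16, 48, 59, 61],
  [1, 17, 49, 54, 65],
  [2, 15, 45, 56, 67],
  [2, 16, 46, 60, 62],
  [2, 17, 50, 52, 66],
  [3, 12, 43, 59, 66],
  [3, 13, 47, 54, 67],
  [3, 14, 51, 55, 62],
  [4, 12, 46, 53, 69],
  [4, 13, 50, 57, 61],
  [4, 14, 45, 58, 65],
  [5, 12, 49, 56, 63],
  [5, 13, 44, 60, 64],
  [5, 14, 48, 52, 68],
  [6, 9, 43, 60, 65],
  [6, 10, 47, 52, 69],
  [6, 11, 51, 56, 61],
  [7, 9, 48, 53, 67],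
  [7, 10, 49, 57, 62],
  [7, 11, 44, 58, 66],
  [8, 9, 50, 55, 63],
  [8, 10, 45, 59, 64],
  [8, 11, 46, 54, 68]]

/-- The order of the points in the search. -/
def searchOrder : List ℕ := [3, 51, 55, 62, 14, 9, 1, 8, 63, 50, 15, 44, 69, 49, 16, 17, 54, 65, 60, 2, 46, 52, 66, 11, 68, 6, 43, 12, 5, 56, 48, 61, 59, 0, 57, 47, 58, 10, 7, 53, 4, 64, 45, 13, 67]

/-- The standard set. -/
def X0 : List ℕ := [6, 7, 8, 12, 13, 14, 15, 16, 17, 43, 48, 50, 54, 56, 58, 62, 64, 69]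

/-- Words carrying the forty sets to the standard one. -/
def setWords : List (List ℕ) := [
  [],
  [0, 1],
  [0, 1, 2],
  [0, 2],
  [0, 2, 1],
  [0, 2, 3, 2],
  [0, 3],
  [1],
  [1, 0, 2],
  [1, 0, 3],
  [1, 2],
  [1, 2, 1],
  [1, 2, 3],
  [1, 3, 0, 1],
  [1, 4, 0, 2, 1],
  [2],
  [2, 0, 1],
  [2, 1],
  [2, 3],
  [2, 3, 2],
  [2, 3, 4, 2, 1],
  [3],
  [3, 0, 1],
  [3, 1, 0, 2],
  [3, 1, 0, 3],
  [3, 2],
  [3, 2, 1],
  [3, 4, 0, 2, 1],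
  [3, 4, 1, 2],
  [3, 4, 2, 1],
  [4],
  [4, 0, 2, 1],
  [4, 1, 0, 2],
  [4, 1, 0, 3],
  [4, 1, 2],
  [4, 2, 1],
  [4, 2, 3],
  [4, 3, 0, 1],
  [4, 3, 2],
  [4, 3, 2, 1]]

end Cfsg.Agent.ThreeTransp.M24Four.Cert
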