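import Cfsg.Agent.Lib.ThreeTransp.M24Four.Chart
import Cfsg.Agent.Lib.ThreeTransp.Factor.Lists

/-!
In a group of type M(24) the sets of four commuting members with a given product, and the action of
the centraliser of the product on them.
-/

set_option autoImplicit false
set_option linter.unusedSectionVars false

namespace Cfsg.Agent.ThreeTransp.M24Four

open Cfsg.Agent.ThreeTransp
open Cfsg.Agent.ThreeTransp.Factor (nb Rel)

universe u

variable {G : Type u} [Group G]

/-- Four commuting members with product `z`. -/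
structure Quad (D : Set G) (z a b c d : G) : Prop where
  tri : M24.Triple.Tri D a b c
  hd : d ∈ nb D a
  hdb : d ∈ nb D b
  hdc : d ∈ nb D c
  prod : a * b * c * d = z

/-- A set of four commuting members with product `z`. -/
def IsTet (D : Set G) (z : G) (s : Set G) : Prop :=
  ∃ a b c d, Quad D z a b c d ∧ s = {a, b, c, d}

/-- The sets of four commuting members with product `z`. -/
abbrev Tet (D : Set G) (z : G) : Type u := {s : Set G // IsTet D z s}

/-- The centraliser of the product. -/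
abbrev Cz (z : G) : Subgroup G := Subgroup.centralizer ({z} : Set G)

theorem mem_Cz {z g : G} : g ∈ Cz z ↔ Commute g z := by
  rw [M23.Pair.mem_cent]
  exact ⟨Commute.symm, Commute.symm⟩

theorem conj_z {z g : G} (hg : g ∈ Cz z) : g * z * g⁻¹ = z :=
  mul_inv_eq_iff_eq_mul.2 (mem_Cz.1 hg).eq

namespace Quad

variable {D : Set G} {z a b c d : G} (q : Quad D z a b c d)
include q

theorem mA : a ∈ D := q.tri.ha
theorem mB : b ∈ D := q.tri.hb.1
theorem mC : c ∈ D := q.tri.hc.1
theorem mD : d ∈ D := q.hd.1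
theorem cab : Commute a b := q.tri.hb.2.2
theorem cac : Commute a c := q.tri.hc.2.2
theorem cad : Commute a d := q.hd.2.2
theorem cbc : Commute b c := q.tri.hbc.2.2
theorem cbd : Commute b d := q.hdb.2.2
theorem ccd : Commute c d := q.hdc.2.2

/-- The first two exchanged. -/
theorem swap : Quad D z b a c d :=
  ⟨⟨q.mB, Cover.mem_nb_symm q.mA q.tri.hb, q.tri.hbc, q.tri.hc⟩, q.hdb, q.hd, q.hdc, by
    rw [← q.cab.eq]; exact q.prod⟩

/-- The middle two exchanged. -/
theorem swap' : Quad D z a c b d :=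
  ⟨⟨q.mA, q.tri.hc, q.tri.hb, Cover.mem_nb_symm q.mB q.tri.hbc⟩, q.hd, q.hdc, q.hdb, by
    rw [mul_assoc a c b, ← q.cbc.eq, ← mul_assoc]; exact q.prod⟩

/-- The last two exchanged. -/
theorem swap'' : Quad D z a b d c :=
  ⟨⟨q.mA, q.tri.hb, q.hd, q.hdb⟩, q.tri.hc, q.tri.hbc, Cover.mem_nb_symm q.mC q.hdc, by
    rw [mul_assoc (a * b) d c, ← q.ccd.eq, ← mul_assoc]; exact q.prod⟩

theorem commute {x y : G} (hx : x ∈ ({a, b, c, d} : Set G)) (hy : y ∈ ({a, b, c, d} : Set G)) :
    Commute x y := by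
  rcases hx with rfl | rfl | rfl | rfl <;> rcases hy with rfl | rfl | rfl | rfl <;>
    first
      | exact Commute.refl _
      | exact q.cab | exact q.cac | exact q.cad | exact q.cbc | exact q.cbd | exact q.ccd
      | exact q.cab.symm | exact q.cac.symm | exact q.cad.symm | exact q.cbc.symm
      | exact q.cbd.symm | exact q.ccd.symm

theorem mem {x : G} (hx : x ∈ ({a, b, c, d} : Set G)) : x ∈ D := by
  rcases hx with rfl | rfl | rfl | rfl
  exacts [q.mA, q.mB, q.mC, q.mD]

theorem commute_z {x : G} (hx : x ∈ ({a, b, c, d} : Set G)) : Commute x z := by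
  rw [← q.prod]
  exact (((q.commute hx (by simp)).mul_right (q.commute hx (by simp))).mul_right
    (q.commute hx (by simp))).mul_right (q.commute hx (by simp))

theorem start {x : G} (hx : x ∈ ({a, b, c, d} : Set G)) :
    ∃ b' c' d', Quad D z x b' c' d' ∧ ({x, b', c', d'} : Set G) = {a, b, c, d} := by
  rcases hx with rfl | rfl | rfl | rfl
  · exact ⟨_, _, _, q, rfl⟩
  · exact ⟨_, _, _, q.swap, by ext; simp; tauto⟩
  · exact ⟨_, _, _, q.swap'.swap, by ext; simp; tauto⟩
  · exact ⟨_, _, _, q.swap''.swap'.swap, by ext; simp; tauto⟩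

theorem list_data :
    [a, b, c, d].Nodup ∧ (∀ x ∈ [a, b, c, d], x ∈ D) ∧
      ∀ x ∈ [a, b, c, d], ∀ y ∈ [a, b, c, d], Commute x y := by
  refine ⟨?_, fun x hx => q.mem (by simpa using hx), fun x hx y hy =>
    q.commute (by simpa using hx) (by simpa using hy)⟩
  simp [q.tri.hb.2.1.symm, q.tri.hc.2.1.symm, q.hd.2.1.symm, q.tri.hbc.2.1.symm, q.hdb.2.1.symm,
    q.hdc.2.1.symm]

theorem ncard_four : ({a, b, c, d} : Set G).ncard = 4 := by
  classical
  have e : ({a, b, c, d} : Set G) = ↑([a, b, c, d].toFinset) := by ext; simp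
  rw [e, Set.ncard_coe_finset, List.toFinset_card_of_nodup q.list_data.1]
  rfl

variable [Finite G]

theorem conj (hD : Cfsg.IsThreeTranspositionGroup D) {g : G} (hg : g ∈ Cz z) :
    Quad D z (g * a * g⁻¹) (g * b * g⁻¹) (g * c * g⁻¹) (g * d * g⁻¹) :=
  ⟨⟨hD.2.1 g a q.mA, Cover.conj_nb hD g q.tri.hb, Cover.conj_nb hD g q.tri.hc,
    Cover.conj_nb hD g q.tri.hbc⟩, Cover.conj_nb hD g q.hd, Cover.conj_nb hD g q.hdb,
    Cover.conj_nb hD g q.hdc, by
      rw [show g * a * g⁻¹ * (g * b * g⁻¹) * (g * c * g⁻¹) * (g * d * g⁻¹) =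
        g * (a * b * c * d) * g⁻¹ by group, q.prod, conj_z hg]⟩

/-- The first member determines the other three. -/
theorem unique (X : Ctx D) {b' c' d' : G} (q' : Quad D z a b' c' d') :
    ({a, b, c, d} : Set G) = {a, b', c', d'} := by
  have tr : ∀ {b c d : G}, Quad D z a b c d →
      [b, c, d].Nodup ∧ [b, c, d].length = 3 ∧ (∀ x ∈ [b, c, d], x ∈ D) ∧
        (∀ x ∈ [b, c, d], ∀ y ∈ [b, c, d], Commute x y) ∧ [b, c, d].prod = a * z :=
    fun {b c d} p => by
    obtain ⟨h1, h2, h3⟩ := p.list_data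
    refine ⟨(List.nodup_cons.1 h1).2, rfl, fun x hx => h2 x (List.mem_cons_of_mem _ hx),
      fun x hx y hy => h3 x (List.mem_cons_of_mem _ hx) y (List.mem_cons_of_mem _ hy), ?_⟩
    rw [← p.prod, mul_assoc a b c, mul_assoc a (b * c) d, ← mul_assoc a a, sq X p.mA, one_mul]
    simp [mul_assoc]
  have h := Factor.list_triple X.grp ((rel7 X).mono (by norm_num)) (a * z) _ _ (tr q) (tr q')
  ext x
  have hx := h x
  simp only [List.mem_cons, List.not_mem_nil, or_false] at hx
  simp only [Set.mem_insert_iff, Set.mem_singleton_iff]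
  tauto

end Quad

variable [Finite G] {D : Set G} {z : G}

theorem z_sq (X : Ctx D) {a b c d : G} (q : Quad D z a b c d) : z * z = 1 := by
  rw [← q.prod, mul_assoc (a * b * c) d, ((q.cad.mul_left q.cbd).mul_left q.ccd).symm.left_comm,
    sq X q.mD, mul_one, mul_assoc (a * b) c, (q.cac.mul_left q.cbc).symm.left_comm, sq X q.mC,
    mul_one, mul_assoc a b, q.cab.symm.left_comm, sq X q.mB, mul_one, sq X q.mA]

theorem z_mem (X : Ctx D) {a b c d : G} (q : Quad D z a b c d) : z ∈ commutator G := by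
  have pair : ∀ {x y : G}, x ∈ D → y ∈ D → x * y ∈ commutator G := fun {x y} hx hy =>
    (M24.Triple.mem_or X.grp X.prim hy x).resolve_left (sgn X x hx)
  rw [← q.prod, mul_assoc (a * b) c d]
  exact mul_mem (pair q.mA q.mB) (pair q.mC q.mD)

theorem z_ne_one (X : Ctx D) {a b c d : G} (q : Quad D z a b c d) : z ≠ 1 := by
  intro h
  obtain ⟨h1, h2, h3⟩ := q.list_data
  refine (rel7 X).mono (show 4 ≤ 7 by norm_num) [a, b, c, d] h1 (by simp) (by simp) h2 h3 ?_
  rw [← h, ← q.prod]
  simp [mul_assoc]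

namespace Tet

theorem exists_quad (s : Tet D z) {x : G} (hx : x ∈ s.1) :
    ∃ b c d, Quad D z x b c d ∧ s.1 = {x, b, c, d} := by
  obtain ⟨a, b, c, d, q, e⟩ := s.2
  obtain ⟨b', c', d', q', e'⟩ := q.start (e ▸ hx)
  exact ⟨b', c', d', q', e.trans e'.symm⟩

theorem nonempty (s : Tet D z) : ∃ x, x ∈ s.1 := by
  obtain ⟨a, b, c, d, -, e⟩ := s.2
  exact ⟨a, e ▸ Set.mem_insert _ _⟩

theorem ext_mem (X : Ctx D) {s t : Tet D z} {x : G} (hs : x ∈ s.1) (ht : x ∈ t.1) : s = t := by
  obtain ⟨b, c, d, q, e⟩ := s.exists_quad hs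
  obtain ⟨b', c', d', q', e'⟩ := t.exists_quad ht
  exact Subtype.ext (e.trans ((q.unique X q').trans e'.symm))

theorem memD (s : Tet D z) {x : G} (hx : x ∈ s.1) : x ∈ D := by
  obtain ⟨b, c, d, q, -⟩ := s.exists_quad hx
  exact q.mA

theorem memCz (s : Tet D z) {x : G} (hx : x ∈ s.1) : x ∈ Cz z := by
  obtain ⟨b, c, d, q, -⟩ := s.exists_quad hx
  exact mem_Cz.2 (q.commute_z (Set.mem_insert _ _))

theorem commute (s : Tet D z) {x y : G} (hx : x ∈ s.1) (hy : y ∈ s.1) : Commute x y := by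
  obtain ⟨b, c, d, q, e⟩ := s.exists_quad hx
  rw [e] at hy
  exact q.commute (Set.mem_insert _ _) hy

theorem ncard (s : Tet D z) : s.1.ncard = 4 := by
  obtain ⟨a, b, c, d, q, e⟩ := s.2
  rw [e, q.ncard_four]

/-- The image under conjugation. -/
def cj (X : Ctx D) (g : ↥(Cz z)) (s : Tet D z) : Tet D z :=
  ⟨(fun x => (g : G) * x * (g : G)⁻¹) '' s.1, by
    obtain ⟨a, b, c, d, q, e⟩ := s.2
    exact ⟨_, _, _, _, q.conj X.grp g.2, by rw [e]; simp [Set.image_insert_eq]⟩⟩

theorem mem_cj (X : Ctx D) (g : ↥(Cz z)) {s : Tet D z} {x : G} (hx : x ∈ s.1) :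
    (g : G) * x * (g : G)⁻¹ ∈ (cj X g s).1 := ⟨x, hx, rfl⟩

end Tet

/-- The action on the tetrads. -/
def act (X : Ctx D) : ↥(Cz z) →* Equiv.Perm (Tet D z) where
  toFun g :=
    { toFun := Tet.cj X g
      invFun := Tet.cj X g⁻¹
      left_inv := fun s => Subtype.ext <| by
        simp only [Tet.cj, Set.image_image]
        refine (Set.image_congr fun x _ => ?_).trans (Set.image_id s.1)
        simp only [id, Subgroup.coe_inv]
        group
      right_inv := fun s => Subtype.ext <| by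
        simp only [Tet.cj, Set.image_image]
        refine (Set.image_congr fun x _ => ?_).trans (Set.image_id s.1)
        simp only [id, Subgroup.coe_inv]
        group }
  map_one' := by
    refine Equiv.ext fun s => Subtype.ext ?_
    show (fun x => ((1 : ↥(Cz z)) : G) * x * ((1 : ↥(Cz z)) : G)⁻¹) '' s.1 = s.1
    simp
  map_mul' g h := by
    refine Equiv.ext fun s => Subtype.ext ?_
    show _ '' s.1 = _ '' (_ '' s.1)
    rw [Set.image_image]
    congr 1
    funext x
    simp only [Subgroup.coe_mul]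
    group

theorem act_mem (X : Ctx D) (g : ↥(Cz z)) {s : Tet D z} {x : G} (hx : x ∈ s.1) :
    (g : G) * x * (g : G)⁻¹ ∈ (act X g s).1 := ⟨x, hx, rfl⟩

theorem act_eq_of_mem (X : Ctx D) (g : ↥(Cz z)) {s t : Tet D z} {x : G} (hx : x ∈ s.1)
    (hy : (g : G) * x * (g : G)⁻¹ ∈ t.1) : act X g s = t :=
  Tet.ext_mem X (act_mem X g hx) hy

/-- A member as an element of the centraliser of the product. -/
abbrev el {s : Tet D z} {x : G} (hx : x ∈ s.1) : ↥(Cz z) := ⟨x, s.memCz hx⟩

theorem conj_el (X : Ctx D) {s : Tet D z} {x y : G} (hx : x ∈ s.1) :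
    ((el hx : ↥(Cz z)) : G) * y * ((el hx : ↥(Cz z)) : G)⁻¹ = x * y * x := by
  show x * y * x⁻¹ = x * y * x
  rw [inv X (s.memD hx)]

/-- Two members commute as soon as one commutes with its conjugate by the other. -/
theorem commute_of_conj (X : Ctx D) {x y : G} (hx : x ∈ D) (hy : y ∈ D)
    (h : Commute (x * y * x) y) : Commute x y := by
  by_contra hn
  rw [Basic.braid X.grp.1 hx hy hn] at h
  have h' := h.eq
  rw [mul_assoc (y * x) y y, sq X hy, mul_one, ← mul_assoc, ← mul_assoc, sq X hy, one_mul] at h'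
  exact hn h'.symm

/-- Between two tetrads commuting is all or none. -/
theorem all_commute (X : Ctx D) {s t : Tet D z} {x y x' y' : G} (hx : x ∈ s.1) (hy : y ∈ t.1)
    (h : Commute x y) (hx' : x' ∈ s.1) (hy' : y' ∈ t.1) : Commute x' y' := by
  have half : ∀ {s t : Tet D z} {x y x' : G}, x ∈ s.1 → y ∈ t.1 → Commute x y → x' ∈ s.1 →
      Commute x' y := by
    intro s t x y x' hx hy h hx'
    have hs : act X (el hy) s = s := act_eq_of_mem X _ hx (by
      rw [conj_el X hy, h.symm.eq, mul_assoc, sq X (t.memD hy), mul_one]; exact hx)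
    have hm := act_mem X (el hy) hx'
    rw [hs, conj_el X hy] at hm
    exact (commute_of_conj X (t.memD hy) (s.memD hx') (s.commute hm hx')).symm
  exact (half hy (hx' : x' ∈ s.1) (half hx hy h hx').symm hy').symm

/-- Distinct tetrads whose members commute. -/
def Adj (s t : Tet D z) : Prop := s ≠ t ∧ ∀ x ∈ s.1, ∀ y ∈ t.1, Commute x y

theorem adj_iff (X : Ctx D) {s t : Tet D z} {x y : G} (hx : x ∈ s.1) (hy : y ∈ t.1) :
    Adj s t ↔ s ≠ t ∧ Commute x y :=
  ⟨fun h => ⟨h.1, h.2 x hx y hy⟩, fun h => ⟨h.1, fun _ hx' _ hy' => all_commute X hx hy h.2 hx' hy'⟩⟩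

theorem Adj.symm {s t : Tet D z} (h : Adj s t) : Adj t s :=
  ⟨h.1.symm, fun y hy x hx => (h.2 x hx y hy).symm⟩

/-- The permutation induced by the members of a tetrad. -/
noncomputable def rr (X : Ctx D) (s : Tet D z) : Equiv.Perm (Tet D z) :=
  act X (el (Classical.choose_spec s.nonempty))

theorem el_apply (X : Ctx D) {s : Tet D z} {x y : G} (hx : x ∈ s.1) (hy : y ∈ s.1) (u : Tet D z) :
    act X (el hx) u = act X (el hy) u := by
  obtain ⟨w, hw⟩ := u.nonempty
  by_cases h : Commute x w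
  · have key : ∀ {p : G} (hp : p ∈ s.1), act X (el hp) u = u := fun {p} hp =>
      act_eq_of_mem X _ hw (by
        have hc : Commute p w := by
          by_cases e : s = u
          · subst e; exact s.commute hp hw
          · exact all_commute X hx hw h hp hw
        rw [conj_el X hp, hc.eq, mul_assoc, sq X (s.memD hp), mul_one]; exact hw)
    rw [key hx, key hy]
  · have key : ∀ {p : G} (hp : p ∈ s.1), act X (el hp) u = act X (el hw) s := fun {p} hp => by
      have hn : ¬Commute p w := fun hc => h (all_commute X hp hw hc hx hw)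
      refine act_eq_of_mem X _ hw ?_
      rw [conj_el X hp, Basic.braid X.grp.1 (s.memD hp) (u.memD hw) hn, ← conj_el X hw]
      exact act_mem X (el hw) hp
    rw [key hx, key hy]

theorem rr_eq (X : Ctx D) {s : Tet D z} {x : G} (hx : x ∈ s.1) : act X (el hx) = rr X s :=
  Equiv.ext fun u => el_apply X hx _ u

theorem rr_involutive (X : Ctx D) (s : Tet D z) : rr X s * rr X s = 1 := by
  rw [rr, ← map_mul, show el (Classical.choose_spec s.nonempty) * el _ = 1 from
    Subtype.ext (sq X (s.memD (Classical.choose_spec s.nonempty))), map_one]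

theorem rr_rr (X : Ctx D) (s u : Tet D z) : rr X s (rr X s u) = u := by
  rw [← Equiv.Perm.mul_apply, rr_involutive, Equiv.Perm.one_apply]

theorem rr_self (X : Ctx D) (s : Tet D z) : rr X s s = s := by
  obtain ⟨x, hx⟩ := s.nonempty
  rw [← rr_eq X hx]
  exact act_eq_of_mem X _ hx (by rw [conj_el X hx, sq X (s.memD hx), one_mul]; exact hx)

theorem rr_adj (X : Ctx D) {s u : Tet D z} (h : Adj s u) : rr X s u = u := by
  obtain ⟨x, hx⟩ := s.nonempty
  obtain ⟨y, hy⟩ := u.nonempty
  rw [← rr_eq X hx]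
  refine act_eq_of_mem X _ hy ?_
  rw [conj_el X hx, (h.2 x hx y hy).eq, mul_assoc, sq X (s.memD hx), mul_one]
  exact hy

theorem conj_el_eq (X : Ctx D) (g : ↥(Cz z)) {s : Tet D z} {x : G} (hx : x ∈ s.1) :
    g * el hx * g⁻¹ = el (act_mem X g hx) := Subtype.ext rfl

/-- Equivariance. -/
theorem rr_equivariant (X : Ctx D) (g : ↥(Cz z)) (s : Tet D z) :
    act X g * rr X s * (act X g)⁻¹ = rr X (act X g s) := by
  obtain ⟨x, hx⟩ := s.nonempty
  rw [← rr_eq X hx, ← rr_eq X (act_mem X g hx), ← conj_el_eq X g hx, map_mul, map_mul, map_inv]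

theorem rr_conj (X : Ctx D) (s u : Tet D z) :
    rr X s * rr X u * rr X s = rr X (rr X s u) := by
  obtain ⟨x, hx⟩ := s.nonempty
  have h := rr_equivariant X (el hx) u
  rwa [rr_eq X hx, inv_eq_of_mul_eq_one_right (rr_involutive X s)] at h

theorem rr_comm_apply (X : Ctx D) {s u : Tet D z} (h : ¬Adj s u) : rr X s u = rr X u s := by
  by_cases e : s = u
  · rw [e]
  obtain ⟨x, hx⟩ := s.nonempty
  obtain ⟨y, hy⟩ := u.nonempty
  have hn : ¬Commute x y := fun hc => h ((adj_iff X hx hy).2 ⟨e, hc⟩)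
  rw [← rr_eq X hx, ← rr_eq X hy]
  refine act_eq_of_mem X _ hy ?_
  rw [conj_el X hx, Basic.braid X.grp.1 (s.memD hx) (u.memD hy) hn, ← conj_el X hy]
  exact act_mem X (el hy) hx

theorem rr_braid (X : Ctx D) {s u : Tet D z} (h : ¬Adj s u) :
    rr X s * rr X u * rr X s = rr X u * rr X s * rr X u := by
  rw [rr_conj, rr_conj, rr_comm_apply X h]

theorem rr_adj_comm (X : Ctx D) {s u : Tet D z} (h : Adj s u) :
    rr X s * rr X u = rr X u * rr X s := by
  have e := rr_conj X s u
  rw [rr_adj X h] at e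
  calc rr X s * rr X u = rr X s * rr X u * (rr X s * rr X s) := by rw [rr_involutive, mul_one]
    _ = rr X u * rr X s := by rw [← mul_assoc, e]

theorem act_adj (X : Ctx D) (g : ↥(Cz z)) {s u : Tet D z} (h : Adj s u) :
    Adj (act X g s) (act X g u) := by
  refine ⟨fun e => h.1 ((act X g).injective e), ?_⟩
  rintro _ ⟨x, hx, rfl⟩ _ ⟨y, hy, rfl⟩
  exact Basic.commute_conj.2 (h.2 x hx y hy)

end Cfsg.Agent.ThreeTransp.M24Four
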